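import Mathlib
import Cfsg.Agent.H916.RG.Pair_m3
import Cfsg.Agent.H999.PslGraph
import Cfsg.Agent.H199.PslAut
import Cfsg.Agent.FastGrp
import Cfsg.Agent.Prune
set_option linter.all false

section
prune_inst 0x7ffeb9fbeffbb7ffffff7ff7fededffdffbdfffffffffdfbffe861ffafdf6b1ecdc77fadeff87aff1ff7629454fa7b53fffffeffea6ffc7ffffdfff4dffbffdfffffbd08119ea8b41f7c6ffffbf07f8e7f3fffffffffffffffffffffffffffbeffffffffffff

-- part: H384/RC/Core
section
prune_inst 0x14600100040000000000801210002004200000000020000159e00502000613220804210048000c0008102a100000000000100050001000000000000000000000002a50061100a000200000003003180c00000000000000000000000000041000000000000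
set_option linter.all false
open scoped Cfsg.Agent.FastGrp

/-!
# S3510 part B: core definitions and the abstract rule (helper384)

* `RCo S`: odd order automorphisms of `S` have the regular cycle property.
* `Killed t`: the involution `t` of `Aut S` cannot be part of a bad cover together with commuting
  elements of distinct odd prime orders.
* `killed_of`: the abstract rule (M-rule + root element).
* `rc_of_killed`: assembly.
-/

set_option autoImplicit false
open MulAction

namespace Cfsg.Agent.H384.RC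

open Cfsg.Agent.H106.RC

/-- odd order automorphisms have the regular cycle property -/
def RCo (S : Type*) [Group S] : Prop := ∀ α : MulAut S, Odd (orderOf α) → RCe S α

theorem RCo.of_RC {S : Type*} [Group S] (h : RC S) : RCo S := fun α _ => h α

theorem RCo.congr {S S' : Type*} [Group S] [Group S'] (e : S ≃* S') (h : RCo S) : RCo S' := by
  intro g hg
  have h1 : orderOf ((MulAut.congr e).symm g) = orderOf g :=
    orderOf_injective (MulAut.congr e).symm.toMonoidHom (MulAut.congr e).symm.injective g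
  have := (h ((MulAut.congr e).symm g) (by rw [h1]; exact hg)).congr e
  rwa [MulEquiv.apply_symm_apply] at this

/-- the involution `t` of `Aut S` is never part of a bad cover with odd primes -/
def Killed {S : Type*} [Group S] (t : MulAut S) : Prop :=
  ∀ (κ : Type) [Finite κ] (x : κ → MulAut S) (r : κ → ℕ), (∀ i, (r i).Prime) → (∀ i, r i ≠ 2) →
    Function.Injective r → (∀ i, x i ^ r i = 1) → (∀ i, x i ≠ 1) →
    (∀ i j, x i * x j = x j * x i) → (∀ i, t * x i = x i * t) →
    ∀ H : Subgroup (MulAut S),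
      (∀ s : S, MulAut.conj s * t * (MulAut.conj s)⁻¹ ∈ H ∨
        ∃ i, MulAut.conj s * x i * (MulAut.conj s)⁻¹ ∈ H) →
      (MulAut.conj : S →* MulAut S).range ≤ H

section conj

variable {S : Type*} [Group S]

theorem aut_conj (a : MulAut S) (s : S) : a * MulAut.conj s * a⁻¹ = MulAut.conj (a s) := by
  ext x
  simp [MulAut.conj_apply]

/-- `Killed` is invariant under conjugation -/
theorem Killed.conj {t : MulAut S} (h : Killed t) (a : MulAut S) : Killed (a * t * a⁻¹) := by
  intro κ _ x r hr hr2 hinj hx hx1 hc hct H hH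
  let H' : Subgroup (MulAut S) := H.comap (MulAut.conj a).toMonoidHom
  have hmem : ∀ z, z ∈ H' ↔ a * z * a⁻¹ ∈ H := fun z => Iff.rfl
  have key := h κ (fun i => a⁻¹ * x i * a) r hr hr2 hinj
    (fun i => by
      have : a⁻¹ * x i * a = a⁻¹ * x i * (a⁻¹)⁻¹ := by rw [inv_inv]
      rw [this, conj_pow, hx, mul_one, mul_inv_cancel])
    (fun i h1 => hx1 i (by
      have : x i = a * (a⁻¹ * x i * a) * a⁻¹ := by group
      rw [this, h1]; group))
    (fun i j => by
      calc a⁻¹ * x i * a * (a⁻¹ * x j * a) = a⁻¹ * (x i * x j) * a := by group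
        _ = a⁻¹ * (x j * x i) * a := by rw [hc]
        _ = _ := by group)
    (fun i => by
      have h1 := hct i
      calc t * (a⁻¹ * x i * a) = a⁻¹ * (a * t * a⁻¹ * x i) * a := by group
        _ = a⁻¹ * (x i * (a * t * a⁻¹)) * a := by rw [h1]
        _ = _ := by group)
    H' (by
      intro s
      have e1 : ∀ z : MulAut S, a * (MulAut.conj s * z * (MulAut.conj s)⁻¹) * a⁻¹ =
          MulAut.conj (a s) * (a * z * a⁻¹) * (MulAut.conj (a s))⁻¹ := by
        intro z
        rw [← aut_conj]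
        group
      rcases hH (a s) with h1 | ⟨i, h1⟩
      · left
        rw [hmem, e1]
        exact h1
      · right
        refine ⟨i, ?_⟩
        rw [hmem, e1]
        have : a * (a⁻¹ * x i * a) * a⁻¹ = x i := by group
        rw [this]
        exact h1)
  rintro _ ⟨s, rfl⟩
  have h2 : MulAut.conj (a⁻¹ s) ∈ H' := key ⟨a⁻¹ s, rfl⟩
  rw [hmem, aut_conj] at h2
  simpa using h2

end conj

section transport

variable {S S' : Type*} [Group S] [Group S']

theorem congr_conj (e : S ≃* S') (s : S) : MulAut.congr e (MulAut.conj s) = MulAut.conj (e s) := by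
  ext x
  simp [MulAut.congr]

/-- `Killed` transports along isomorphisms -/
theorem Killed.congr (e : S ≃* S') {t : MulAut S} (h : Killed t) : Killed (MulAut.congr e t) := by
  intro κ _ x r hr hr2 hinj hx hx1 hc hct H hH
  let H' : Subgroup (MulAut S) := H.comap (MulAut.congr e).toMonoidHom
  have hmem : ∀ z, z ∈ H' ↔ MulAut.congr e z ∈ H := fun z => Iff.rfl
  have hs : ∀ z, MulAut.congr e ((MulAut.congr e).symm z) = z := fun z =>
    MulEquiv.apply_symm_apply _ z
  have hinj' := (MulAut.congr e).injective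
  have key := h κ (fun i => (MulAut.congr e).symm (x i)) r hr hr2 hinj
    (fun i => by rw [← map_pow, hx, map_one])
    (fun i h1 => hx1 i (by rw [← hs (x i), h1, map_one]))
    (fun i j => by rw [← map_mul, ← map_mul, hc])
    (fun i => by
      apply hinj'
      rw [map_mul, map_mul, hs, hct])
    H' (by
      intro s
      rcases hH (e s) with h1 | ⟨i, h1⟩
      · left
        rw [hmem, map_mul, map_mul, map_inv, congr_conj]
        exact h1
      · right
        refine ⟨i, ?_⟩
        rw [hmem, map_mul, map_mul, map_inv, congr_conj, hs]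
        exact h1)
  rintro _ ⟨s, rfl⟩
  have h2 : MulAut.conj (e.symm s) ∈ H' := key ⟨e.symm s, rfl⟩
  rw [hmem, congr_conj] at h2
  simpa using h2

end transport

section rule

variable {S : Type*} [Group S]

/-- `Inn S` -/
abbrev inn (S : Type*) [Group S] : Subgroup (MulAut S) := (MulAut.conj : S →* MulAut S).range

theorem inn_conj_mem {n : MulAut S} (hn : n ∈ inn S) (a : MulAut S) : a * n * a⁻¹ ∈ inn S := by
  obtain ⟨s, rfl⟩ := hn
  exact ⟨a s, (aut_conj a s).symm⟩

/-- if an element `y ≠ 1` of `Inn S` has all conjugates in `H`, then `Inn S ≤ H`, `S` simple -/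
theorem inn_le_of_conj (hS : IsSimpleGroup S) {y : MulAut S}
    (hy : y ∈ inn S) (hy1 : y ≠ 1) (H : Subgroup (MulAut S))
    (h : ∀ s : S, MulAut.conj s * y * (MulAut.conj s)⁻¹ ∈ H) : inn S ≤ H := by
  obtain ⟨u, rfl⟩ := hy
  have hu : u ≠ 1 := by
    rintro rfl
    exact hy1 (map_one _)
  have h1 : Subgroup.normalClosure {u} ≤ H.comap (MulAut.conj : S →* MulAut S) := by
    rw [Subgroup.normalClosure, Subgroup.closure_le]
    intro v hv
    obtain ⟨w, hw, hvw⟩ := Group.mem_conjugatesOfSet_iff.1 hv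
    rw [Set.mem_singleton_iff] at hw
    subst hw
    obtain ⟨c, rfl⟩ := isConj_iff.1 hvw
    show MulAut.conj (c * w * c⁻¹) ∈ H
    rw [map_mul, map_mul, map_inv]
    exact h c
  have h2 : Subgroup.normalClosure {u} = ⊤ := by
    rcases hS.eq_bot_or_eq_top_of_normal _ (Subgroup.normalClosure_normal (s := {u})) with h3 | h3
    · exfalso
      have : u ∈ Subgroup.normalClosure {u} := Subgroup.subset_normalClosure rfl
      rw [h3, Subgroup.mem_bot] at this
      exact hu this
    · exact h3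
  rintro _ ⟨s, rfl⟩
  have : s ∈ Subgroup.normalClosure {u} := by rw [h2]; trivial
  exact h1 this

end rule

end Cfsg.Agent.H384.RC
end

-- part: H384/RC/Lin
section
set_option linter.all false
open scoped Cfsg.Agent.FastGrp

-- part: H384/RC/Fam
section
/-!
# S3510 part B: family versions of the rules (helper384)

`Fam t x r` : commuting elements `x i` of distinct odd primes orders `r i` commuting with `t`.
`CovH t x H`: every conjugate under `Inn S` of one of `t`, `x i` is in `H`, i.e. every point of the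
`Inn S`-orbit of the base point of `Aut S ⧸ H` is fixed by `t` or some `x i`.
-/

set_option autoImplicit false
open MulAction

namespace Cfsg.Agent.H384.RC

open Cfsg.Agent.H106.RC

variable {S : Type*} [Group S]

/-- commuting elements of distinct odd prime orders commuting with `t` -/
structure Fam (t : MulAut S) {κ : Type} (x : κ → MulAut S) (r : κ → ℕ) : Prop where
  pr : ∀ i, (r i).Prime
  ne2 : ∀ i, r i ≠ 2
  inj : Function.Injective r
  pow : ∀ i, x i ^ r i = 1
  ne1 : ∀ i, x i ≠ 1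
  comm : ∀ i j, x i * x j = x j * x i
  commt : ∀ i, t * x i = x i * t

/-- the cover condition -/
def CovH (t : MulAut S) {κ : Type} (x : κ → MulAut S) (H : Subgroup (MulAut S)) : Prop :=
  ∀ s : S, MulAut.conj s * t * (MulAut.conj s)⁻¹ ∈ H ∨
    ∃ i, MulAut.conj s * x i * (MulAut.conj s)⁻¹ ∈ H

theorem killed_iff (t : MulAut S) : Killed t ↔ ∀ (κ : Type) [Finite κ] (x : κ → MulAut S)
    (r : κ → ℕ), Fam t x r → ∀ H, CovH t x H → inn S ≤ H := by
  constructor
  · intro h κ _ x r hF H hH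
    exact h κ x r hF.pr hF.ne2 hF.inj hF.pow hF.ne1 hF.comm hF.commt H hH
  · intro h κ _ x r h1 h2 h3 h4 h5 h6 h7 H hH
    exact h κ x r ⟨h1, h2, h3, h4, h5, h6, h7⟩ H hH

theorem smul_coe_iff {A : Type*} [Group A] {H : Subgroup A} (z a : A) :
    z • ((a : A) : A ⧸ H) = ((a : A) : A ⧸ H) ↔ a⁻¹ * z * a ∈ H := by
  rw [MulAction.Quotient.smul_coe, smul_eq_mul, QuotientGroup.eq]
  constructor
  · intro h
    have := H.inv_mem h
    have e : ((z * a)⁻¹ * a)⁻¹ = a⁻¹ * z * a := by group
    rwa [e] at this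
  · intro h
    have := H.inv_mem h
    have e : (a⁻¹ * z * a)⁻¹ = (z * a)⁻¹ * a := by group
    rwa [e] at this

/-- the cover condition on points -/
theorem CovH.pt {t : MulAut S} {κ : Type} {x : κ → MulAut S} {H : Subgroup (MulAut S)}
    (h : CovH t x H) : ∀ n ∈ inn S, t • ((n : MulAut S) : MulAut S ⧸ H) = (n : MulAut S) ∨
      ∃ i, x i • ((n : MulAut S) : MulAut S ⧸ H) = (n : MulAut S) := by
  intro n hn
  obtain ⟨s, hs⟩ := (inn S).inv_mem hn
  have hn' : n = (MulAut.conj s)⁻¹ := by rw [hs, inv_inv]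
  rcases h s with h1 | ⟨i, h1⟩
  · left
    rw [smul_coe_iff, hn', inv_inv]
    exact h1
  · right
    refine ⟨i, ?_⟩
    rw [smul_coe_iff, hn', inv_inv]
    exact h1

/-- if some `1 ≠ y ∈ Inn S` fixes all points of the orbit -/
theorem inn_le_of_fix (hS : IsSimpleGroup S) {y : MulAut S} (hy : y ∈ inn S) (hy1 : y ≠ 1)
    (H : Subgroup (MulAut S)) (h : ∀ n ∈ inn S, y • ((n : MulAut S) : MulAut S ⧸ H) = (n : MulAut S)) :
    inn S ≤ H := by
  apply inn_le_of_conj hS hy hy1 H
  intro s
  have h1 := h _ ((inn S).inv_mem ⟨s, rfl⟩)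
  rw [smul_coe_iff, inv_inv] at h1
  exact h1

/-- the root element rule: `Q` any subset of `Inn S` commuting with `y`, and every point moved by
`y` is fixed by `t`; `y` in the group generated by the `[q, t]`, `q ∈ Q` -/
theorem fam_root (hS : IsSimpleGroup S) (t : MulAut S) (H : Subgroup (MulAut S)) (y : MulAut S)
    (hyi : y ∈ inn S) (hy1 : y ≠ 1)
    (hM : ∀ n ∈ inn S, y • ((n : MulAut S) : MulAut S ⧸ H) = (n : MulAut S) ∨
      t • ((n : MulAut S) : MulAut S ⧸ H) = (n : MulAut S))
    (hy : y ∈ Subgroup.closure {z | ∃ q ∈ inn S, q * y = y * q ∧ z = q * t * q⁻¹ * t⁻¹}) :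
    inn S ≤ H := by
  apply inn_le_of_fix hS hyi hy1 H
  intro n₀ hn₀i
  by_contra hyω
  have key : ∀ q ∈ inn S, q * y = y * q →
      t • (q • ((n₀ : MulAut S) : MulAut S ⧸ H)) = q • ((n₀ : MulAut S) : MulAut S ⧸ H) := by
    intro q hq hqy
    have hmove : y • (q • ((n₀ : MulAut S) : MulAut S ⧸ H)) ≠ q • ((n₀ : MulAut S) : MulAut S ⧸ H) := by
      intro h
      rw [← mul_smul, ← hqy, mul_smul] at h
      exact hyω (smul_left_cancel _ h)
    rcases hM (q * n₀) ((inn S).mul_mem hq hn₀i) with h | h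
    · exact absurd h hmove
    · exact h
  have hstab : Subgroup.closure {z | ∃ q ∈ inn S, q * y = y * q ∧ z = q * t * q⁻¹ * t⁻¹} ≤
      stabilizer (MulAut S) ((n₀ : MulAut S) : MulAut S ⧸ H) := by
    rw [Subgroup.closure_le]
    rintro _ ⟨q, hq, hqy, rfl⟩
    have h1 := key 1 (inn S).one_mem (by rw [one_mul, mul_one])
    rw [one_smul] at h1
    have hqy' : q⁻¹ * y = y * q⁻¹ := by
      calc q⁻¹ * y = q⁻¹ * (y * q) * q⁻¹ := by group
        _ = q⁻¹ * (q * y) * q⁻¹ := by rw [hqy]
        _ = _ := by group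
    have h2 := key q⁻¹ ((inn S).inv_mem hq) hqy'
    show (q * t * q⁻¹ * t⁻¹) • ((n₀ : MulAut S) : MulAut S ⧸ H) = ((n₀ : MulAut S) : MulAut S ⧸ H)
    have h3 : t⁻¹ • ((n₀ : MulAut S) : MulAut S ⧸ H) = ((n₀ : MulAut S) : MulAut S ⧸ H) := by
      rw [inv_smul_eq_iff, h1]
    rw [mul_smul, h3, mul_assoc, mul_smul, mul_smul, h2, smul_inv_smul]
  exact hyω (hstab hy)

/-- the induced automorphisms have odd order if `t` centralises `M` -/
theorem odd_ind {S' : Type*} [Group S'] {κ : Type} [Finite κ] {t : MulAut S}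
    {x : κ → MulAut S} {r : κ → ℕ} (hF : Fam t x r) (M : Subgroup (MulAut S)) (π : M →* S')
    (hπ : Function.Surjective π) (ht : ∀ m ∈ M, t * m = m * t)
    (hnorm : ∀ i, ∀ m ∈ M, x i * m * (x i)⁻¹ ∈ M)
    (g : MulAut S) (hg : g ∈ Subgroup.closure (Set.range fun o : Option κ => o.elim t x))
    (α : MulAut S') (hα : ∀ (m m' : M), (m' : MulAut S) = g * m * g⁻¹ → α (π m) = π m') :
    Odd (orderOf α) := by
  classical
  have := Fintype.ofFinite κ
  have hN : Odd (∏ i, r i) := by
    rw [← Nat.not_even_iff_odd, even_iff_two_dvd, Nat.prime_two.prime.dvd_finsetProd_iff]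
    rintro ⟨i, -, h⟩
    exact hF.ne2 i ((Nat.prime_dvd_prime_iff_eq Nat.prime_two (hF.pr i)).1 h).symm
  have hc' : ∀ i j : Option κ, (fun o : Option κ => o.elim t x) i * (fun o : Option κ => o.elim t x) j =
      (fun o : Option κ => o.elim t x) j * (fun o : Option κ => o.elim t x) i := by
    rintro (_ | i) (_ | j)
    · rfl
    · exact hF.commt j
    · exact (hF.commt i).symm
    · exact hF.comm i j
  have hcomm : ∀ g ∈ Subgroup.closure (Set.range fun o : Option κ => o.elim t x),
      ∀ g' ∈ Subgroup.closure (Set.range fun o : Option κ => o.elim t x), g * g' = g' * g := by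
    intro g hg g' hg'
    induction hg using Subgroup.closure_induction with
    | mem a ha =>
      obtain ⟨i, rfl⟩ := ha
      induction hg' using Subgroup.closure_induction with
      | mem b hb =>
        obtain ⟨j, rfl⟩ := hb
        exact hc' i j
      | one => simp
      | mul b c _ _ hb hc2 => rw [← mul_assoc, hb, mul_assoc, hc2, mul_assoc]
      | inv b _ hb =>
        generalize (fun o : Option κ => o.elim t x) i = X at hb ⊢
        calc X * b⁻¹ = b⁻¹ * (b * X) * b⁻¹ := by group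
          _ = b⁻¹ * (X * b) * b⁻¹ := by rw [hb]
          _ = _ := by group
    | one => simp
    | mul a b _ _ ha hb => rw [mul_assoc, hb, ← mul_assoc, ha, mul_assoc]
    | inv a _ ha =>
      calc a⁻¹ * g' = a⁻¹ * (g' * a) * a⁻¹ := by group
        _ = a⁻¹ * (a * g') * a⁻¹ := by rw [ha]
        _ = _ := by group
  have hmain : ∀ g ∈ Subgroup.closure (Set.range fun o : Option κ => o.elim t x),
      (∀ m ∈ M, g * m * g⁻¹ ∈ M) ∧ ∃ e : ℤ, g ^ (∏ i, r i) = t ^ e := by
    have hN' : ∀ g ∈ Subgroup.closure (Set.range fun o : Option κ => o.elim t x),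
        ∃ e : ℤ, g ^ (∏ i, r i) = t ^ e := by
      intro g hg
      induction hg using Subgroup.closure_induction with
      | mem a ha =>
        obtain ⟨i, rfl⟩ := ha
        rcases i with _ | i
        · exact ⟨(∏ i, r i : ℕ), by rw [zpow_natCast]; rfl⟩
        · refine ⟨0, ?_⟩
          obtain ⟨c, hc⟩ := Finset.dvd_prod_of_mem r (Finset.mem_univ i)
          show x i ^ (∏ i, r i) = t ^ (0 : ℤ)
          rw [hc, pow_mul, hF.pow, one_pow, zpow_zero]
      | one => exact ⟨0, by simp⟩
      | mul a b ha' hb' ha hb =>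
        obtain ⟨e, he⟩ := ha
        obtain ⟨f, hf⟩ := hb
        refine ⟨e + f, ?_⟩
        have h1 : Commute a b := hcomm a ha' b hb'
        rw [h1.mul_pow, he, hf, zpow_add]
      | inv a _ ha =>
        obtain ⟨e, he⟩ := ha
        exact ⟨-e, by rw [inv_pow, he, zpow_neg]⟩
    have hnc : ∀ o : Option κ, (fun o : Option κ => o.elim t x) o ∈
        Subgroup.normalizer (M : Set (MulAut S)) := by
      have h0 : ∀ z : MulAut S, (∃ k : ℕ, 0 < k ∧ z ^ k = 1) → (∀ m ∈ M, z * m * z⁻¹ ∈ M) →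
          z ∈ Subgroup.normalizer (M : Set (MulAut S)) := by
        rintro z ⟨k, hk, hz⟩ h
        rw [Subgroup.mem_normalizer_iff]
        have hpow : ∀ j : ℕ, ∀ m ∈ M, z ^ j * m * (z ^ j)⁻¹ ∈ M := by
          intro j
          induction j with
          | zero => intro m hm; simpa using hm
          | succ j ih =>
            intro m hm
            have e : z ^ (j + 1) * m * (z ^ (j + 1))⁻¹ = z * (z ^ j * m * (z ^ j)⁻¹) * z⁻¹ := by
              rw [pow_succ']; group
            rw [e]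
            exact h _ (ih m hm)
        intro m
        refine ⟨h m, fun hm => ?_⟩
        have h1 := hpow (k - 1) _ hm
        have e : z ^ (k - 1) * z = 1 := by
          rw [← pow_succ, Nat.sub_add_cancel hk, hz]
        have e2 : z ^ (k - 1) = z⁻¹ := eq_inv_of_mul_eq_one_left e
        rw [e2] at h1
        have e3 : z⁻¹ * (z * m * z⁻¹) * z⁻¹⁻¹ = m := by group
        rwa [e3] at h1
      rintro (_ | i)
      · rw [Subgroup.mem_normalizer_iff]
        intro m
        have h2 : ∀ m ∈ M, t * m * t⁻¹ = m := fun m hm => by rw [ht m hm, mul_inv_cancel_right]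
        constructor
        · intro hm
          show t * m * t⁻¹ ∈ M
          rw [h2 m hm]; exact hm
        · intro hm
          have h3 := h2 _ hm
          have h4 : (t * m * t⁻¹) = m := by
            have h5 : t * (t * m * t⁻¹) = (t * m * t⁻¹) * t := ht _ hm
            have h6 : t * (t * m * t⁻¹) = t * m := by
              rw [h5]; group
            exact mul_left_cancel h6
          rw [← h4]; exact hm
      · exact h0 _ ⟨r i, (hF.pr i).pos, hF.pow i⟩ (hnorm i)
    intro g hg
    refine ⟨fun m hm => ?_, hN' g hg⟩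
    have : Subgroup.closure (Set.range fun o : Option κ => o.elim t x) ≤
        Subgroup.normalizer (M : Set (MulAut S)) := by
      rw [Subgroup.closure_le]
      rintro _ ⟨i, rfl⟩
      exact hnc i
    exact (Subgroup.mem_normalizer_iff.1 (this hg) m).1 hm
  obtain ⟨hgN, e, hke⟩ := hmain g hg
  have hαk : α ^ (∏ i, r i) = 1 := by
    have h1 : ∀ n : ℕ, ∀ m : M, ∃ m' : M, (m' : MulAut S) = g ^ n * m * (g ^ n)⁻¹ ∧
        (α ^ n) (π m) = π m' := by
      intro n
      induction n with
      | zero => intro m; exact ⟨m, by simp, by simp⟩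
      | succ n ih =>
        intro m
        obtain ⟨m', h1, h2⟩ := ih m
        have hm'' : g * (m' : MulAut S) * g⁻¹ ∈ M := hgN m' m'.2
        refine ⟨⟨g * m' * g⁻¹, hm''⟩, ?_, ?_⟩
        · show g * (m' : MulAut S) * g⁻¹ = _
          rw [h1, pow_succ']
          group
        · rw [pow_succ', MulAut.mul_apply, h2]
          exact hα _ _ rfl
    apply MulEquiv.ext
    intro s
    obtain ⟨m, rfl⟩ := hπ s
    obtain ⟨m', h2, h3⟩ := h1 (∏ i, r i) m
    rw [h3, MulAut.one_apply]
    congr 1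
    apply Subtype.ext
    rw [h2, hke]
    have h4 : Commute t (m : MulAut S) := ht m m.2
    have h5 : Commute (t ^ e) (m : MulAut S) := h4.zpow_left e
    rw [h5.eq, mul_inv_cancel_right]
  have hdvd := orderOf_dvd_of_pow_eq_one hαk
  obtain ⟨c, hc⟩ := hdvd
  rw [hc, Nat.odd_mul] at hN
  exact hN.1

/-- **M-rule for families** -/
theorem fam_M {S' : Type*} [Group S'] {κ : Type} [Finite κ] {t : MulAut S}
    {x : κ → MulAut S} {r : κ → ℕ} (hF : Fam t x r) (ht2 : t * t = 1) {H : Subgroup (MulAut S)}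
    (hcov : CovH t x H)
    (hS' : IsSimpleGroup S') (hSn' : ¬ IsMulCommutative S') (M : Subgroup (MulAut S))
    (hMi : M ≤ inn S) (hperf : ⁅M, M⁆ = M) (π : M →* S') (hπ : Function.Surjective π)
    (hker : π.ker ≤ Subgroup.center M)
    (hnorm : ∀ i, x i ∈ Subgroup.normalizer (M : Set (MulAut S)))
    (hnt : t ∈ Subgroup.normalizer (M : Set (MulAut S)))
    (hRC : ∀ g ∈ Subgroup.closure (Set.range fun o : Option κ => o.elim t x), ∀ α : MulAut S',
      (∀ (m m' : M), (m' : MulAut S) = g * m * g⁻¹ → α (π m) = π m') → RCe S' α)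
    (hcent : ∀ i, ¬ ∀ m ∈ M, x i * m = m * x i) :
    ∀ n ∈ inn S, M ≤ stabilizer (MulAut S) ((n : MulAut S) : MulAut S ⧸ H) ∨
      ((∀ m ∈ M, t * m = m * t) ∧ t • ((n : MulAut S) : MulAut S ⧸ H) = (n : MulAut S)) := by
  intro n hn
  have hr' : ∀ i, ((fun o : Option κ => o.elim 2 r) i).Prime := by
    rintro (_ | i)
    · exact Nat.prime_two
    · exact hF.pr i
  have hinj' : Function.Injective (fun o : Option κ => o.elim 2 r) := by
    rintro (_ | i) (_ | j) h
    · rfl
    · exact absurd h.symm (hF.ne2 j)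
    · exact absurd h (hF.ne2 i)
    · exact congrArg some (hF.inj h)
  have hx' : ∀ i, (fun o : Option κ => o.elim t x) i ^ (fun o : Option κ => o.elim 2 r) i = 1 := by
    rintro (_ | i)
    · show t ^ 2 = 1
      rw [pow_two, ht2]
    · exact hF.pow i
  have hc' : ∀ i j : Option κ, (fun o : Option κ => o.elim t x) i * (fun o : Option κ => o.elim t x) j =
      (fun o : Option κ => o.elim t x) j * (fun o : Option κ => o.elim t x) i := by
    rintro (_ | i) (_ | j)
    · rfl
    · exact hF.commt j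
    · exact (hF.commt i).symm
    · exact hF.comm i j
  have hnorm' : ∀ i, (fun o : Option κ => o.elim t x) i ∈
      Subgroup.normalizer (M : Set (MulAut S)) := by
    rintro (_ | i)
    · exact hnt
    · exact hnorm i
  have h1 := mrule hS' hSn' (fun o : Option κ => o.elim t x) (fun o : Option κ => o.elim 2 r)
    hr' hinj' hx' hc' M hperf π hπ hker hnorm' hRC
    ((n : MulAut S) : MulAut S ⧸ H) (by
      intro m hm
      have e : m • ((n : MulAut S) : MulAut S ⧸ H) = ((m * n : MulAut S) : MulAut S ⧸ H) := rfl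
      rw [e]
      rcases hcov.pt (m * n) ((inn S).mul_mem (hMi hm) hn) with h | ⟨i, h⟩
      · exact ⟨none, h⟩
      · exact ⟨some i, h⟩)
  rcases h1 with h1 | ⟨j, h1, h2⟩
  · exact Or.inl h1
  · rcases j with _ | j
    · exact Or.inr ⟨h1, h2⟩
    · exact absurd h1 (hcent j)

/-- `J` empty: nobody centralises `M` -/
theorem fam_M_none {S' : Type*} [Group S'] (hS : IsSimpleGroup S) {κ : Type} [Finite κ]
    {t : MulAut S} {x : κ → MulAut S} {r : κ → ℕ} (hF : Fam t x r) (ht2 : t * t = 1)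
    {H : Subgroup (MulAut S)} (hcov : CovH t x H)
    (hS' : IsSimpleGroup S') (hSn' : ¬ IsMulCommutative S') (M : Subgroup (MulAut S))
    (hMi : M ≤ inn S) (hperf : ⁅M, M⁆ = M) (π : M →* S') (hπ : Function.Surjective π)
    (hker : π.ker ≤ Subgroup.center M)
    (hnorm : ∀ i, x i ∈ Subgroup.normalizer (M : Set (MulAut S)))
    (hnt : t ∈ Subgroup.normalizer (M : Set (MulAut S)))
    (hRC : RC S')
    (hcent : ∀ i, ¬ ∀ m ∈ M, x i * m = m * x i) (htc : ¬ ∀ m ∈ M, t * m = m * t) :
    inn S ≤ H := by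
  have h := fam_M hF ht2 hcov hS' hSn' M hMi hperf π hπ hker hnorm hnt (fun _ _ α _ => hRC α) hcent
  have hne : ∃ y ∈ M, y ≠ 1 := by
    by_contra hno
    push Not at hno
    apply htc
    intro m hm
    rw [hno m hm, mul_one, one_mul]
  obtain ⟨y, hy, hy1⟩ := hne
  apply inn_le_of_fix hS (hMi hy) hy1 H
  intro n hn
  rcases h n hn with h | h
  · exact h hy
  · exact absurd h.1 htc

/-- the main rule for families: `t` centralises `M`, root element `y` -/
theorem fam_main {S' : Type*} [Group S'] (hS : IsSimpleGroup S) {κ : Type} [Finite κ]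
    {t : MulAut S} {x : κ → MulAut S} {r : κ → ℕ} (hF : Fam t x r) (ht2 : t * t = 1)
    {H : Subgroup (MulAut S)} (hcov : CovH t x H)
    (hS' : IsSimpleGroup S') (hSn' : ¬ IsMulCommutative S') (M : Subgroup (MulAut S))
    (hMi : M ≤ inn S) (hperf : ⁅M, M⁆ = M) (π : M →* S') (hπ : Function.Surjective π)
    (hker : π.ker ≤ Subgroup.center M)
    (ht : ∀ m ∈ M, t * m = m * t)
    (hnorm : ∀ i, x i ∈ Subgroup.normalizer (M : Set (MulAut S)))
    (hRC : RCo S')
    (hcent : ∀ i, ¬ ∀ m ∈ M, x i * m = m * x i)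
    (y : MulAut S) (hyM : y ∈ M) (hy1 : y ≠ 1)
    (hy : y ∈ Subgroup.closure {z | ∃ q ∈ inn S, q * y = y * q ∧ z = q * t * q⁻¹ * t⁻¹}) :
    inn S ≤ H := by
  have hnt : t ∈ Subgroup.normalizer (M : Set (MulAut S)) := by
    have h2 : ∀ m ∈ M, t * m * t⁻¹ = m := fun m hm => by rw [ht m hm, mul_inv_cancel_right]
    rw [Subgroup.mem_normalizer_iff]
    intro m
    constructor
    · intro hm
      show t * m * t⁻¹ ∈ M
      rw [h2 m hm]; exact hm
    · intro hm
      have h5 : t * (t * m * t⁻¹) = (t * m * t⁻¹) * t := ht _ hm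
      have h6 : t * (t * m * t⁻¹) = t * m := by
        rw [h5]; group
      rw [← mul_left_cancel h6]; exact hm
  have h := fam_M hF ht2 hcov hS' hSn' M hMi hperf π hπ hker hnorm hnt
    (fun g hg α hα => hRC α (odd_ind hF M π hπ ht
      (fun i m hm => (Subgroup.mem_normalizer_iff.1 (hnorm i) m).1 hm) g hg α hα)) hcent
  refine fam_root hS t H y (hMi hyM) hy1 ?_ hy
  intro n hn
  rcases h n hn with h | h
  · exact Or.inl (h hyM)
  · exact Or.inr h.2

/-- one odd prime only: `x` itself is replaced by its normal closure in the centraliser of `t` -/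
theorem fam_one (hS : IsSimpleGroup S) {κ : Type} {t : MulAut S} {x : κ → MulAut S}
    {H : Subgroup (MulAut S)} (hcov : CovH t x H) (i₀ : κ) (hκ : ∀ i, i = i₀)
    (y : MulAut S) (hyi : y ∈ inn S) (hy1 : y ≠ 1)
    (hyM : y ∈ Subgroup.closure {z | ∃ c ∈ inn S, c * t = t * c ∧ z = c * x i₀ * c⁻¹})
    (hy : y ∈ Subgroup.closure {z | ∃ q ∈ inn S, q * y = y * q ∧ z = q * t * q⁻¹ * t⁻¹}) :
    inn S ≤ H := by
  refine fam_root hS t H y hyi hy1 ?_ hy
  intro n hn
  by_cases htn : t • ((n : MulAut S) : MulAut S ⧸ H) = (n : MulAut S)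
  · exact Or.inr htn
  left
  have hle : Subgroup.closure {z | ∃ c ∈ inn S, c * t = t * c ∧ z = c * x i₀ * c⁻¹} ≤
      stabilizer (MulAut S) ((n : MulAut S) : MulAut S ⧸ H) := by
    rw [Subgroup.closure_le]
    rintro _ ⟨c, hc, hct, rfl⟩
    have h1 := hcov.pt (c⁻¹ * n) ((inn S).mul_mem ((inn S).inv_mem hc) hn)
    have e : ((c⁻¹ * n : MulAut S) : MulAut S ⧸ H) = c⁻¹ • ((n : MulAut S) : MulAut S ⧸ H) := rfl
    rw [e] at h1
    rcases h1 with h1 | ⟨i, h1⟩
    · exfalso
      apply htn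
      have h2 : c⁻¹ * t = t * c⁻¹ := by
        calc c⁻¹ * t = c⁻¹ * (t * c) * c⁻¹ := by group
          _ = c⁻¹ * (c * t) * c⁻¹ := by rw [hct]
          _ = _ := by group
      rw [← mul_smul, ← h2, mul_smul] at h1
      exact smul_left_cancel _ h1
    · rw [hκ i] at h1
      show (c * x i₀ * c⁻¹) • ((n : MulAut S) : MulAut S ⧸ H) = (n : MulAut S)
      rw [mul_smul, mul_smul, h1, smul_inv_smul]
  exact hle hyM

end Cfsg.Agent.H384.RC
end

-- part: H384/RC/Lin
section
/-!
# S3510 part B: semilinear automorphisms of `PSL` on an arbitrary index type (helper384)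

`Sem A σ` is the automorphism `s ↦ A σ(s) A⁻¹`, `gam B` (H999) is `s ↦ B⁻¹ s⁻ᵀ B`.
-/

set_option autoImplicit false

namespace Cfsg.Agent.H384.RC

open Matrix
open Cfsg.Agent.ClassicalGeometry.AutPSL.Root
open Cfsg.Agent.ClassicalGeometry.AutPSL.Auto
open Cfsg.Agent.ClassicalGeometry.AutPSL.Main
open Cfsg.Agent.H999.PslGraph

section basic

variable {ι F : Type*} [Fintype ι] [DecidableEq ι] [Field F]

/-- a ring automorphism applied to the entries -/
def mg (σ : F ≃+* F) : GL ι F →* GL ι F := Matrix.GeneralLinearGroup.map (σ : F →+* F)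

theorem coe_mg (σ : F ≃+* F) (g : GL ι F) :
    (mg σ g : Matrix ι ι F) = (g : Matrix ι ι F).map σ := rfl

/-- the semilinear automorphism `s ↦ A σ(s) A⁻¹` -/
noncomputable def Sem (A : GL ι F) (σ : F ≃+* F) :
    MulAut (Matrix.ProjectiveSpecialLinearGroup ι F) := Cj A * lift (fld σ)

theorem fld_Cj (σ : F ≃+* F) (g : GL ι F) : lift (fld σ) * Cj g = Cj (mg σ g) * lift (fld σ) := by
  apply MulEquiv.ext
  intro x
  obtain ⟨x, rfl⟩ := pr_surjective x
  change pr (fld σ (cj g x)) = pr (cj (mg σ g) (fld σ x))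
  congr 1
  apply Subtype.ext
  change ((g : Matrix ι ι F) * x.1 * ((g⁻¹ : GL ι F) : Matrix ι ι F)).map (σ : F →+* F) =
    (g : Matrix ι ι F).map (σ : F →+* F) * x.1.map (σ : F →+* F) *
      (((mg σ g)⁻¹ : GL ι F) : Matrix ι ι F)
  rw [Matrix.map_mul, Matrix.map_mul, ← map_inv]
  rfl

theorem fld_It (σ : F ≃+* F) : (lift (fld σ) * It : MulAut (Matrix.ProjectiveSpecialLinearGroup ι F)) =
    It * lift (fld σ) := by
  apply MulEquiv.ext
  intro x
  obtain ⟨x, rfl⟩ := pr_surjective x
  change pr (fld σ (itr x)) = pr (itr (fld σ x))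
  congr 1
  apply Subtype.ext
  rw [coe_itr, ← map_inv]
  rfl

theorem Sem_one (A : GL ι F) : Sem A (RingEquiv.refl F) = Cj A := by
  have h : (fld (RingEquiv.refl F) : MulAut (Matrix.SpecialLinearGroup ι F)) = 1 := map_one fld
  rw [Sem, h, map_one, mul_one]

theorem Sem_mul_Cj (A : GL ι F) (σ : F ≃+* F) (g : GL ι F) :
    Sem A σ * Cj g = Cj (A * mg σ g * A⁻¹) * Sem A σ := by
  rw [Sem, mul_assoc, fld_Cj, ← mul_assoc, ← mul_assoc, ← map_mul, ← map_mul,
    inv_mul_cancel_right]

theorem Sem_conj_Cj (A : GL ι F) (σ : F ≃+* F) (g : GL ι F) :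
    Sem A σ * Cj g * (Sem A σ)⁻¹ = Cj (A * mg σ g * A⁻¹) := by
  rw [Sem_mul_Cj, mul_inv_cancel_right]

theorem Sem_mul (A : GL ι F) (σ : F ≃+* F) (A' : GL ι F) (τ : F ≃+* F) :
    Sem A σ * Sem A' τ = Sem (A * mg σ A') (σ * τ) := by
  rw [Sem, Sem, Sem, mul_assoc, ← mul_assoc (lift (fld σ)), fld_Cj, map_mul, map_mul, map_mul]
  simp only [mul_assoc]

theorem gam_comm_iff [Nontrivial ι] (A : GL ι F) (σ : F ≃+* F) (B : GL ι F) :
    gam B * Sem A σ = Sem A σ * gam B ↔ ∃ c : F, c ≠ 0 ∧
      (B : Matrix ι ι F).map σ = c • ((A : Matrix ι ι F)ᵀ * B * A) := by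
  have h1 : Sem A σ * gam B = Cj (A * mg σ B⁻¹ * (ct A)⁻¹) * It * Cj A * lift (fld σ) := by
    rw [Sem, gam, mul_assoc (Cj A), ← mul_assoc (lift (fld σ)), fld_Cj, mul_assoc (Cj _) (lift _),
      fld_It]
    calc Cj A * (Cj (mg σ B⁻¹) * (It * lift (fld σ))) =
        Cj (A * mg σ B⁻¹) * It * lift (fld σ) := by rw [map_mul]; simp only [mul_assoc]
      _ = Cj (A * mg σ B⁻¹ * (ct A)⁻¹) * (Cj (ct A) * It) * lift (fld σ) := by
          rw [map_mul _ (A * mg σ B⁻¹), map_inv (Cj : GL ι F →* _) (ct A)]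
          simp only [mul_assoc, inv_mul_cancel_left]
      _ = _ := by rw [← It_mul_Cj]; simp only [mul_assoc]
  have h2 : gam B * Sem A σ = Cj B⁻¹ * It * Cj A * lift (fld σ) := by
    rw [gam, Sem]
    simp only [mul_assoc]
  rw [h1, h2]
  have h3 : (Cj B⁻¹ * It * Cj A * lift (fld σ) =
      Cj (A * mg σ B⁻¹ * (ct A)⁻¹) * It * Cj A * lift (fld σ)) ↔
      Cj B⁻¹ = Cj (A * mg σ B⁻¹ * (ct A)⁻¹) := by
    constructor
    · intro h
      exact mul_right_cancel (mul_right_cancel (mul_right_cancel h))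
    · intro h
      rw [h]
  rw [h3]
  have h4 : Cj B⁻¹ = Cj (A * mg σ B⁻¹ * (ct A)⁻¹) ↔ Cj B = Cj (ct A * mg σ B * A⁻¹) := by
    rw [map_inv (Cj : GL ι F →* _) B, inv_eq_iff_eq_inv, ← map_inv]
    have : (A * mg σ B⁻¹ * (ct A)⁻¹)⁻¹ = ct A * mg σ B * A⁻¹ := by
      rw [map_inv]; group
    rw [this]
  rw [h4, Cj_eq_iff]
  have h5 : ∀ c : F, ((ct A * mg σ B * A⁻¹ : GL ι F) : Matrix ι ι F) = c • (B : Matrix ι ι F) ↔
      (B : Matrix ι ι F).map σ = c • ((A : Matrix ι ι F)ᵀ * B * A) := by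
    intro c
    have e1 : (A : Matrix ι ι F)ᵀ * ((A⁻¹ : GL ι F) : Matrix ι ι F)ᵀ = 1 := by
      rw [← transpose_mul, ← Units.val_mul, inv_mul_cancel, Units.val_one, transpose_one]
    have e1' : ((A⁻¹ : GL ι F) : Matrix ι ι F)ᵀ * (A : Matrix ι ι F)ᵀ = 1 := by
      rw [← transpose_mul, ← Units.val_mul, mul_inv_cancel, Units.val_one, transpose_one]
    have e2 : ((A⁻¹ : GL ι F) : Matrix ι ι F) * (A : Matrix ι ι F) = 1 := by
      rw [← Units.val_mul, inv_mul_cancel, Units.val_one]
    have e2' : (A : Matrix ι ι F) * ((A⁻¹ : GL ι F) : Matrix ι ι F) = 1 := by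
      rw [← Units.val_mul, mul_inv_cancel, Units.val_one]
    rw [Units.val_mul, Units.val_mul, coe_ct, coe_mg]
    constructor
    · intro h
      calc (B : Matrix ι ι F).map σ = ((A : Matrix ι ι F)ᵀ * ((A⁻¹ : GL ι F) : Matrix ι ι F)ᵀ) *
            (B : Matrix ι ι F).map σ * (((A⁻¹ : GL ι F) : Matrix ι ι F) * (A : Matrix ι ι F)) := by
            rw [e1, e2, Matrix.one_mul, Matrix.mul_one]
        _ = (A : Matrix ι ι F)ᵀ * (((A⁻¹ : GL ι F) : Matrix ι ι F)ᵀ *
            (B : Matrix ι ι F).map σ * ((A⁻¹ : GL ι F) : Matrix ι ι F)) * (A : Matrix ι ι F) := by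
            simp only [Matrix.mul_assoc]
        _ = _ := by rw [h, Matrix.mul_smul, Matrix.smul_mul]
    · intro h
      rw [h, Matrix.mul_smul, Matrix.smul_mul]
      congr 1
      calc ((A⁻¹ : GL ι F) : Matrix ι ι F)ᵀ * ((A : Matrix ι ι F)ᵀ * B * A) *
            ((A⁻¹ : GL ι F) : Matrix ι ι F) = (((A⁻¹ : GL ι F) : Matrix ι ι F)ᵀ *
            (A : Matrix ι ι F)ᵀ) * B * (A * ((A⁻¹ : GL ι F) : Matrix ι ι F)) := by
            simp only [Matrix.mul_assoc]
        _ = _ := by rw [e1', e2', Matrix.one_mul, Matrix.mul_one]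
  exact exists_congr fun c => and_congr_right fun _ => h5 c

theorem Sem_comm_iff [Nontrivial ι] (A : GL ι F) (σ : F ≃+* F) (g : GL ι F) :
    Sem A σ * Cj g = Cj g * Sem A σ ↔ ∃ c : F, c ≠ 0 ∧
      (A : Matrix ι ι F) * (g : Matrix ι ι F).map σ = c • ((g : Matrix ι ι F) * A) := by
  rw [Sem_mul_Cj]
  constructor
  · intro h
    obtain ⟨c, hc, h1⟩ := Cj_eq_iff.1 (mul_right_cancel h).symm
    refine ⟨c, hc, ?_⟩
    have h2 : ((A * mg σ g * A⁻¹ : GL ι F) : Matrix ι ι F) * (A : Matrix ι ι F) =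
        (A : Matrix ι ι F) * (g : Matrix ι ι F).map σ := by
      rw [← Units.val_mul, inv_mul_cancel_right, Units.val_mul, coe_mg]
    rw [← h2, h1, Matrix.smul_mul]
  · rintro ⟨c, hc, h1⟩
    congr 1
    symm
    rw [Cj_eq_iff]
    refine ⟨c, hc, ?_⟩
    rw [Units.val_mul, Units.val_mul, coe_mg, h1, Matrix.smul_mul, Matrix.mul_assoc, ← Units.val_mul,
      mul_inv_cancel, Units.val_one, Matrix.mul_one]

/-- for unipotent `g` there is no scalar -/
theorem unip_exact [Nonempty ι] (A : GL ι F) (σ : F ≃+* F) (g : GL ι F)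
    (hg : IsNilpotent ((g : Matrix ι ι F) - 1)) {c : F}
    (h : (A : Matrix ι ι F) * (g : Matrix ι ι F).map σ = c • ((g : Matrix ι ι F) * A)) :
    (A : Matrix ι ι F) * (g : Matrix ι ι F).map σ = (g : Matrix ι ι F) * A := by
  have e2' : (A : Matrix ι ι F) * ((A⁻¹ : GL ι F) : Matrix ι ι F) = 1 := by
    rw [← Units.val_mul, mul_inv_cancel, Units.val_one]
  have e2 : ((A⁻¹ : GL ι F) : Matrix ι ι F) * (A : Matrix ι ι F) = 1 := by
    rw [← Units.val_mul, inv_mul_cancel, Units.val_one]
  -- `c g = A σ(g) A⁻¹`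
  have h1 : c • (g : Matrix ι ι F) = A * (g : Matrix ι ι F).map σ * ((A⁻¹ : GL ι F) : Matrix ι ι F) := by
    rw [h, Matrix.smul_mul, Matrix.mul_assoc, e2', Matrix.mul_one]
  have hn : IsNilpotent (c • (g : Matrix ι ι F) - 1) := by
    obtain ⟨k, hk⟩ := hg
    refine ⟨k, ?_⟩
    have h2 : c • (g : Matrix ι ι F) - 1 = A * ((g : Matrix ι ι F) - 1).map σ *
        ((A⁻¹ : GL ι F) : Matrix ι ι F) := by
      have h3 : ((g : Matrix ι ι F) - 1).map σ = (g : Matrix ι ι F).map σ - 1 := by
        rw [Matrix.map_sub σ (fun a b => map_sub σ a b), Matrix.map_one σ (map_zero σ) (map_one σ)]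
      rw [h1, h3, Matrix.mul_sub, Matrix.sub_mul, Matrix.mul_one, e2']
    have h4 : ∀ j : ℕ, (c • (g : Matrix ι ι F) - 1) ^ j = A * (((g : Matrix ι ι F) - 1) ^ j).map σ *
        ((A⁻¹ : GL ι F) : Matrix ι ι F) := by
      intro j
      induction j with
      | zero =>
        rw [pow_zero, pow_zero, Matrix.map_one σ (map_zero σ) (map_one σ), Matrix.mul_one, e2']
      | succ j ih =>
        have h5 : (((g : Matrix ι ι F) - 1) ^ (j + 1)).map σ =
            (((g : Matrix ι ι F) - 1) ^ j).map σ * ((g : Matrix ι ι F) - 1).map σ := by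
          rw [pow_succ]
          exact Matrix.map_mul (f := (σ : F →+* F))
        rw [pow_succ, ih, h5, h2]
        calc _ = A * (((g : Matrix ι ι F) - 1) ^ j).map σ * (((A⁻¹ : GL ι F) : Matrix ι ι F) * A) *
              ((g : Matrix ι ι F) - 1).map σ * ((A⁻¹ : GL ι F) : Matrix ι ι F) := by
              simp only [Matrix.mul_assoc]
          _ = _ := by rw [e2, Matrix.mul_one]; simp only [Matrix.mul_assoc]
    rw [h4, hk, Matrix.map_zero σ (map_zero σ), Matrix.mul_zero, Matrix.zero_mul]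
  have hcomm : Commute (c • (g : Matrix ι ι F) - 1) ((g : Matrix ι ι F) - 1) := by
    apply Commute.sub_left
    · apply Commute.sub_right
      · exact (Commute.refl _).smul_left c
      · exact Commute.one_right _
    · exact Commute.one_left _
  have h5 : IsNilpotent ((c • (g : Matrix ι ι F) - 1) - ((g : Matrix ι ι F) - 1)) :=
    hcomm.isNilpotent_sub hn hg
  have h6 : (c • (g : Matrix ι ι F) - 1) - ((g : Matrix ι ι F) - 1) = (c - 1) • (g : Matrix ι ι F) := by
    rw [sub_smul, one_smul]; abel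
  rw [h6] at h5
  have h7 : c - 1 = 0 := by
    by_contra hne
    obtain ⟨k, hk⟩ := h5
    rw [smul_pow] at hk
    have h8 : ((g ^ k : GL ι F) : Matrix ι ι F) = 0 := by
      rw [Units.val_pow_eq_pow_val]
      exact (smul_eq_zero.1 hk).resolve_left (pow_ne_zero _ hne)
    have h9 : ((g ^ k : GL ι F) : Matrix ι ι F) * (((g ^ k)⁻¹ : GL ι F) : Matrix ι ι F) = 1 := by
      rw [← Units.val_mul, mul_inv_cancel, Units.val_one]
    rw [h8, Matrix.zero_mul] at h9
    exact zero_ne_one h9
  have h10 : c = 1 := sub_eq_zero.1 h7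
  rw [h, h10, one_smul]

end basic

section reindex

variable {ι κ F : Type*} [Fintype ι] [DecidableEq ι] [Fintype κ] [DecidableEq κ] [Field F]

/-- reindexing on `GL` -/
def reGL (e : ι ≃ κ) : GL ι F ≃* GL κ F :=
  Units.mapEquiv (Matrix.reindexAlgEquiv F F e : Matrix ι ι F ≃ₐ[F] Matrix κ κ F).toMulEquiv

theorem coe_reGL (e : ι ≃ κ) (g : GL ι F) :
    (reGL e g : Matrix κ κ F) = (g : Matrix ι ι F).submatrix e.symm e.symm := rfl

/-- reindexing on `SL` -/
def reSL (e : ι ≃ κ) : Matrix.SpecialLinearGroup ι F ≃* Matrix.SpecialLinearGroup κ F where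
  toFun g := ⟨g.1.submatrix e.symm e.symm, by rw [det_submatrix_equiv_self]; exact g.2⟩
  invFun g := ⟨g.1.submatrix e e, by rw [det_submatrix_equiv_self]; exact g.2⟩
  left_inv g := by
    apply Subtype.ext
    ext i j
    simp
  right_inv g := by
    apply Subtype.ext
    ext i j
    simp
  map_mul' g h := by
    apply Subtype.ext
    exact (Matrix.submatrix_mul_equiv g.1 h.1 e.symm e.symm e.symm).symm

/-- reindexing on `PSL` -/
noncomputable def rePSL (e : ι ≃ κ) : Matrix.ProjectiveSpecialLinearGroup ι F ≃*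
    Matrix.ProjectiveSpecialLinearGroup κ F :=
  QuotientGroup.congr _ _ (reSL e) (by
    ext z
    constructor
    · rintro ⟨w, hw, rfl⟩
      rw [Subgroup.mem_center_iff]
      intro g
      have := congrArg (reSL e) (Subgroup.mem_center_iff.1 hw ((reSL e).symm g))
      rw [map_mul, map_mul] at this
      simpa using this
    · intro h
      refine ⟨(reSL e).symm z, ?_, by simp⟩
      apply Subgroup.mem_center_iff.2
      intro g
      apply (reSL e).injective
      rw [map_mul, map_mul]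
      simpa using Subgroup.mem_center_iff.1 h (reSL e g))

theorem congr_Cj (e : ι ≃ κ) (g : GL ι F) :
    MulAut.congr (rePSL e) (Cj g) = Cj (reGL e g) := by
  apply MulEquiv.ext
  intro x
  obtain ⟨x, rfl⟩ := (rePSL e).surjective x
  obtain ⟨x, rfl⟩ := pr_surjective x
  have h1 : MulAut.congr (rePSL e) (Cj g) (rePSL e (pr x)) = rePSL e (Cj g (pr x)) := by
    simp [MulAut.congr]
  rw [h1]
  change pr (reSL e (cj g x)) = pr (cj (reGL e g) (reSL e x))
  congr 1
  apply Subtype.ext
  change (((g : Matrix ι ι F) * x.1 * ((g⁻¹ : GL ι F) : Matrix ι ι F))).submatrix e.symm e.symm =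
    ((g : Matrix ι ι F).submatrix e.symm e.symm) * (x.1.submatrix e.symm e.symm) *
      (((reGL e g)⁻¹ : GL κ F) : Matrix κ κ F)
  rw [← map_inv, coe_reGL, Matrix.submatrix_mul_equiv, Matrix.submatrix_mul_equiv]

theorem congr_fld (e : ι ≃ κ) (σ : F ≃+* F) :
    MulAut.congr (rePSL e) (lift (fld σ)) = lift (fld σ) := by
  apply MulEquiv.ext
  intro x
  obtain ⟨x, rfl⟩ := (rePSL e).surjective x
  obtain ⟨x, rfl⟩ := pr_surjective x
  have h1 : MulAut.congr (rePSL e) (lift (fld σ)) (rePSL e (pr x)) =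
      rePSL e (lift (fld σ) (pr x)) := by
    simp [MulAut.congr]
  rw [h1]
  rfl

theorem congr_It (e : ι ≃ κ) : MulAut.congr (rePSL (F := F) e) It = It := by
  apply MulEquiv.ext
  intro x
  obtain ⟨x, rfl⟩ := (rePSL e).surjective x
  obtain ⟨x, rfl⟩ := pr_surjective x
  have h1 : MulAut.congr (rePSL e) It (rePSL e (pr x)) = rePSL e (It (pr x)) := by
    simp [MulAut.congr]
  rw [h1]
  change pr (reSL e (itr x)) = pr (itr (reSL e x))
  congr 1
  apply Subtype.ext
  rw [coe_itr, ← map_inv]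
  rfl

theorem congr_gam (e : ι ≃ κ) (B : GL ι F) :
    MulAut.congr (rePSL e) (gam B) = gam (reGL e B) := by
  rw [gam, gam, map_mul, congr_Cj, congr_It, map_inv]

theorem congr_Sem (e : ι ≃ κ) (A : GL ι F) (σ : F ≃+* F) :
    MulAut.congr (rePSL e) (Sem A σ) = Sem (reGL e A) σ := by
  rw [Sem, Sem, map_mul, congr_Cj, congr_fld]

end reindex

section form

variable {ι F : Type*} [Fintype ι] [DecidableEq ι] [Field F] [Fintype F]

/-- every automorphism of `PSL` -/
theorem exists_form (hι : 2 ≤ Fintype.card ι)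
    (α : MulAut (Matrix.ProjectiveSpecialLinearGroup ι F)) :
    (∃ (A : GL ι F) (σ : F ≃+* F), α = Sem A σ) ∨
    (3 ≤ Fintype.card ι ∧ ∃ (A : GL ι F) (σ : F ≃+* F), α = Sem A σ * It) := by
  let e : ι ≃ Fin (Fintype.card ι) := Fintype.equivFin ι
  have hs : ∀ g : MulAut (Matrix.ProjectiveSpecialLinearGroup (Fin (Fintype.card ι)) F),
      MulAut.congr (rePSL e) ((MulAut.congr (rePSL e)).symm g) = g := fun g =>
    MulEquiv.apply_symm_apply _ g
  have hA : ∀ A : GL (Fin (Fintype.card ι)) F, reGL e ((reGL e).symm A) = A := fun A =>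
    MulEquiv.apply_symm_apply _ A
  rcases Cfsg.Agent.H199.PslAut.exists_form hι (MulAut.congr (rePSL e) α) with
    ⟨g, σ, h⟩ | ⟨h3, g, σ, h⟩
  · left
    refine ⟨(reGL e).symm g, σ, ?_⟩
    apply (MulAut.congr (rePSL e)).injective
    rw [h, congr_Sem, hA]
    rfl
  · right
    refine ⟨h3, (reGL e).symm g, σ, ?_⟩
    apply (MulAut.congr (rePSL e)).injective
    rw [h, map_mul, congr_Sem, hA, congr_It]
    rfl

theorem It_mul_Sem (A : GL ι F) (σ : F ≃+* F) : It * Sem A σ = Sem (ct A) σ * It := by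
  rw [Sem, Sem, ← mul_assoc, It_mul_Cj, mul_assoc, ← fld_It, ← mul_assoc]

/-- elements of odd order are semilinear -/
theorem exists_sem_of_odd (hι : 2 ≤ Fintype.card ι)
    (x : MulAut (Matrix.ProjectiveSpecialLinearGroup ι F)) {r : ℕ} (hr : Odd r) (hx : x ^ r = 1) :
    ∃ (A : GL ι F) (σ : F ≃+* F), x = Sem A σ := by
  rcases exists_form hι x with h | ⟨h3, A, σ, h⟩
  · exact h
  · have h2 : ∀ k : ℕ, ∃ (A' : GL ι F) (τ : F ≃+* F), x ^ (2 * k) = Sem A' τ := by
      intro k
      induction k with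
      | zero =>
        refine ⟨1, RingEquiv.refl F, ?_⟩
        rw [Sem_one, map_one, mul_zero, pow_zero]
      | succ k ih =>
        obtain ⟨A', τ, ih⟩ := ih
        refine ⟨A' * mg τ (A * mg σ (ct A)), τ * (σ * σ), ?_⟩
        rw [mul_add, mul_one, pow_add, ih, pow_two, h, ← Sem_mul, ← Sem_mul]
        congr 1
        rw [mul_assoc, ← mul_assoc It, It_mul_Sem, mul_assoc (Sem (ct A) σ), It_mul_It, mul_one]
    obtain ⟨k, rfl⟩ := hr
    obtain ⟨A', τ, h4⟩ := h2 (k + 1)
    refine ⟨A', τ, ?_⟩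
    rw [← h4]
    have : 2 * (k + 1) = (2 * k + 1) + 1 := by ring
    rw [this, pow_add, hx, one_mul, pow_one]

end form

end Cfsg.Agent.H384.RC
end

private theorem dce_b543e25c64f7 : _root_.True := by
  try have : _root_.True := by simp only [_root_.Cfsg.Agent.H384.RC.Sem.eq_1]
  exact _root_.True.intro
end
end
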