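import Mathlib
import Cfsg.Agent.H837.RC.KilledP2
import Cfsg.Agent.H93.RC.BoxB3_m3
import Cfsg.Agent.H999.PslGraphClasses
import Cfsg.Agent.H999.PslGraphTwo
import Cfsg.Agent.H199.PslOddGraph
import Cfsg.Agent.H199.PslGraphField
import Cfsg.Agent.S2697
import Cfsg.Agent.S2699
import Cfsg.Agent.H578.RC.One_m3
import Cfsg.Agent.H520.RC.MHom
import Cfsg.Agent.H262.Rx.Name
import Cfsg.Agent.H686.CgPsp
import Cfsg.Agent.S0270
import Cfsg.Agent.S0283
import Cfsg.Agent.H277.CS.PslTop
import Cfsg.Agent.LieClassical.SLGen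
import Cfsg.Agent.LieClassical.HermPerfect
import Cfsg.Agent.TwoFusion.SLTwoFacts
import Cfsg.Agent.ClassicalGeometry.SympBasic
import Cfsg.Agent.ClassicalGeometry.Sp4GraphAut
import Cfsg.Agent.H384.RC.Lin
import Cfsg.Agent.LieClassical.OrthFourCommon
import Cfsg.Agent.S0287
import Cfsg.Agent.Lib.FieldFour
import Cfsg.Agent.LieClassical.FieldTransfer
import Cfsg.Agent.S0297
import Cfsg.Agent.S0300
import Cfsg.Agent.S0303
import Cfsg.Agent.S0249
import Cfsg.Agent.S0295
import Cfsg.Agent.S0296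
import Cfsg.Agent.S0298
import Cfsg.Agent.S0301
import Cfsg.Agent.S0302
import Cfsg.Agent.H202.RC.Point_mg_m3
import Cfsg.Agent.Lib.ListFast
import Cfsg.Agent.H721.RC.Boxes_m3
import Cfsg.Agent.H916.RG.Pair_m3
import Cfsg.Agent.H233.RC.RedA
import Cfsg.Agent.H273.RC.AbelBound
import Cfsg.Agent.S2298
import Cfsg.Agent.S2303
import Cfsg.Agent.S2309
import Cfsg.Agent.S2320
import Cfsg.Agent.StdL2.FGal
import Cfsg.Agent.S0252
import Cfsg.Agent.S0253
import Cfsg.Agent.S0254
import Cfsg.Agent.ClassicalGeometry.PSL2Basic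
import Cfsg.Agent.H31.RC.Spor.Gen
import Cfsg.Agent.H199.PslField
import Cfsg.Agent.Lib.AutSL2Out
import Cfsg.Agent.H578.RC.Lin_m3
import Cfsg.Agent.H233.RC.Red_mg_m3
import Cfsg.Agent.FastGrp
import Cfsg.Agent.Prune
set_option linter.all false

section
prune_inst 0x7f00000000000000000000000000000000000000000000000000000000000000000000000000000000000000000000000000000000000000000000000000000000000000000000000000000000000000001ffdffffffffffffffffffffffffbeffbdefffffff

-- part: H384/RC/Types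
section
prune_inst 0x200200000000000000000000000000000010000000
set_option linter.all false
open scoped Cfsg.Agent.FastGrp

-- part: H384/RC/Norm
section
/-!
# S3510 part B: normal forms of involutory dualities (helper384)
-/

set_option autoImplicit false

namespace Cfsg.Agent.H384.RC

open Matrix Cfsg
open Cfsg.Agent.ClassicalGeometry.AutPSL.Auto
open Cfsg.Agent.H999.PslGraph
open Cfsg.Agent.H199.PslAut (Psi phi iot)
open Cfsg.Agent.H199.PslGraphField (gf)

section equiv

variable {ι κ F : Type*} [Fintype ι] [DecidableEq ι] [Fintype κ] [DecidableEq κ] [Field F]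

/-- congruent (up to a scalar) Gram matrices -/
theorem Killed.of_congr {B B' : GL ι F} (P : GL ι F) {c : F} (hc : c ≠ 0)
    (h : (P : Matrix ι ι F)ᵀ * B * P = c • (B' : Matrix ι ι F)) (hk : Killed (gam B')) [Nontrivial ι] :
    Killed (gam B) := by
  have h1 : gam (ct P⁻¹ * B * (P⁻¹)⁻¹) = gam B' := by
    rw [gam_eq_iff]
    refine ⟨c⁻¹, inv_ne_zero hc, ?_⟩
    have e : ((ct P⁻¹ * B * (P⁻¹)⁻¹ : GL ι F) : Matrix ι ι F) = (P : Matrix ι ι F)ᵀ * B * P := by
      rw [inv_inv, Units.val_mul, Units.val_mul, ct_inv, coe_ct_inv]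
    rw [e, h, smul_smul, inv_mul_cancel₀ hc, one_smul]
  have h2 := gam_conj P⁻¹ B
  rw [h1] at h2
  have h3 : gam B = Cj P * gam B' * (Cj P)⁻¹ := by
    rw [← h2, map_inv]
    group
  rw [h3]
  exact hk.conj _

theorem bil_sub (e : ι ≃ κ) (B : Matrix κ κ F) (u v : ι → F) :
    bil (B.submatrix e e) u v = bil B (u ∘ e.symm) (v ∘ e.symm) := by
  rw [bil, bil, Matrix.submatrix_mulVec_equiv, dotProduct, dotProduct]
  exact Fintype.sum_equiv e _ _ fun i => by simp

/-- forms which are equivalent up to a scalar -/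
theorem Killed.of_equiv [Nontrivial ι] (B : GL ι F) (B' : GL κ F) (T : (κ → F) ≃ₗ[F] (ι → F)) {c : F}
    (hc : c ≠ 0)
    (h : ∀ u v, bil (B : Matrix ι ι F) (T u) (T v) = c * bil (B' : Matrix κ κ F) u v)
    (hk : Killed (gam B')) : Killed (gam B) := by
  have hcard : Fintype.card κ = Fintype.card ι := by
    have := T.finrank_eq
    simpa only [_root_.Module.finrank_fintype_fun_eq_card] using this
  let e : κ ≃ ι := Fintype.equivOfCardEq hcard
  have h1 : Killed (gam (reGL e B')) := by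
    rw [← congr_gam]
    exact hk.congr _
  let E : (ι → F) ≃ₗ[F] (κ → F) := LinearEquiv.funCongrLeft F F e
  let T' : (ι → F) ≃ₗ[F] (ι → F) := E.trans T
  have h2 : LinearMap.toMatrix' (T' : (ι → F) →ₗ[F] (ι → F)) *
      LinearMap.toMatrix' (T'.symm : (ι → F) →ₗ[F] (ι → F)) = 1 := by
    rw [← LinearMap.toMatrix'_comp]
    simp
  have h3 : LinearMap.toMatrix' (T'.symm : (ι → F) →ₗ[F] (ι → F)) *
      LinearMap.toMatrix' (T' : (ι → F) →ₗ[F] (ι → F)) = 1 := by
    rw [← LinearMap.toMatrix'_comp]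
    simp
  let P : GL ι F := ⟨_, _, h2, h3⟩
  have hP : ∀ u, (P : Matrix ι ι F) *ᵥ u = T (u ∘ e) := by
    intro u
    change LinearMap.toMatrix' (T' : (ι → F) →ₗ[F] (ι → F)) *ᵥ u = T (u ∘ e)
    rw [LinearMap.toMatrix'_mulVec]
    rfl
  refine Killed.of_congr P hc ?_ h1
  apply bil_ext
  intro u v
  rw [← bil_mulVec, hP, hP, h, bil_smul, coe_reGL, bil_sub]
  rfl

end equiv

section dual

variable {F : Type} [Field F] [Fintype F] {n : ℕ}

theorem psi_phi_mem (g : GL (Fin n) F) (σ : F ≃+* F) : Psi n F g * phi n F σ ∈ gammaPSL n F :=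
  Subgroup.subset_closure ⟨g, σ, (Cfsg.Agent.H199.PslAut.induced_iff g σ _).2 rfl⟩

theorem orderOf_gf (hn : 3 ≤ n) {σ : F ≃+* F} (hσ : orderOf σ = 2) : orderOf (gf n σ) = 2 := by
  apply orderOf_eq_prime
  · rw [Cfsg.Agent.H199.PslGraphField.gf_sq]
    have : σ ^ 2 = 1 := by rw [← hσ, pow_orderOf_eq_one]
    rw [this, map_one]
  · intro h
    have h1 : Psi n F 1 * phi n F σ * iot n F = phi n F 1 := by
      rw [map_one, one_mul, map_one]
      exact h
    exact Cfsg.Agent.H199.PslAut.not_graph' hn h1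

/-- involutory dualities -/
theorem dual_cases (hn : 3 ≤ n) (t : MulAut (Matrix.ProjectiveSpecialLinearGroup (Fin n) F))
    (ht : t ∉ gammaPSL n F) (ht2 : t * t = 1) :
    (∃ B : GL (Fin n) F, t = gam B ∧ ((B : Matrix (Fin n) (Fin n) F)ᵀ = B ∨
      (B : Matrix (Fin n) (Fin n) F)ᵀ = -B)) ∨
    (∃ σ : F ≃+* F, orderOf σ = 2 ∧ IsConjUnder (inndiagPSL n F) (gf n σ) t) := by
  have hn2 : 2 ≤ n := by omega
  rcases Cfsg.Agent.H199.PslAut.exists_form hn2 t with ⟨g, σ, h⟩ | ⟨-, g, σ, h⟩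
  · exact absurd (h ▸ psi_phi_mem g σ) ht
  have h1 : t = Psi n F g * gf n σ := by rw [h, gf, mul_assoc]
  have hsq : t * t = Psi n F (g * Cfsg.Agent.H199.PslAut.mapGL σ (Cfsg.Agent.H199.PslAut.itGL g)) *
      phi n F (σ ^ 2) := by
    rw [h1, mul_assoc, ← mul_assoc (gf n σ), Cfsg.Agent.H199.PslGraphField.gf_mul_Psi,
      ← Cfsg.Agent.H199.PslGraphField.gf_sq, pow_two, map_mul]
    simp only [mul_assoc]
  have hσ2 : σ ^ 2 = 1 := by
    rw [ht2] at hsq
    have h3 : Psi n F (g * Cfsg.Agent.H199.PslAut.mapGL σ (Cfsg.Agent.H199.PslAut.itGL g)) *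
      phi n F (σ ^ 2) = phi n F 1 := by rw [← hsq, map_one]
    exact (Cfsg.Agent.H199.PslAut.Psi_phi_eq hn2 h3).2
  have hto : orderOf t = 2 := by
    apply orderOf_eq_prime
    · rw [pow_two, ht2]
    · rintro rfl
      exact ht (Subgroup.one_mem _)
  by_cases hσ : σ = 1
  · left
    refine ⟨g⁻¹, ?_, ?_⟩
    · rw [h, hσ, map_one, mul_one, gam, inv_inv]
      rfl
    · have h4 : t = gam g⁻¹ := by
        rw [h, hσ, map_one, mul_one, gam, inv_inv]
        rfl
      exact (orderOf_gam' hn g⁻¹).1 (h4 ▸ hto)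
  · right
    have hσo : orderOf σ = 2 := orderOf_eq_prime hσ2 hσ
    refine ⟨σ, hσo, ?_⟩
    obtain ⟨p, hp⟩ := CharP.exists F
    obtain ⟨k, hpp, hk⟩ := FiniteField.card F p
    have : Fact p.Prime := ⟨hpp⟩
    have hgf : IsGraphFieldAutClassPSL (gf n σ) := by
      refine ⟨hn, 1, phi n F σ, iot n F, σ, ?_, (Cfsg.Agent.H199.PslAut.std_iff σ _).2 rfl,
        (Cfsg.Agent.H199.PslAut.invTr_iff _).2 rfl, ?_⟩
      · exact hσ
      · rw [one_mul, inv_one, mul_one]
        rfl
    have h5 := (S2697.result (F := F) (p := p) (f := k) hk k.2 hn2 (by omega) (gf n σ) (Psi n F g)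
      (Or.inr hgf) Nat.prime_two (orderOf_gf hn hσo) (Cfsg.Agent.H199.PslAut.Psi_mem g)).1
      (h1 ▸ hto)
    rw [← h1] at h5
    exact h5

theorem card_sq {σ : F ≃+* F} (hσ : orderOf σ = 2) : ∃ q : ℕ, Fintype.card F = q ^ 2 ∧
    ∀ a, σ a = a ^ q := by
  obtain ⟨p, hp⟩ := CharP.exists F
  obtain ⟨k, hpp, hk⟩ := FiniteField.card F p
  have : Fact p.Prime := ⟨hpp⟩
  obtain ⟨-, h2⟩ := Cfsg.Agent.H199.PslField.prime_dvd hk hσ two_pos
  exact ⟨p ^ ((k : ℕ) / 2), h2.symm, Cfsg.Agent.H199.PslGraphField.eq_pow h2.symm hσ⟩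

end dual

end Cfsg.Agent.H384.RC
end

-- part: H384/RC/Class
section
/-!
# S3510 part B: all involutory dualities from the standard ones (helper384)
-/

set_option autoImplicit false

namespace Cfsg.Agent.H384.RC

open Matrix Cfsg
open Cfsg.Agent.ClassicalGeometry.AutPSL.Auto
open Cfsg.Agent.H999.PslGraph Cfsg.Agent.H999.PslGraphClasses Cfsg.Agent.H999.PslGraphTwo
open Cfsg.Agent.H999.PslGraphOdd
open Cfsg.Agent.H199.PslGraphField (gf)

theorem Killed.of_conjUnder {S : Type*} [Group S] {H : Subgroup (MulAut S)} {x y : MulAut S}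
    (h : IsConjUnder H x y) (hk : Killed x) : Killed y := by
  obtain ⟨g, -, rfl⟩ := h
  exact hk.conj g

/-- the Gram matrix of `quadFormOdd` -/
def gramOdd (m : ℕ) (F : Type*) [Field F] :
    Matrix (Unit ⊕ (Fin m ⊕ Fin m)) (Unit ⊕ (Fin m ⊕ Fin m)) F :=
  fromBlocks ((2 : F) • (1 : Matrix Unit Unit F)) 0 0 (gramPlus m F)

theorem gramOdd_transpose {F : Type*} [Field F] (m : ℕ) : (gramOdd m F)ᵀ = gramOdd m F := by
  rw [gramOdd, fromBlocks_transpose, transpose_zero, transpose_zero, gramPlus_transpose,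
    transpose_smul, transpose_one]

theorem bil_gramOdd {F : Type*} [Field F] (m : ℕ) (v : Unit ⊕ (Fin m ⊕ Fin m) → F) :
    v ⬝ᵥ (gramOdd m F *ᵥ v) = 2 * quadFormOdd m F v := by
  have h1 := bil_gramPlus m (v ∘ Sum.inr)
  rw [bil, dotProduct] at h1
  rw [quadFormOdd, gramOdd, dotProduct, Fintype.sum_sum_type, fromBlocks_mulVec]
  simp only [Sum.elim_inl, Sum.elim_inr, zero_mulVec, zero_add, add_zero]
  rw [mul_add]
  congr 1
  simp only [smul_mulVec, _root_.Finset.univ_unique, _root_.PUnit.default_eq_unit, _root_.Matrix.smul_mulVec, _root_.Matrix.one_mulVec, _root_.Pi.smul_apply, _root_.Function.comp_apply, _root_.smul_eq_mul, _root_.Finset.sum_singleton]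
  ring

theorem det_gramOdd_ne_zero {F : Type*} [Field F] (h2 : (2 : F) ≠ 0) (m : ℕ) :
    (gramOdd m F).det ≠ 0 := by
  rw [gramOdd, det_fromBlocks_zero₁₂, det_smul, det_one, mul_one]
  rw [det_gramPlus]
  exact mul_ne_zero (pow_ne_zero _ h2) (pow_ne_zero _ (neg_ne_zero.2 one_ne_zero))

/-- the matrix of the form in characteristic two, odd dimension -/
theorem det_one_J_ne_zero {F : Type*} [Field F] (m : ℕ) :
    (fromBlocks (1 : Matrix Unit Unit F) 0 0 (J (Fin m) F)).det ≠ 0 := by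
  rw [det_fromBlocks_zero₁₂, det_one, one_mul]
  exact (isUnit_det_J (Fin m) F).ne_zero

/-- the symplectic matrix as an element of `GL` -/
noncomputable def JG (m : ℕ) (F : Type*) [Field F] : GL (Fin m ⊕ Fin m) F :=
  Matrix.GeneralLinearGroup.mkOfDetNeZero (J (Fin m) F) (isUnit_det_J (Fin m) F).ne_zero

theorem coe_JG (m : ℕ) (F : Type*) [Field F] : (JG m F : Matrix _ _ F) = J (Fin m) F := rfl

/-- the standard forms of dimension `n` are killed -/
structure Types (n : ℕ) (F : Type) [Field F] [Fintype F] : Prop where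
  S : ∀ m : ℕ, n = 2 * m → ∀ B : GL (Fin m ⊕ Fin m) F, (B : Matrix _ _ F) = J (Fin m) F →
    Killed (gam B)
  odd : (2 : F) ≠ 0 → ∀ m : ℕ, n = 2 * m + 1 → ∀ B : GL (Unit ⊕ (Fin m ⊕ Fin m)) F,
    (B : Matrix _ _ F) = gramOdd m F → Killed (gam B)
  plus : (2 : F) ≠ 0 → ∀ m : ℕ, n = 2 * m → ∀ B : GL (Fin m ⊕ Fin m) F,
    (B : Matrix _ _ F) = gramPlus m F → Killed (gam B)
  minus : (2 : F) ≠ 0 → ∀ (m : ℕ) (a b : F), n = 2 * m + 2 →
    (∀ z₁ z₂ : F, z₁ ^ 2 + a * z₁ * z₂ + b * z₂ ^ 2 = 0 → z₁ = 0 ∧ z₂ = 0) →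
    ∀ B : GL ((Fin m ⊕ Fin m) ⊕ Fin 2) F, (B : Matrix _ _ F) = gramMinus m F a b → Killed (gam B)
  P1 : CharP F 2 → ∀ m : ℕ, n = 2 * m + 1 → ∀ B : GL (Unit ⊕ (Fin m ⊕ Fin m)) F,
    (B : Matrix _ _ F) = fromBlocks (1 : Matrix Unit Unit F) 0 0 (J (Fin m) F) → Killed (gam B)
  P2 : CharP F 2 → ∀ m : ℕ, n = 2 * m → ∀ l : Fin m ⊕ Fin m → F, l ≠ 0 →
    ∀ B : GL (Fin m ⊕ Fin m) F, (B : Matrix _ _ F) = J (Fin m) F + vecMulVec l l → Killed (gam B)
  U : ∀ (q : ℕ) (σ : F ≃+* F), Fintype.card F = q ^ 2 → (∀ a, σ a = a ^ q) →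
    Killed (lift (fld σ) * It : MulAut (Matrix.ProjectiveSpecialLinearGroup (Fin n) F))

section main

variable {F : Type} [Field F] [Fintype F] {n : ℕ}

theorem rx_coe {κ : Type} [Fintype κ] [DecidableEq κ] (e : Fin n ≃ κ) (C : Matrix κ κ F) (hC : C.det ≠ 0) :
    reGL e (rx e C hC) = Matrix.GeneralLinearGroup.mkOfDetNeZero C hC := by
  apply Units.ext
  rw [coe_reGL, coe_rx]
  ext i j
  simp

theorem Killed.of_rx {κ : Type} [Fintype κ] [DecidableEq κ] (e : Fin n ≃ κ) (C : Matrix κ κ F)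
    (hC : C.det ≠ 0) (h : Killed (gam (Matrix.GeneralLinearGroup.mkOfDetNeZero C hC))) :
    Killed (gam (rx e C hC)) := by
  have h1 : MulAut.congr (rePSL e) (gam (rx e C hC)) =
      gam (Matrix.GeneralLinearGroup.mkOfDetNeZero C hC) := by
    rw [congr_gam, rx_coe]
  rw [← h1] at h
  have h2 := h.congr (rePSL e).symm
  have h3 : MulAut.congr (rePSL e).symm (MulAut.congr (rePSL e) (gam (rx e C hC))) =
      gam (rx e C hC) := by
    ext x
    simp [MulAut.congr]
  rwa [h3] at h2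

theorem killed_gam (hn : 3 ≤ n) (hT : Types n F) (B : GL (Fin n) F)
    (hB : (B : Matrix (Fin n) (Fin n) F)ᵀ = B ∨ (B : Matrix (Fin n) (Fin n) F)ᵀ = -B) :
    Killed (gam B) := by
  have hn2 : 2 ≤ n := by omega
  have hnt : Nontrivial (Fin n) := Fin.nontrivial_iff_two_le.2 hn2
  obtain ⟨m, hm⟩ := Nat.even_or_odd' n
  obtain ⟨p, hp⟩ := CharP.exists F
  obtain ⟨k, hpp, hk⟩ := FiniteField.card F p
  have hfp : Fact p.Prime := ⟨hpp⟩
  -- the alternating case
  have hS : (∀ v, bil (B : Matrix (Fin n) (Fin n) F) v v = 0) → n = 2 * m → Killed (gam B) := by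
    intro halt hnm
    obtain ⟨e, he⟩ := exists_symp hnm B halt
    refine Killed.of_equiv B (JG m F) e one_ne_zero (fun u v => ?_) (hT.S m hnm _ (coe_JG m F))
    rw [he, one_mul]
    rfl
  rcases hm with hm | hm
  · by_cases h2 : (2 : F) = 0
    · -- characteristic two
      have hc2 : CharP F 2 := CharTwo.of_one_ne_zero_of_two_eq_zero one_ne_zero h2
      have hBs : (B : Matrix (Fin n) (Fin n) F)ᵀ = B := by
        rcases hB with h | h
        · exact h
        · rw [h]
          ext i j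
          rw [Matrix.neg_apply]
          have : (B : Matrix (Fin n) (Fin n) F) i j + (B : Matrix (Fin n) (Fin n) F) i j = 0 := by
            rw [← two_mul, h2, zero_mul]
          exact neg_eq_of_add_eq_zero_left this
      by_cases halt : ∀ v, bil (B : Matrix (Fin n) (Fin n) F) v v = 0
      · exact hS halt hm
      · have hm0 : 0 < m := by omega
        let w : Fin m ⊕ Fin m → F := Pi.single (.inl ⟨0, hm0⟩) 1
        have hw : w ≠ 0 := by
          intro h
          have := congrFun h (.inl ⟨0, hm0⟩)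
          simp [w] at this
        obtain ⟨T, hT'⟩ := Cfsg.Agent.H999.PslGraphTwo.exists_form hm B hBs halt hw
        have hdet : (J (Fin m) F + vecMulVec w w).det ≠ 0 := by
          intro h
          obtain ⟨v, hv, hv0⟩ := Matrix.exists_mulVec_eq_zero_iff.2 h
          have h5 : ∀ u, bil (B : Matrix (Fin n) (Fin n) F) u (T v) = 0 := by
            intro u
            have h6 := hT' (T.symm u) v
            rw [LinearEquiv.apply_symm_apply] at h6
            rw [h6, bil, hv0, dotProduct_zero]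
          have h7 : T v = 0 := by
            funext i
            have h8 := h5 (((ct B : GL (Fin n) F) : Matrix (Fin n) (Fin n) F) *ᵥ Pi.single i 1)
            rw [bil, dotProduct_mulVec, ← mulVec_transpose, mulVec_mulVec] at h8
            have h9 : (B : Matrix (Fin n) (Fin n) F)ᵀ * ((ct B : GL (Fin n) F) : Matrix (Fin n) (Fin n) F) = 1 := by
              rw [← coe_ct_inv, ← Units.val_mul, inv_mul_cancel, Units.val_one]
            rw [h9, one_mulVec, single_dotProduct, one_mul] at h8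
            exact h8
          apply hv
          have := congrArg T.symm h7
          rwa [LinearEquiv.symm_apply_apply, map_zero] at this
        refine Killed.of_equiv B (Matrix.GeneralLinearGroup.mkOfDetNeZero _ hdet) T one_ne_zero
          (fun u v => ?_) (hT.P2 hc2 m hm w hw _ rfl)
        rw [hT', one_mul]
        rfl
    · rcases hB with h | h
      · -- symmetric
        obtain ⟨m', rfl⟩ : ∃ m', m = m' + 1 := ⟨m - 1, by omega⟩
        obtain ⟨a, b, hab⟩ : ∃ a b : F, ∀ z₁ z₂ : F, z₁ ^ 2 + a * z₁ * z₂ + b * z₂ ^ 2 = 0 →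
            z₁ = 0 ∧ z₂ = 0 := by
          obtain ⟨ν, hν⟩ := exists_not_isSquare h2
          refine ⟨0, -ν, fun z₁ z₂ h => ?_⟩
          have hz : z₂ = 0 := by
            by_contra hz
            apply hν
            refine ⟨z₁ / z₂, ?_⟩
            field_simp
            linear_combination -h
          subst hz
          refine ⟨?_, rfl⟩
          have : z₁ ^ 2 = 0 := by linear_combination h
          exact pow_eq_zero_iff two_ne_zero |>.1 this
        have e : Fin n ≃ Fin (m' + 1) ⊕ Fin (m' + 1) :=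
          Fintype.equivOfCardEq (by simp; omega)
        have e' : Fin n ≃ (Fin m' ⊕ Fin m') ⊕ Fin 2 :=
          Fintype.equivOfCardEq (by simp only [_root_.Fintype.card_fin, _root_.Fintype.card_sum]; omega)
        rcases symm_dichotomy h2 hn2 hab e e' B h with ⟨-, P, hP⟩ | ⟨-, P, hP⟩
        · have h5 : Killed (gam (rx e (gramPlus (m' + 1) F) (det_gramPlus_ne_zero _))) :=
            Killed.of_rx e _ _ (hT.plus h2 (m' + 1) hm _ rfl)
          refine Killed.of_congr P⁻¹ one_ne_zero ?_ h5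
          rw [hP, one_smul]
          have e1 : ((P⁻¹ : GL (Fin n) F) : Matrix (Fin n) (Fin n) F)ᵀ * (P : Matrix (Fin n) (Fin n) F)ᵀ = 1 := by
            rw [← transpose_mul, ← Units.val_mul, mul_inv_cancel, Units.val_one, transpose_one]
          have e2 : (P : Matrix (Fin n) (Fin n) F) * ((P⁻¹ : GL (Fin n) F) : Matrix (Fin n) (Fin n) F) = 1 := by
            rw [← Units.val_mul, mul_inv_cancel, Units.val_one]
          calc _ = (((P⁻¹ : GL (Fin n) F) : Matrix (Fin n) (Fin n) F)ᵀ * (P : Matrix (Fin n) (Fin n) F)ᵀ) *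
                (rx e (gramPlus (m' + 1) F) (det_gramPlus_ne_zero _) : Matrix (Fin n) (Fin n) F) *
                ((P : Matrix (Fin n) (Fin n) F) * ((P⁻¹ : GL (Fin n) F) : Matrix (Fin n) (Fin n) F)) := by
                simp only [Matrix.mul_assoc]
            _ = _ := by rw [e1, e2, Matrix.one_mul, Matrix.mul_one]
        · have h5 : Killed (gam (rx e' (gramMinus m' F a b) (det_gramMinus_ne_zero h2 m' hab))) :=
            Killed.of_rx e' _ _ (hT.minus h2 m' a b (by omega) hab _ rfl)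
          refine Killed.of_congr P⁻¹ one_ne_zero ?_ h5
          rw [hP, one_smul]
          have e1 : ((P⁻¹ : GL (Fin n) F) : Matrix (Fin n) (Fin n) F)ᵀ * (P : Matrix (Fin n) (Fin n) F)ᵀ = 1 := by
            rw [← transpose_mul, ← Units.val_mul, mul_inv_cancel, Units.val_one, transpose_one]
          have e2 : (P : Matrix (Fin n) (Fin n) F) * ((P⁻¹ : GL (Fin n) F) : Matrix (Fin n) (Fin n) F) = 1 := by
            rw [← Units.val_mul, mul_inv_cancel, Units.val_one]
          calc _ = (((P⁻¹ : GL (Fin n) F) : Matrix (Fin n) (Fin n) F)ᵀ * (P : Matrix (Fin n) (Fin n) F)ᵀ) *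
                (rx e' (gramMinus m' F a b) (det_gramMinus_ne_zero h2 m' hab) : Matrix (Fin n) (Fin n) F) *
                ((P : Matrix (Fin n) (Fin n) F) * ((P⁻¹ : GL (Fin n) F) : Matrix (Fin n) (Fin n) F)) := by
                simp only [Matrix.mul_assoc]
            _ = _ := by rw [e1, e2, Matrix.one_mul, Matrix.mul_one]
      · exact hS (bil_self_of_skew h2 h) hm
  · -- odd dimension
    have hgr : ∀ C : GL (Fin n) F, (C : Matrix (Fin n) (Fin n) F)ᵀ = C → IsGraphAutClassPSL (gam C) ∧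
        orderOf (gam C) = 2 := fun C hC => ⟨(isGraph_iff hn).2 ⟨C, rfl⟩, (orderOf_gam' hn C).2 (Or.inl hC)⟩
    have hBo : orderOf (gam B) = 2 := (orderOf_gam' hn B).2 hB
    have hconj : ∀ C : GL (Fin n) F, (C : Matrix (Fin n) (Fin n) F)ᵀ = C →
        IsConjUnder (inndiagPSL n F) (gam C) (gam B) := fun C hC =>
      (S2699.result (F := F) (p := p) (f := k) hk k.2 hn hm (gam C) (gam B) (hgr C hC).1 (hgr C hC).2
        ((isGraph_iff hn).2 ⟨B, rfl⟩) hBo).2
    have e : Fin n ≃ Unit ⊕ (Fin m ⊕ Fin m) := Fintype.equivOfCardEq (by simp only [_root_.Fintype.card_fin, _root_.Fintype.card_sum, _root_.Fintype.card_unique]; omega)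
    by_cases h2 : (2 : F) = 0
    · have hc2 : CharP F 2 := CharTwo.of_one_ne_zero_of_two_eq_zero one_ne_zero h2
      have hneg : ∀ a : F, -a = a := fun a => by
        have : a + a = 0 := by rw [← two_mul, h2, zero_mul]
        exact neg_eq_of_add_eq_zero_left this
      refine Killed.of_conjUnder (hconj (rx e _ (det_one_J_ne_zero m)) ?_)
        (Killed.of_rx e _ _ (hT.P1 hc2 m hm _ rfl))
      rw [rx_transpose, coe_rx, fromBlocks_transpose, transpose_zero, transpose_zero, transpose_one,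
        J_transpose]
      congr 2
      ext i j
      rw [Matrix.neg_apply, hneg]
    · refine Killed.of_conjUnder (hconj (rx e _ (det_gramOdd_ne_zero h2 m)) ?_)
        (Killed.of_rx e _ _ (hT.odd h2 m hm _ rfl))
      rw [rx_transpose, coe_rx, gramOdd_transpose]

/-- all involutory dualities are killed -/
theorem killed_dual (hn : 3 ≤ n) (hT : Types n F)
    (t : MulAut (Matrix.ProjectiveSpecialLinearGroup (Fin n) F))
    (ht : t ∉ gammaPSL n F) (ht2 : t * t = 1) : Killed t := by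
  rcases dual_cases hn t ht ht2 with ⟨B, rfl, hB⟩ | ⟨σ, hσ, h⟩
  · exact killed_gam hn hT B hB
  · obtain ⟨q, hq, hσq⟩ := card_sq hσ
    exact Killed.of_conjUnder h (hT.U q σ hq hσq)

end main

end Cfsg.Agent.H384.RC
end

-- part: H384/RC/Inst
section
/-!
# S3510 part B: instances from the induction hypothesis (helper384)
-/

set_option autoImplicit false

namespace Cfsg.Agent.H384.RC

open Matrix Cfsg
open Cfsg.Agent.H106.RC
open Cfsg.Agent.H610.RC

theorem not_comm_of_perfect {G : Type*} [Group G] (hs : IsSimpleGroup G)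
    (h : commutator G = ⊤) : ¬ IsMulCommutative G := by
  intro hc
  have := hs
  have h5 : commutator G = ⊥ := by
    rw [commutator_eq_bot_iff_center_eq_top, Subgroup.eq_top_iff']
    intro x
    rw [Subgroup.mem_center_iff]
    exact fun y => hc.is_comm.comm y x
  rw [h] at h5
  exact top_ne_bot h5

theorem commutator_quot {G : Type*} [Group G] (N : Subgroup G) [N.Normal] (h : commutator G = ⊤) :
    commutator (G ⧸ N) = ⊤ := by
  rw [commutator_def] at h ⊢
  have h1 := Subgroup.map_commutator (⊤ : Subgroup G) ⊤ (QuotientGroup.mk' N)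
  rw [h, ← MonoidHom.range_eq_map, MonoidHom.range_eq_top.2 (QuotientGroup.mk'_surjective N)] at h1
  exact h1.symm

theorem card_alt8 : Nat.card (alternatingGroup (Fin 8)) = 20160 := by
  have := card_alt 8 (by norm_num)
  have h : (8 : ℕ).factorial = 40320 := rfl
  omega

section

variable {N : ℕ} {F : Type} [Field F] [Fintype F]

theorem psl2_facts (hq : 4 ≤ Fintype.card F) :
    IsSimpleGroup (Matrix.ProjectiveSpecialLinearGroup (Fin 2) F) ∧
      ¬ IsMulCommutative (Matrix.ProjectiveSpecialLinearGroup (Fin 2) F) := by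
  have h1 : IsSimpleGroup (Matrix.ProjectiveSpecialLinearGroup (Fin 2) F) :=
    TwoFusion.SLTwoFacts.isSimpleGroup_psl (by omega)
  exact ⟨h1, not_comm_of_perfect h1 (commutator_quot _ (TwoFusion.SLTwoFacts.commutator_eq_top (by omega)))⟩

theorem rco_psl2 (hIH : IH N) (hq : 4 ≤ Fintype.card F)
    (hlt : Nat.card (Matrix.ProjectiveSpecialLinearGroup (Fin 2) F) < N) :
    RCo (Matrix.ProjectiveSpecialLinearGroup (Fin 2) F) := by
  obtain ⟨h1, h2⟩ := psl2_facts hq
  have hfin : Finite (Matrix.ProjectiveSpecialLinearGroup (Fin 2) F) := inferInstance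
  refine rco_ih hIH h1 h2 (Or.inl ⟨F, _, _, 2, le_rfl, fun _ => hq, ⟨MulEquiv.refl _⟩⟩) ?_ hlt
  intro h8
  have h3 := psl_exc (F := F) (n := 2) le_rfl (Or.inr (Or.inr h8))
  have h4 : Nat.card (Matrix.ProjectiveSpecialLinearGroup (Fin 2) F) = 20160 := by
    obtain ⟨e⟩ := h8
    exact (Nat.card_congr e.toEquiv).trans card_alt8
  have h5 := Cfsg.Agent.H277.CS.card_psl (F := F) rfl (n := 2) le_rfl
  rw [h4] at h5
  rcases h3 with ⟨-, h3 | h3 | h3⟩ | ⟨h3, -⟩
  · rw [h3] at h5
    norm_num at h5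
  · rw [h3] at h5
    norm_num at h5
  · rw [h3] at h5
    norm_num at h5
  · omega

theorem rc_psp (hIH : IH N) {m : ℕ} (hm : 2 ≤ m) (hne : ¬ (m = 2 ∧ Fintype.card F = 2))
    (hlt : Nat.card (PSp m F) < N) : RC (PSp m F) := by
  have h3 : m = 2 → 3 ≤ Fintype.card F := fun h => by
    have : Fintype.card F ≠ 2 := fun h' => hne ⟨h, h'⟩
    have h7 : 1 < Fintype.card F := Fintype.one_lt_card
    omega
  have hfin : Finite (PSp m F) := inferInstance
  exact hIH (PSp m F) (S0270.result m hm h3) (Cfsg.Agent.H686.CgPsp.psp_nonab hm h3)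
    (Or.inr (Or.inl ⟨F, _, _, m, hm, h3, ⟨MulEquiv.refl _⟩⟩)) (psp_not_exc hm h3) hlt

theorem rco_psp_one (hIH : IH N) (hq : 4 ≤ Fintype.card F) : IsSimpleGroup (PSp 1 F) ∧
    ¬ IsMulCommutative (PSp 1 F) ∧ (Nat.card (PSp 1 F) < N → RCo (PSp 1 F)) := by
  let e : PSp 1 F ≃* Matrix.ProjectiveSpecialLinearGroup (Fin 2) F := Cfsg.Agent.H262.Rx.pspOne F
  obtain ⟨h1, h2⟩ := psl2_facts hq
  refine ⟨isSimple_cgr e.symm h1, notComm_cgr e.symm h2, fun h => ?_⟩
  exact (rco_psl2 hIH hq ((Nat.card_congr e.toEquiv) ▸ h)).congr e.symm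

theorem rco_psu (hIH : IH N) {n q : ℕ} (hq : Fintype.card F = q ^ 2) (hn : 3 ≤ n)
    (hne : ¬ (n = 3 ∧ q = 2)) (hlt : Nat.card (PSU n F q) < N) : RCo (PSU n F q) := by
  have hs : IsSimpleGroup (PSU n F q) := S0283.result hq n hn hne
  have hfin : Finite (PSU n F q) := inferInstance
  refine RCo.of_RC (hIH (PSU n F q) hs (not_comm_of_perfect hs (commutator_quot _
    (Cfsg.Agent.LieClassical.HermPerfect.commutator_SU_eq_top hq hn hne)))
    (Or.inr (Or.inr (Or.inl ⟨F, _, _, n, q, hq, hn, hne, ⟨MulEquiv.refl _⟩⟩)))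
    (psu_not_exc hq hn hne) hlt)

theorem rc_psl32 (hIH : IH N) (hlt : 168 < N) :
    RC (Matrix.ProjectiveSpecialLinearGroup (Fin 3) (ZMod 2)) := by
  have hs : IsSimpleGroup (Matrix.ProjectiveSpecialLinearGroup (Fin 3) (ZMod 2)) :=
    Cfsg.Agent.LieClassical.SLGen.psl_isSimpleGroup (by simp)
  have hc : Nat.card (Matrix.ProjectiveSpecialLinearGroup (Fin 3) (ZMod 2)) = 168 := by
    have h3 := Cfsg.Agent.H277.CS.card_psl (F := ZMod 2) (q := 2) (by rfl) (n := 3) (by norm_num)
    have h4 : Nat.gcd 3 (2 - 1) = 1 := by decide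
    have h5 : 2 ^ (3 * (3 - 1) / 2) * ∏ i ∈ Finset.range (3 - 1), (2 ^ (i + 2) - 1) = 168 := by decide
    rw [h4, h5, one_mul] at h3
    exact h3
  have hfin : Finite (Matrix.ProjectiveSpecialLinearGroup (Fin 3) (ZMod 2)) := inferInstance
  have : Fact (Nat.Prime 2) := ⟨Nat.prime_two⟩
  have hsc : Cl (Matrix.ProjectiveSpecialLinearGroup (Fin 3) (ZMod 2)) :=
    Or.inl ⟨ZMod 2, (inferInstance : Field (ZMod 2)), (inferInstance : Fintype (ZMod 2)), 3,
      by norm_num, fun h => absurd h (by norm_num), ⟨MulEquiv.refl _⟩⟩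
  refine hIH (Matrix.ProjectiveSpecialLinearGroup (Fin 3) (ZMod 2)) hs
    (not_comm_of_perfect hs (commutator_quot _
      (Cfsg.Agent.LieClassical.SLGen.commutator_eq_top (by simp)))) hsc ?_ (by rw [hc]; exact hlt)
  intro h
  rcases psl_exc (F := ZMod 2) (n := 3) (by norm_num) h with ⟨h, -⟩ | ⟨h, -⟩
  · omega
  · omega

end

end Cfsg.Agent.H384.RC
end

-- part: H287/RC/KilledP1
section
/-!
# S3510 part B, box BP1 (helper287): the pseudo-symplectic polarity, characteristic two, odd dimension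

`killed_P1`. The form is `B = 1 + J` on `F ⊕ F^{2m}`, `K = Sp_{2m}(F)` acting on the second summand.
-/

set_option autoImplicit false
set_option linter.unusedSectionVars false

open Matrix Cfsg
open Cfsg.Agent.H106.RC Cfsg.Agent.H999.PslGraph Cfsg.Agent.H384.RC
open Cfsg.Agent.ClassicalGeometry.AutPSL.Auto Cfsg.Agent.ClassicalGeometry.SympBasic

namespace Cfsg.Agent.H287.RC

variable {F : Type} [Field F] {m : ℕ}

/-- the block matrix `1 ⊕ k` -/
def blkM (m : ℕ) (F : Type) [Field F] :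
    symplecticGroup (Fin m) F →* Matrix (Unit ⊕ (Fin m ⊕ Fin m)) (Unit ⊕ (Fin m ⊕ Fin m)) F where
  toFun k := fromBlocks 1 0 0 (k : Matrix (Fin m ⊕ Fin m) (Fin m ⊕ Fin m) F)
  map_one' := fromBlocks_one
  map_mul' k l := by
    rw [fromBlocks_multiply]
    simp only [_root_.Submonoid.coe_mul, _root_.mul_one, _root_.Matrix.mul_zero, _root_.add_zero, _root_.Matrix.zero_mul, _root_.Matrix.mul_one, _root_.zero_add]

/-- the block matrix `1 ⊕ k` in `GL` -/
def blk (m : ℕ) (F : Type) [Field F] : symplecticGroup (Fin m) F →* GL (Unit ⊕ (Fin m ⊕ Fin m)) F :=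
  (blkM m F).toHomUnits

theorem coe_blk (k : symplecticGroup (Fin m) F) :
    (blk m F k : Matrix (Unit ⊕ (Fin m ⊕ Fin m)) (Unit ⊕ (Fin m ⊕ Fin m)) F) =
    fromBlocks 1 0 0 (k : Matrix (Fin m ⊕ Fin m) (Fin m ⊕ Fin m) F) := rfl

theorem blk_det (k : symplecticGroup (Fin m) F) :
    (blk m F k : Matrix (Unit ⊕ (Fin m ⊕ Fin m)) (Unit ⊕ (Fin m ⊕ Fin m)) F).det = 1 := by
  rw [coe_blk, det_fromBlocks_zero₂₁, det_one, one_mul, SymplecticGroup.det_eq_one k.2]

theorem map_mul' {κ κ' κ'' : Type} [Fintype κ'] (σ : F ≃+* F) (a : Matrix κ κ' F) (b : Matrix κ' κ'' F) :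
    (a * b).map σ = a.map σ * b.map σ := Matrix.map_mul (f := (σ : F →+* F))

theorem J_map (σ : F ≃+* F) : (J (Fin m) F).map σ = J (Fin m) F := by
  rw [J, fromBlocks_map]
  congr 1
  · ext i j; simp
  · ext i j
    by_cases h : i = j
    · subst h; simp only [_root_.Matrix.map_apply, _root_.Matrix.neg_apply, _root_.Matrix.one_apply_eq, _root_.RingEquiv.map_neg_one]
    · simp [Matrix.one_apply_ne h]
  · ext i j
    by_cases h : i = j
    · subst h; simp
    · simp [Matrix.one_apply_ne h]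
  · ext i j; simp

/-- a field automorphism on the symplectic group -/
def mgS (σ : F ≃+* F) (k : symplecticGroup (Fin m) F) : symplecticGroup (Fin m) F :=
  ⟨(k : Matrix (Fin m ⊕ Fin m) (Fin m ⊕ Fin m) F).map σ, by
    have h1 := (SymplecticGroup.mem_iff').1 k.2
    rw [SymplecticGroup.mem_iff']
    have h2 : ((k : Matrix (Fin m ⊕ Fin m) (Fin m ⊕ Fin m) F)ᵀ * J (Fin m) F * k).map σ = (J (Fin m) F).map σ :=
      congrArg (fun M : Matrix (Fin m ⊕ Fin m) (Fin m ⊕ Fin m) F => M.map σ) h1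
    rw [J_map] at h2
    have e1 : ((k : Matrix (Fin m ⊕ Fin m) (Fin m ⊕ Fin m) F)ᵀ * J (Fin m) F * k).map σ =
        ((k : Matrix (Fin m ⊕ Fin m) (Fin m ⊕ Fin m) F)ᵀ).map σ * (J (Fin m) F).map σ *
          (k : Matrix (Fin m ⊕ Fin m) (Fin m ⊕ Fin m) F).map σ := by
      rw [map_mul', map_mul']
    rw [e1, J_map] at h2
    exact h2⟩

theorem coe_mgS (σ : F ≃+* F) (k : symplecticGroup (Fin m) F) :
    (mgS σ k : Matrix (Fin m ⊕ Fin m) (Fin m ⊕ Fin m) F) =
      (k : Matrix (Fin m ⊕ Fin m) (Fin m ⊕ Fin m) F).map σ := rfl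

theorem blk_mgS (σ : F ≃+* F) (k : symplecticGroup (Fin m) F) : blk m F (mgS σ k) = mg σ (blk m F k) := by
  apply Units.ext
  rw [coe_mg, coe_blk, coe_blk, fromBlocks_map, coe_mgS]
  congr 1
  · ext i j; simp
  · ext i j; simp
  · ext i j; simp

/-- alternating -/
theorem alt (v : Fin m ⊕ Fin m → F) : v ⬝ᵥ (J (Fin m) F *ᵥ v) = 0 := sympForm_self v

theorem col_quad {κ : Type} [Fintype κ] (M : Matrix (Fin m ⊕ Fin m) κ F) (j : κ) :
    (Mᵀ * J (Fin m) F * M) j j = 0 := by
  have h := alt (F := F) (M.col j)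
  rw [Matrix.mul_assoc, Matrix.mul_apply]
  rw [dotProduct] at h
  rw [← h]
  refine Finset.sum_congr rfl fun i _ => ?_
  rfl

variable [Fintype F] [CharP F 2]

/-- the automorphisms commuting with the polarity -/
theorem exists_s (B : GL (Unit ⊕ (Fin m ⊕ Fin m)) F)
    (hB : (B : Matrix (Unit ⊕ (Fin m ⊕ Fin m)) (Unit ⊕ (Fin m ⊕ Fin m)) F) = fromBlocks 1 0 0 (J (Fin m) F))
    (A : GL (Unit ⊕ (Fin m ⊕ Fin m)) F) (σ : F ≃+* F) {c : F} (hc : c ≠ 0)
    (h : (B : Matrix (Unit ⊕ (Fin m ⊕ Fin m)) (Unit ⊕ (Fin m ⊕ Fin m)) F).map σ =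
      c • ((A : Matrix (Unit ⊕ (Fin m ⊕ Fin m)) (Unit ⊕ (Fin m ⊕ Fin m)) F)ᵀ * B * A)) :
    ∃ (s : symplecticGroup (Fin m) F) (a : F), a ≠ 0 ∧
      (A : Matrix (Unit ⊕ (Fin m ⊕ Fin m)) (Unit ⊕ (Fin m ⊕ Fin m)) F) = a • (blk m F s : Matrix (Unit ⊕ (Fin m ⊕ Fin m)) (Unit ⊕ (Fin m ⊕ Fin m)) F) := by
  obtain ⟨a11, a12, a21, a22, hA⟩ : ∃ (a11 : Matrix Unit Unit F) (a12 : Matrix Unit (Fin m ⊕ Fin m) F)
      (a21 : Matrix (Fin m ⊕ Fin m) Unit F) (a22 : Matrix (Fin m ⊕ Fin m) (Fin m ⊕ Fin m) F),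
      (A : Matrix (Unit ⊕ (Fin m ⊕ Fin m)) (Unit ⊕ (Fin m ⊕ Fin m)) F) = fromBlocks a11 a12 a21 a22 :=
    ⟨_, _, _, _, (fromBlocks_toBlocks _).symm⟩
  have hBσ : (B : Matrix (Unit ⊕ (Fin m ⊕ Fin m)) (Unit ⊕ (Fin m ⊕ Fin m)) F).map σ = fromBlocks 1 0 0 (J (Fin m) F) := by
    rw [hB, fromBlocks_map, J_map]
    congr 1
    · ext i j; simp
    · ext i j; simp
    · ext i j; simp
  rw [hBσ, hB, hA, fromBlocks_transpose, fromBlocks_multiply, fromBlocks_multiply, fromBlocks_smul] at h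
  simp only [Matrix.mul_one, Matrix.mul_zero, add_zero, zero_add] at h
  rw [fromBlocks_inj] at h
  obtain ⟨h1, h2, h3, h4⟩ := h
  have h12 : a12 = 0 := by
    ext u j
    have h5 := congrFun (congrFun h4 j) j
    rw [Matrix.smul_apply, Matrix.add_apply, col_quad, add_zero] at h5
    have h6 : J (Fin m) F j j = 0 := by
      rw [J]
      rcases j with j | j <;> simp
    rw [h6, Matrix.mul_apply, smul_eq_mul] at h5
    have h7 := (mul_eq_zero.1 h5.symm).resolve_left hc
    rw [Fintype.sum_unique, transpose_apply] at h7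
    have h8 := mul_self_eq_zero.1 h7
    rw [Matrix.zero_apply]
    exact h8
  have h11 : c * (a11 () () * a11 () ()) = 1 := by
    have h5 := congrFun (congrFun h1 ()) ()
    rw [Matrix.smul_apply, Matrix.add_apply, col_quad, add_zero, Matrix.mul_apply, Fintype.sum_unique,
      transpose_apply, smul_eq_mul, Matrix.one_apply_eq] at h5
    exact h5.symm
  rw [h12] at h3 h4
  simp only [transpose_zero, Matrix.zero_mul, Matrix.mul_zero, zero_add] at h3 h4
  have h21 : a21 = 0 := by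
    have h5 : (a22ᵀ * J (Fin m) F) * (-(c • (a22 * J (Fin m) F))) = 1 := by
      rw [Matrix.mul_neg, Matrix.mul_smul, ← Matrix.mul_assoc, ← Matrix.smul_mul, ← h4, J_squared, neg_neg]
    have h6 := mul_eq_one_comm.1 h5
    have h7 : a22ᵀ * J (Fin m) F * a21 = 0 := by
      have := h3.symm
      exact (smul_eq_zero.1 this).resolve_left hc
    calc a21 = (-(c • (a22 * J (Fin m) F))) * (a22ᵀ * J (Fin m) F) * a21 := by rw [h6, Matrix.one_mul]
      _ = (-(c • (a22 * J (Fin m) F))) * ((a22ᵀ * J (Fin m) F) * a21) := by rw [Matrix.mul_assoc]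
      _ = 0 := by rw [h7, Matrix.mul_zero]
  set a := a11 () () with ha
  have ha0 : a ≠ 0 := by
    intro h0
    rw [h0, mul_zero, mul_zero] at h11
    exact zero_ne_one h11
  have hs : a⁻¹ • a22 ∈ symplecticGroup (Fin m) F := by
    rw [SymplecticGroup.mem_iff', transpose_smul, Matrix.smul_mul, Matrix.smul_mul, Matrix.mul_smul, smul_smul]
    have e : a⁻¹ * a⁻¹ = c := by
      field_simp
      rw [← h11]; ring
    rw [e, ← h4]
  refine ⟨⟨a⁻¹ • a22, hs⟩, a, ha0, ?_⟩
  rw [hA, coe_blk, fromBlocks_smul, h12, h21]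
  congr 1
  · ext i j
    rw [Matrix.smul_apply, smul_eq_mul, Subsingleton.elim i (), Subsingleton.elim j (), Matrix.one_apply_eq, mul_one]
  · rw [smul_zero]
  · rw [smul_zero]
  · rw [smul_smul, mul_inv_cancel₀ ha0, one_smul]

/-- the automorphism commuting with the polarity is semilinear on `K` -/
theorem exists_sem (hm : 1 ≤ m) (B : GL (Unit ⊕ (Fin m ⊕ Fin m)) F)
    (hB : (B : Matrix (Unit ⊕ (Fin m ⊕ Fin m)) (Unit ⊕ (Fin m ⊕ Fin m)) F) = fromBlocks 1 0 0 (J (Fin m) F))
    (x : MulAut (Matrix.ProjectiveSpecialLinearGroup (Unit ⊕ (Fin m ⊕ Fin m)) F)) {r : ℕ} (hr : Odd r)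
    (hx : x ^ r = 1) (hc : gam B * x = x * gam B) :
    ∃ (s : symplecticGroup (Fin m) F) (σ : F ≃+* F), x = Sem (blk m F s) σ := by
  have hn : Nontrivial (Unit ⊕ (Fin m ⊕ Fin m)) := ⟨Sum.inl (), Sum.inr (Sum.inl ⟨0, hm⟩), by simp⟩
  obtain ⟨A, σ, rfl⟩ := exists_sem_of_odd (by
    rw [Fintype.card_sum, Fintype.card_sum, Fintype.card_unit, Fintype.card_fin]; omega) x hr hx
  obtain ⟨c, hc0, h⟩ := (gam_comm_iff A σ B).1 hc
  obtain ⟨s, a, ha, hA⟩ := exists_s B hB A σ hc0 h
  refine ⟨s, σ, ?_⟩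
  rw [Sem, Sem]
  congr 1
  exact (Cj_eq_iff.2 ⟨a, ha, hA⟩).symm

theorem transv_inj {v w : Fin m ⊕ Fin m → F} (h : transv v (1 : F) = transv w 1) : v = w := by
  have h1 := congrArg (fun k : symplecticGroup (Fin m) F => (k : Matrix (Fin m ⊕ Fin m) (Fin m ⊕ Fin m) F)) h
  simp only [coe_transv, sympTransvection_def, add_right_inj, one_smul] at h1
  have h2 : ∀ i j, v i * v j = w i * w j := by
    intro i j
    rcases j with j | j
    · have h3 := congrFun (congrFun h1 i) (Sum.inr j)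
      rwa [vecMulVec_apply, vecMulVec_apply, J_mulVec_inr, J_mulVec_inr] at h3
    · have h3 := congrFun (congrFun h1 i) (Sum.inl j)
      rw [vecMulVec_apply, vecMulVec_apply, J_mulVec_inl, J_mulVec_inl] at h3
      simpa only [_root_.mul_neg, _root_.neg_inj] using h3
  funext i
  have h3 := h2 i i
  rw [← pow_two, ← pow_two] at h3
  exact CharTwo.sq_injective h3

theorem mgS_transv (σ : F ≃+* F) (v : Fin m ⊕ Fin m → F) :
    mgS σ (transv v (1 : F)) = transv (fun i => σ (v i)) 1 := by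
  apply Subtype.ext
  rw [coe_mgS, coe_transv, coe_transv, sympTransvection_def, sympTransvection_def]
  ext i j
  rw [Matrix.map_apply, Matrix.add_apply, Matrix.add_apply, one_smul, one_smul, map_add, vecMulVec_apply,
    vecMulVec_apply, map_mul]
  congr 1
  · by_cases h : i = j
    · subst h; simp
    · simp [Matrix.one_apply_ne h]
  · congr 1
    rcases j with j | j
    · rw [J_mulVec_inl, J_mulVec_inl, map_neg]
    · rw [J_mulVec_inr, J_mulVec_inr]

/-- only the identity centralises `K` -/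
theorem eq_one_of_cent (hm : 1 ≤ m) (s : symplecticGroup (Fin m) F) (σ : F ≃+* F)
    (h : ∀ k, Sem (blk m F s) σ * Cj (blk m F k) = Cj (blk m F k) * Sem (blk m F s) σ) :
    s = 1 ∧ σ = RingEquiv.refl F := by
  have hn : Nontrivial (Unit ⊕ (Fin m ⊕ Fin m)) := ⟨Sum.inl (), Sum.inr (Sum.inl ⟨0, hm⟩), by simp⟩
  have h1 : ∀ k, s * mgS σ k = k * s := by
    intro k
    obtain ⟨c, hc, h2⟩ := (Sem_comm_iff _ _ _).1 (h k)
    rw [← coe_mg, ← blk_mgS, ← Units.val_mul, ← Units.val_mul, ← map_mul, ← map_mul, coe_blk, coe_blk,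
      fromBlocks_smul, fromBlocks_inj] at h2
    obtain ⟨h3, -, -, h4⟩ := h2
    have h5 := congrFun (congrFun h3 ()) ()
    rw [Matrix.smul_apply, Matrix.one_apply_eq, smul_eq_mul, mul_one] at h5
    rw [← h5, one_smul] at h4
    exact Subtype.ext h4
  have h2 : ∀ v : Fin m ⊕ Fin m → F, (s : Matrix (Fin m ⊕ Fin m) (Fin m ⊕ Fin m) F) *ᵥ (fun i => σ (v i)) = v := by
    intro v
    have h3 := h1 (transv v 1)
    rw [mgS_transv] at h3
    have h4 : s * transv (fun i => σ (v i)) (1 : F) =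
        transv ((s : Matrix (Fin m ⊕ Fin m) (Fin m ⊕ Fin m) F) *ᵥ (fun i => σ (v i))) 1 * s :=
      Subtype.ext (mul_sympTransvection s.2 _ _)
    rw [h4] at h3
    exact transv_inj (mul_right_cancel h3)
  have h3 : (s : Matrix (Fin m ⊕ Fin m) (Fin m ⊕ Fin m) F) = 1 := by
    ext i j
    have h4 := congrFun (h2 (Pi.single j 1)) i
    have h5 : (fun i => σ ((Pi.single j (1 : F) : Fin m ⊕ Fin m → F) i)) = Pi.single j 1 := by
      funext l
      by_cases hl : l = j
      · subst hl; simp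
      · simp [hl]
    rw [h5, Matrix.mulVec_single_one] at h4
    rw [Matrix.one_apply]
    change (s : Matrix (Fin m ⊕ Fin m) (Fin m ⊕ Fin m) F) i j = _ at h4
    rw [h4, Pi.single_apply]
  refine ⟨Subtype.ext h3, ?_⟩
  apply RingEquiv.ext
  intro a
  have h4 := congrFun (h2 (fun _ => a)) (Sum.inl ⟨0, hm⟩)
  rw [h3, Matrix.one_mulVec] at h4
  exact h4

/-- the root element -/
def q0 (m : ℕ) (F : Type) [Field F] (v : Fin m ⊕ Fin m → F) : GL (Unit ⊕ (Fin m ⊕ Fin m)) F where
  val := fromBlocks 1 0 (Matrix.of fun i _ => v i) 1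
  inv := fromBlocks 1 0 (-(Matrix.of fun i _ => v i)) 1
  val_inv := by
    rw [fromBlocks_multiply, ← fromBlocks_one]
    simp only [_root_.mul_one, _root_.Matrix.neg_of, _root_.Matrix.zero_mul, _root_.add_zero, _root_.Matrix.mul_zero, _root_.Matrix.fromBlocks_one, _root_.Matrix.mul_one, _root_.Matrix.one_mul, _root_.Matrix.of_add_of, _root_.add_neg_cancel, _root_.Matrix.of_zero, _root_.zero_add]
  inv_val := by
    rw [fromBlocks_multiply, ← fromBlocks_one]
    simp only [_root_.mul_one, _root_.Matrix.zero_mul, _root_.add_zero, _root_.Matrix.mul_zero, _root_.Matrix.fromBlocks_one, _root_.Matrix.mul_one, _root_.Matrix.neg_of, _root_.Matrix.one_mul, _root_.Matrix.of_add_of, _root_.neg_add_cancel, _root_.Matrix.of_zero, _root_.zero_add]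

theorem coe_q0 (v : Fin m ⊕ Fin m → F) :
    (q0 m F v : Matrix (Unit ⊕ (Fin m ⊕ Fin m)) (Unit ⊕ (Fin m ⊕ Fin m)) F) =
      fromBlocks 1 0 (Matrix.of fun i _ => v i) 1 := rfl

theorem q0_det (v : Fin m ⊕ Fin m → F) :
    (q0 m F v : Matrix (Unit ⊕ (Fin m ⊕ Fin m)) (Unit ⊕ (Fin m ⊕ Fin m)) F).det = 1 := by
  rw [coe_q0, det_fromBlocks_zero₁₂, det_one, det_one, one_mul]

theorem q0_comm (v : Fin m ⊕ Fin m → F) : q0 m F v * blk m F (transv v 1) = blk m F (transv v 1) * q0 m F v := by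
  apply Units.ext
  rw [Units.val_mul, Units.val_mul, coe_q0, coe_blk, fromBlocks_multiply, fromBlocks_multiply]
  simp only [Matrix.mul_one, Matrix.mul_zero, Matrix.zero_mul, Matrix.one_mul, add_zero, zero_add]
  congr 1
  ext i u
  have h1 := congrFun (sympTransvection_mulVec v v (1 : F)) i
  rw [sympForm_self, mul_zero, zero_smul, add_zero] at h1
  rw [coe_transv]
  exact h1.symm

theorem coe_B_inv (B : GL (Unit ⊕ (Fin m ⊕ Fin m)) F)
    (hB : (B : Matrix (Unit ⊕ (Fin m ⊕ Fin m)) (Unit ⊕ (Fin m ⊕ Fin m)) F) = fromBlocks 1 0 0 (J (Fin m) F)) :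
    ((B⁻¹ : GL (Unit ⊕ (Fin m ⊕ Fin m)) F) : Matrix (Unit ⊕ (Fin m ⊕ Fin m)) (Unit ⊕ (Fin m ⊕ Fin m)) F) =
      fromBlocks 1 0 0 (-J (Fin m) F) := by
  have h1 : (B : Matrix (Unit ⊕ (Fin m ⊕ Fin m)) (Unit ⊕ (Fin m ⊕ Fin m)) F) * fromBlocks 1 0 0 (-J (Fin m) F) = 1 := by
    rw [hB, fromBlocks_multiply, ← fromBlocks_one]
    simp only [Matrix.mul_one, Matrix.mul_zero, Matrix.zero_mul, add_zero, zero_add, Matrix.mul_neg, J_squared,
      neg_neg, neg_zero]
  calc ((B⁻¹ : GL (Unit ⊕ (Fin m ⊕ Fin m)) F) : Matrix (Unit ⊕ (Fin m ⊕ Fin m)) (Unit ⊕ (Fin m ⊕ Fin m)) F) =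
      ((B⁻¹ : GL (Unit ⊕ (Fin m ⊕ Fin m)) F) : Matrix (Unit ⊕ (Fin m ⊕ Fin m)) (Unit ⊕ (Fin m ⊕ Fin m)) F) *
        ((B : Matrix (Unit ⊕ (Fin m ⊕ Fin m)) (Unit ⊕ (Fin m ⊕ Fin m)) F) * fromBlocks 1 0 0 (-J (Fin m) F)) := by
        rw [h1, Matrix.mul_one]
    _ = _ := by
        rw [← Matrix.mul_assoc, ← Units.val_mul, inv_mul_cancel, Units.val_one, Matrix.one_mul]

/-- `(q q*)² = k₀` -/
theorem sq_eq (B : GL (Unit ⊕ (Fin m ⊕ Fin m)) F)
    (hB : (B : Matrix (Unit ⊕ (Fin m ⊕ Fin m)) (Unit ⊕ (Fin m ⊕ Fin m)) F) = fromBlocks 1 0 0 (J (Fin m) F))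
    (v : Fin m ⊕ Fin m → F) :
    (q0 m F v * (B⁻¹ * (ct (q0 m F v))⁻¹ * B)) * (q0 m F v * (B⁻¹ * (ct (q0 m F v))⁻¹ * B)) =
      blk m F (transv v 1) := by
  set V : Matrix (Fin m ⊕ Fin m) Unit F := Matrix.of fun i _ => v i with hV
  have e1 : ((q0 m F v * (B⁻¹ * (ct (q0 m F v))⁻¹ * B) : GL (Unit ⊕ (Fin m ⊕ Fin m)) F) :
      Matrix (Unit ⊕ (Fin m ⊕ Fin m)) (Unit ⊕ (Fin m ⊕ Fin m)) F) =
      fromBlocks 1 (Vᵀ * J (Fin m) F) V (V * (Vᵀ * J (Fin m) F) + 1) := by
    rw [Units.val_mul, coe_adj, coe_B_inv B hB, hB, coe_q0, fromBlocks_transpose, fromBlocks_multiply,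
      fromBlocks_multiply, fromBlocks_multiply]
    simp only [Matrix.mul_one, Matrix.mul_zero, Matrix.zero_mul, Matrix.one_mul, add_zero, zero_add, Matrix.neg_mul,
      J_squared, neg_neg, transpose_one, transpose_zero, ← hV]
  have e2 : Vᵀ * J (Fin m) F * V = 0 := by
    ext i j
    exact col_quad V j
  have e3 : V * (Vᵀ * J (Fin m) F) = vecMulVec v (J (Fin m) F *ᵥ v) := by
    ext i j
    rw [Matrix.mul_apply, Fintype.sum_unique, vecMulVec_apply, hV]
    change v i * _ = _
    congr 1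
    have h1 : (Vᵀ * J (Fin m) F) () j = (v ᵥ* J (Fin m) F) j := rfl
    have h2 : (v ᵥ* J (Fin m) F) = -(J (Fin m) F *ᵥ v) := by
      rw [← Matrix.mulVec_transpose, J_transpose, Matrix.neg_mulVec]
    rw [h1, h2, Pi.neg_apply, CharTwo.neg_eq]
  have hadd : ∀ {κ κ' : Type} (M : Matrix κ κ' F), M + M = 0 := by
    intro κ κ' M
    ext i j
    exact CharTwo.add_self_eq_zero _
  have e4 : (Vᵀ * J (Fin m) F) * (V * (Vᵀ * J (Fin m) F)) = 0 := by
    rw [← Matrix.mul_assoc, e2, Matrix.zero_mul]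
  have e5 : (V * (Vᵀ * J (Fin m) F)) * V = 0 := by
    rw [Matrix.mul_assoc, e2, Matrix.mul_zero]
  have e6 : (V * (Vᵀ * J (Fin m) F)) * (V * (Vᵀ * J (Fin m) F)) = 0 := by
    rw [Matrix.mul_assoc, e4, Matrix.mul_zero]
  apply Units.ext
  rw [Units.val_mul, e1, fromBlocks_multiply, coe_blk, coe_transv, sympTransvection_def, one_smul, ← e3]
  congr 1
  · rw [e2, Matrix.mul_one, add_zero]
  · rw [Matrix.mul_add, e4, Matrix.mul_one, Matrix.one_mul, zero_add, hadd]
  · rw [Matrix.add_mul, e5, Matrix.mul_one, Matrix.one_mul, zero_add, hadd]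
  · rw [Matrix.add_mul, Matrix.mul_add, e6, Matrix.mul_one, Matrix.one_mul, zero_add, ← add_assoc, hadd,
      zero_add, add_comm]

/-- **BP1** -/
theorem killed_P1 {F : Type} [Field F] [Fintype F] [CharP F 2] {m : ℕ} (hm : 1 ≤ m)
    (hs : IsSimpleGroup (PSp m F)) (hnc : ¬ IsMulCommutative (PSp m F))
    (hRC : Nat.card (PSp m F) <
      Nat.card (Matrix.ProjectiveSpecialLinearGroup (Unit ⊕ (Fin m ⊕ Fin m)) F) → RCo (PSp m F))
    (B : GL (Unit ⊕ (Fin m ⊕ Fin m)) F)
    (hB : (B : Matrix (Unit ⊕ (Fin m ⊕ Fin m)) (Unit ⊕ (Fin m ⊕ Fin m)) F) =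
      fromBlocks 1 0 0 (J (Fin m) F)) :
    Killed (gam B) := by
  classical
  have hn : Nontrivial (Unit ⊕ (Fin m ⊕ Fin m)) := ⟨Sum.inl (), Sum.inr (Sum.inl ⟨0, hm⟩), by simp⟩
  have hS : IsSimpleGroup (Matrix.ProjectiveSpecialLinearGroup (Unit ⊕ (Fin m ⊕ Fin m)) F) :=
    Cfsg.Agent.LieClassical.SLGen.psl_isSimpleGroup (by
      rw [Fintype.card_sum, Fintype.card_sum, Fintype.card_unit, Fintype.card_fin]; omega)
  let f : symplecticGroup (Fin m) F →* MulAut (Matrix.ProjectiveSpecialLinearGroup (Unit ⊕ (Fin m ⊕ Fin m)) F) :=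
    Cj.comp (blk m F)
  have hf1 : ∀ k, f k = 1 → k = 1 := by
    intro k hk
    obtain ⟨c, hc⟩ := Cj_eq_one_iff.1 hk
    rw [coe_blk, ← fromBlocks_one, fromBlocks_smul, fromBlocks_inj] at hc
    obtain ⟨h1, -, -, h4⟩ := hc
    have h5 := congrFun (congrFun h1 ()) ()
    rw [Matrix.smul_apply, Matrix.one_apply_eq, smul_eq_mul, mul_one] at h5
    rw [← h5, one_smul] at h4
    exact Subtype.ext h4
  have hf : ∀ k, f k = 1 ↔ k ∈ Subgroup.center (symplecticGroup (Fin m) F) := by
    intro k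
    rw [Cfsg.Agent.ClassicalGeometry.Sp4GraphAut.center_eq_bot hm, Subgroup.mem_bot]
    exact ⟨hf1 k, fun h => by rw [h, map_one]⟩
  have hfi : ∀ k, f k ∈ inn (Matrix.ProjectiveSpecialLinearGroup (Unit ⊕ (Fin m ⊕ Fin m)) F) := fun k =>
    Cj_mem_inn _ (blk_det k)
  have ht2 : gam B * gam B = 1 := gam_sq B (Or.inl (by
    rw [hB, fromBlocks_transpose, J_transpose]
    congr 1
    ext i j
    rw [Matrix.neg_apply, CharTwo.neg_eq]))
  have ht : ∀ k, gam B * f k = f k * gam B := by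
    intro k
    refine (gam_comm_Cj_iff _ _).2 ⟨1, one_ne_zero, ?_⟩
    rw [one_smul, coe_blk, hB, fromBlocks_transpose, fromBlocks_multiply, fromBlocks_multiply]
    simp only [Matrix.mul_one, Matrix.mul_zero, add_zero, zero_add, transpose_one, transpose_zero, Matrix.zero_mul]
    rw [(SymplecticGroup.mem_iff').1 k.2]
  -- the root element
  set v : Fin m ⊕ Fin m → F := Pi.single (Sum.inl ⟨0, hm⟩) 1 with hv
  have hk0 : f (transv v 1) ≠ 1 := by
    intro h
    have h1 := hf1 _ h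
    have h2 : transv v (1 : F) = transv (0 : Fin m ⊕ Fin m → F) 1 := by
      rw [h1]
      apply Subtype.ext
      rw [coe_transv, sympTransvection_def, Matrix.mulVec_zero]
      ext i j
      simp only [_root_.OneMemClass.coe_one, _root_.Matrix.vecMulVec_zero, _root_.smul_zero, _root_.Matrix.add_apply, _root_.Matrix.zero_apply, _root_.add_zero]
    have h3 := congrFun (transv_inj h2) (Sum.inl ⟨0, hm⟩)
    rw [hv, Pi.single_eq_same] at h3
    exact one_ne_zero h3
  have hgen : f (transv v 1) = (Cj (q0 m F v) * gam B * (Cj (q0 m F v))⁻¹ * (gam B)⁻¹) *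
      (Cj (q0 m F v) * gam B * (Cj (q0 m F v))⁻¹ * (gam B)⁻¹) := by
    rw [comm_gam, ← map_mul, sq_eq B hB]
    rfl
  have ht1 : gam B ≠ 1 := by
    intro h
    apply hk0
    rw [hgen, h]
    group
  have hSn : ¬ IsMulCommutative (Matrix.ProjectiveSpecialLinearGroup (Unit ⊕ (Fin m ⊕ Fin m)) F) := by
    intro h
    obtain ⟨s, hs⟩ := hfi (transv v 1)
    apply hk0
    rw [← hs]
    apply MulEquiv.ext
    intro y
    change s * y * s⁻¹ = y
    rw [mul_comm' s y, mul_inv_cancel_right]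
  have hlt : Nat.card (PSp m F) < Nat.card (Matrix.ProjectiveSpecialLinearGroup (Unit ⊕ (Fin m ⊕ Fin m)) F) :=
    card_lt_of_cent hS hSn f hf hfi (gam B) ht1 ht
  refine (killed_iff _).2 fun κ _ x r hF H hcov => ?_
  have hex : ∀ i, ∃ (s : symplecticGroup (Fin m) F) (σ : F ≃+* F), x i = Sem (blk m F s) σ := fun i =>
    exists_sem hm B hB (x i) ((hF.pr i).odd_of_ne_two (hF.ne2 i)) (hF.pow i) (hF.commt i)
  refine fam_K hS hF ht2 hcov f hf hs hnc (hRC hlt) hfi ht ?_ ?_ (transv v 1) hk0 ?_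
  · intro i k
    obtain ⟨s, σ, e⟩ := hex i
    refine ⟨s * mgS σ k * s⁻¹, ?_⟩
    change x i * Cj (blk m F k) * (x i)⁻¹ = Cj (blk m F _)
    rw [e, Sem_conj_Cj, map_mul (blk m F), map_mul (blk m F), blk_mgS, map_inv (blk m F)]
  · intro i h
    obtain ⟨s, σ, e⟩ := hex i
    obtain ⟨h1, h2⟩ := eq_one_of_cent hm s σ (fun k => by rw [← e]; exact h k)
    apply hF.ne1 i
    rw [e, h1, h2, map_one, Sem_one, map_one]
  · have h1 : Cj (q0 m F v) * gam B * (Cj (q0 m F v))⁻¹ * (gam B)⁻¹ ∈ Subgroup.closure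
        {z | ∃ q ∈ inn (Matrix.ProjectiveSpecialLinearGroup (Unit ⊕ (Fin m ⊕ Fin m)) F),
          q * f (transv v 1) = f (transv v 1) * q ∧ z = q * gam B * q⁻¹ * (gam B)⁻¹} := by
      refine Subgroup.subset_closure ⟨Cj (q0 m F v), Cj_mem_inn _ (q0_det v), ?_, rfl⟩
      change Cj (q0 m F v) * Cj (blk m F (transv v 1)) = Cj (blk m F (transv v 1)) * Cj (q0 m F v)
      rw [← map_mul, ← map_mul, q0_comm]
    have h2 := mul_mem h1 h1
    rwa [← hgen] at h2

end Cfsg.Agent.H287.RC
end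

-- part: H25/RC/Two
section
/-!
# S3510 part B: two small rules used for the box B43 (helper25)
-/

set_option autoImplicit false
open MulAction

namespace Cfsg.Agent.H25.RC

open Cfsg.Agent.H106.RC Cfsg.Agent.H384.RC

variable {S : Type*} [Group S]

/-- if every point is fixed by `t` or by `x`, then every point is fixed by `k` or by `x`, where `k` is in the
group generated by the `[q, t]`, `q` commuting with `x` -/
theorem step {H : Subgroup (MulAut S)} {t x k : MulAut S}
    (hM : ∀ n ∈ inn S, t • ((n : MulAut S) : MulAut S ⧸ H) = (n : MulAut S) ∨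
      x • ((n : MulAut S) : MulAut S ⧸ H) = (n : MulAut S))
    (hk : k ∈ Subgroup.closure {z | ∃ q ∈ inn S, q * x = x * q ∧ z = q * t * q⁻¹ * t⁻¹}) :
    ∀ n ∈ inn S, k • ((n : MulAut S) : MulAut S ⧸ H) = (n : MulAut S) ∨
      x • ((n : MulAut S) : MulAut S ⧸ H) = (n : MulAut S) := by
  intro n hn
  by_cases hx : x • ((n : MulAut S) : MulAut S ⧸ H) = (n : MulAut S)
  · exact Or.inr hx
  left
  have key : ∀ q ∈ inn S, q * x = x * q →
      t • (q • ((n : MulAut S) : MulAut S ⧸ H)) = q • ((n : MulAut S) : MulAut S ⧸ H) := by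
    intro q hq hqx
    have hmove : x • (q • ((n : MulAut S) : MulAut S ⧸ H)) ≠ q • ((n : MulAut S) : MulAut S ⧸ H) := by
      intro h
      rw [← mul_smul, ← hqx, mul_smul] at h
      exact hx (smul_left_cancel _ h)
    rcases hM (q * n) ((inn S).mul_mem hq hn) with h | h
    · exact h
    · exact absurd h hmove
  have hle : Subgroup.closure {z | ∃ q ∈ inn S, q * x = x * q ∧ z = q * t * q⁻¹ * t⁻¹} ≤
      stabilizer (MulAut S) ((n : MulAut S) : MulAut S ⧸ H) := by
    rw [Subgroup.closure_le]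
    rintro _ ⟨q, hq, hqx, rfl⟩
    have h1 := key 1 (inn S).one_mem (by rw [one_mul, mul_one])
    rw [one_smul] at h1
    have hqx' : q⁻¹ * x = x * q⁻¹ := by
      calc q⁻¹ * x = q⁻¹ * (x * q) * q⁻¹ := by group
        _ = q⁻¹ * (q * x) * q⁻¹ := by rw [hqx]
        _ = _ := by group
    have h2 := key q⁻¹ ((inn S).inv_mem hq) hqx'
    show (q * t * q⁻¹ * t⁻¹) • ((n : MulAut S) : MulAut S ⧸ H) = ((n : MulAut S) : MulAut S ⧸ H)
    have h3 : t⁻¹ • ((n : MulAut S) : MulAut S ⧸ H) = ((n : MulAut S) : MulAut S ⧸ H) := by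
      rw [inv_smul_eq_iff, h1]
    rw [mul_smul, h3, mul_assoc, mul_smul, mul_smul, h2, smul_inv_smul]
  exact hle hk

/-- conjugation of a cover by an automorphism commuting with `t` -/
theorem covH_conj {t a : MulAut S} {κ : Type} {x : κ → MulAut S} {H : Subgroup (MulAut S)}
    (ha : a * t = t * a) (h : CovH t x H) :
    CovH t (fun i => a * x i * a⁻¹) (H.map (MulAut.conj a).toMonoidHom) := by
  have hmem : ∀ z, a⁻¹ * z * a ∈ H → z ∈ H.map (MulAut.conj a).toMonoidHom := by
    intro z hz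
    refine ⟨_, hz, ?_⟩
    show a * (a⁻¹ * z * a) * a⁻¹ = z
    group
  intro s
  have e : a⁻¹ * MulAut.conj s * a = MulAut.conj (a⁻¹ s) := by
    have := aut_conj a⁻¹ s
    rwa [inv_inv] at this
  rcases h (a⁻¹ s) with h1 | ⟨i, h1⟩
  · left
    apply hmem
    have e2 : a⁻¹ * (MulAut.conj s * t * (MulAut.conj s)⁻¹) * a =
        MulAut.conj (a⁻¹ s) * t * (MulAut.conj (a⁻¹ s))⁻¹ := by
      have e3 : a⁻¹ * t * a = t := by rw [mul_assoc, ← ha, inv_mul_cancel_left]
      rw [← e]
      calc a⁻¹ * (MulAut.conj s * t * (MulAut.conj s)⁻¹) * a =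
          (a⁻¹ * MulAut.conj s * a) * (a⁻¹ * t * a) * (a⁻¹ * MulAut.conj s * a)⁻¹ := by group
        _ = _ := by rw [e3]
    rw [e2]
    exact h1
  · right
    refine ⟨i, ?_⟩
    apply hmem
    have e2 : a⁻¹ * (MulAut.conj s * (a * x i * a⁻¹) * (MulAut.conj s)⁻¹) * a =
        MulAut.conj (a⁻¹ s) * x i * (MulAut.conj (a⁻¹ s))⁻¹ := by
      rw [← e]
      group
    rw [e2]
    exact h1

theorem inn_le_of_conj_map {a : MulAut S} {H : Subgroup (MulAut S)}
    (h : inn S ≤ H.map (MulAut.conj a).toMonoidHom) : inn S ≤ H := by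
  intro z hz
  obtain ⟨w, hw, hwz⟩ := h (inn_conj_mem hz a)
  have : w = z := by
    have h1 : a * w * a⁻¹ = a * z * a⁻¹ := hwz
    exact mul_left_cancel (mul_right_cancel h1)
  rw [← this]
  exact hw

/-- one odd prime, `x = x₀` up to conjugation by an automorphism `a` commuting with `t`: the two step rule -/
theorem two_step (hS : IsSimpleGroup S) {t a x₀ k q c : MulAut S} {κ : Type} {x : κ → MulAut S}
    {H : Subgroup (MulAut S)} (hcov : CovH t x H) (i₀ : κ) (hκ : ∀ i, i = i₀)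
    (ha : a * t = t * a) (hx : a * x i₀ * a⁻¹ = x₀)
    (hki : k ∈ inn S) (hk1 : k ≠ 1)
    (hq : q ∈ inn S) (hqx : q * x₀ = x₀ * q) (hk : k = q * t * q⁻¹ * t⁻¹)
    (hc : c ∈ inn S) (hck : c * k = k * c) (hk' : k = c * x₀ * c⁻¹ * x₀⁻¹) : inn S ≤ H := by
  apply inn_le_of_conj_map (a := a)
  have h1 := (covH_conj ha hcov).pt
  have h2 : ∀ n ∈ inn S, t • ((n : MulAut S) : MulAut S ⧸ (H.map (MulAut.conj a).toMonoidHom)) =
      (n : MulAut S) ∨
      x₀ • ((n : MulAut S) : MulAut S ⧸ (H.map (MulAut.conj a).toMonoidHom)) = (n : MulAut S) := by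
    intro n hn
    rcases h1 n hn with h | ⟨i, h⟩
    · exact Or.inl h
    · right
      rw [hκ i, hx] at h
      exact h
  have h3 := step h2 (k := k) (Subgroup.subset_closure ⟨q, hq, hqx, hk⟩)
  exact fam_root hS x₀ _ k hki hk1 h3 (Subgroup.subset_closure ⟨c, hc, hck, hk'⟩)

end Cfsg.Agent.H25.RC
end

-- part: H25/RC/FourThree
section
/-!
# S3510 part B, box B43: `PSL_4(3)`, the graph involution with centraliser `PGO_4^+(3)` (helper25)
-/

set_option autoImplicit false

namespace Cfsg.Agent.H25.RC.FT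

open Matrix
open Cfsg.Agent.H106.RC Cfsg.Agent.H999.PslGraph Cfsg.Agent.H384.RC
open Cfsg.Agent.ClassicalGeometry.AutPSL.Auto

variable {F : Type} [Field F]

/-- the determinant form on `2 × 2` matrices -/
def Qd (v : Fin 2 × Fin 2 → F) : F := v (0, 0) * v (1, 1) - v (0, 1) * v (1, 0)

/-- coordinates -/
def eqv : (Fin 2 ⊕ Fin 2 → F) ≃ₗ[F] (Fin 2 × Fin 2 → F) where
  toFun v := fun p => if p = (0, 0) then v (.inl 0) else if p = (0, 1) then v (.inl 1) else
    if p = (1, 0) then - v (.inr 1) else v (.inr 0)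
  invFun w := Sum.elim ![w (0, 0), w (0, 1)] ![w (1, 1), - w (1, 0)]
  map_add' v w := by
    ext ⟨i, j⟩
    fin_cases i <;> fin_cases j <;> simp [add_comm]
  map_smul' c v := by
    ext ⟨i, j⟩
    (revert i j; simp [_root_.Fin.forall_fin_succ])
  left_inv v := by
    ext (i | i) <;> (revert i; simp only [_root_.Fin.forall_fin_succ, Fin.isValue, ↓reduceIte, _root_.Prod.mk.injEq, _root_.one_ne_zero, _root_.and_false, _root_.and_self, _root_.and_true, _root_.zero_ne_one, _root_.neg_neg, _root_.Sum.elim_inl, _root_.Matrix.cons_val_zero, _root_.Matrix.cons_val_succ, _root_.Matrix.cons_val_fin_one, _root_.Fin.succ_zero_eq_one, _root_.IsEmpty.forall_iff, _root_.Sum.elim_inr])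
  right_inv w := by
    ext ⟨i, j⟩
    fin_cases i <;> fin_cases j <;> simp

theorem Qd_eqv (v : Fin 2 ⊕ Fin 2 → F) : Qd (eqv v) = Cfsg.quadFormPlus 2 F v := by
  simp only [Qd, eqv, Cfsg.quadFormPlus, Fin.sum_univ_two, _root_.Cfsg.Agent.H25.RC.FT.Qd, _root_.Cfsg.Agent.H25.RC.FT.eqv, _root_.Fin.isValue, _root_.LinearEquiv.coe_mk, _root_.LinearMap.coe_mk, _root_.AddHom.coe_mk, ↓ _root_.reduceIte, _root_.Prod.mk.injEq, _root_.one_ne_zero, _root_.and_self, _root_.and_true, _root_.and_false, _root_.zero_ne_one, _root_.mul_neg, _root_.sub_neg_eq_add, _root_.Cfsg.quadFormPlus, _root_.Fin.sum_univ_two]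

theorem card_G [Fintype F] (hF : Fintype.card F = 3) :
    Nat.card (Cfsg.isometryGroup F (Qd (F := F))) = 1152 := by
  obtain ⟨e1⟩ := Cfsg.Agent.LieClassical.OrthFourCommon.exists_isometryGroup_equiv
    (LinearEquiv.refl F (Fin 2 × Fin 2 → F)) (Qd (F := F)) (Qd (F := F)) (fun _ => rfl)
  obtain ⟨e2⟩ := Cfsg.Agent.LieClassical.OrthFourCommon.exists_isometryGroup_equiv
    (eqv (F := F)) (Cfsg.quadFormPlus 2 F) (Qd (F := F)) Qd_eqv
  rw [Nat.card_congr (e1.trans e2.symm).toEquiv, Cfsg.Agent.S0287.result hF 2 (by norm_num)]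
  simp only [_root_.Nat.add_one_sub_one, _root_.mul_one, _root_.Nat.reducePow, _root_.Nat.reduceMul, _root_.Finset.range_one, _root_.Finset.prod_singleton, _root_.zero_add]

/-- the Gram matrix -/
def Bm : Matrix (Fin 2 × Fin 2) (Fin 2 × Fin 2) F :=
  Matrix.kroneckerMap (· * ·) !![0, 1; -1, 0] !![0, 1; -1, 0]

theorem dot_Bm (v w : Fin 2 × Fin 2 → F) : v ⬝ᵥ (Bm *ᵥ w) =
    v (0, 0) * w (1, 1) - v (0, 1) * w (1, 0) - v (1, 0) * w (0, 1) + v (1, 1) * w (0, 0) := by
  simp only [Bm, dotProduct, Matrix.mulVec, Fintype.sum_prod_type, Fin.sum_univ_two,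
    Matrix.kroneckerMap_apply, _root_.dotProduct, _root_.Matrix.mulVec, _root_.Cfsg.Agent.H25.RC.FT.Bm, _root_.Matrix.kroneckerMap_apply, _root_.Matrix.of_apply, _root_.Matrix.cons_val', _root_.Matrix.cons_val_fin_one, _root_.Fintype.sum_prod_type, _root_.Fin.sum_univ_two, _root_.Fin.isValue, _root_.Matrix.cons_val_zero, _root_.Matrix.cons_val_one, _root_.MulZeroClass.mul_zero, _root_.MulZeroClass.zero_mul, _root_.mul_one, _root_.zero_add, _root_.mul_neg, _root_.neg_mul, _root_.add_zero, _root_.one_mul, _root_.neg_zero, _root_.neg_neg]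
  ring

theorem Qd_add (v w : Fin 2 × Fin 2 → F) : Qd (v + w) = Qd v + Qd w + v ⬝ᵥ (Bm *ᵥ w) := by
  rw [dot_Bm]
  simp only [Qd, Pi.add_apply]
  ring

theorem mem_iff (h2 : (2 : F) ≠ 0) (A : GL (Fin 2 × Fin 2) F) :
    A ∈ Cfsg.isometryGroup F (Qd (F := F)) ↔
      (A : Matrix (Fin 2 × Fin 2) (Fin 2 × Fin 2) F)ᵀ * Bm * (A : Matrix _ _ F) = Bm := by
  have hbil : ∀ (v w : Fin 2 × Fin 2 → F), v ⬝ᵥ (((A : Matrix (Fin 2 × Fin 2) (Fin 2 × Fin 2) F)ᵀ *
      Bm * (A : Matrix _ _ F)) *ᵥ w) = ((A : Matrix _ _ F) *ᵥ v) ⬝ᵥ (Bm *ᵥ ((A : Matrix _ _ F) *ᵥ w)) := by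
    intro v w
    rw [← Matrix.mulVec_mulVec, ← Matrix.mulVec_mulVec, Matrix.dotProduct_mulVec, Matrix.vecMul_transpose]
  have hQ : ∀ v : Fin 2 × Fin 2 → F, v ⬝ᵥ (Bm *ᵥ v) = 2 * Qd v := by
    intro v
    rw [dot_Bm, Qd]
    ring
  constructor
  · intro h
    have h1 : ∀ v, Qd ((A : Matrix _ _ F) *ᵥ v) = Qd v := fun v => h v v
    have h2 : ∀ v w : Fin 2 × Fin 2 → F,
        v ⬝ᵥ (((A : Matrix (Fin 2 × Fin 2) (Fin 2 × Fin 2) F)ᵀ * Bm * (A : Matrix _ _ F)) *ᵥ w) =
        v ⬝ᵥ (Bm *ᵥ w) := by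
      intro v w
      rw [hbil]
      have h3 := Qd_add ((A : Matrix _ _ F) *ᵥ v) ((A : Matrix _ _ F) *ᵥ w)
      rw [← Matrix.mulVec_add, h1, h1, h1, Qd_add] at h3
      exact (add_left_cancel h3).symm
    ext i j
    have h3 := h2 (Pi.single i 1) (Pi.single j 1)
    simpa using h3
  · intro h u v
    have h1 := hbil u u
    rw [h, hQ, hQ] at h1
    exact (mul_left_cancel₀ h2 h1).symm

/-- the unipotent element `(1 + a E₁₂) ⊗ (1 + b E₁₂)` -/
def Wm (a b : F) : Matrix (Fin 2 × Fin 2) (Fin 2 × Fin 2) F :=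
  Matrix.kroneckerMap (· * ·) !![1, a; 0, 1] !![1, b; 0, 1]

theorem Wm_mul (a b c d : F) : Wm a b * Wm c d = Wm (a + c) (b + d) := by
  ext ⟨i, i'⟩ ⟨j, j'⟩
  (revert i i' j j'; simp only [Wm, Matrix.mul_apply, Fintype.sum_prod_type, Fin.sum_univ_two, _root_.Fin.forall_fin_succ, _root_.Matrix.kroneckerMap_apply, _root_.Matrix.of_apply, _root_.Matrix.cons_val', _root_.Matrix.cons_val_fin_one, Fin.isValue, _root_.Matrix.cons_val_zero, _root_.Matrix.cons_val_one, _root_.mul_one, _root_.MulZeroClass.mul_zero, _root_.add_zero, _root_.Matrix.cons_val_succ, _root_.forall_const, _root_.one_mul, _root_.MulZeroClass.zero_mul, _root_.true_and, _root_.zero_add, _root_.and_true]) <;> (repeat' with_reducible apply And.intro) <;> ring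

theorem Wm_zero : Wm (0 : F) 0 = 1 := by
  ext ⟨i, i'⟩ ⟨j, j'⟩
  (revert i i' j j'; simp only [Wm, _root_.Fin.forall_fin_succ, _root_.Matrix.kroneckerMap_apply, _root_.Matrix.of_apply, _root_.Matrix.cons_val', _root_.Matrix.cons_val_fin_one, Fin.isValue, _root_.Matrix.cons_val_zero, _root_.Matrix.cons_val_succ, _root_.IsEmpty.forall_iff, _root_.and_true, _root_.mul_one, _root_.MulZeroClass.mul_zero, _root_.Fin.succ_zero_eq_one, _root_.ne_eq, _root_.Prod.mk.injEq, _root_.zero_ne_one, _root_.and_false, _root_.not_false_eq_true, _root_.Matrix.one_apply_ne, _root_.Fin.succ_ne_zero, _root_.true_and, _root_.Matrix.one_apply_eq, _root_.and_self])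

/-- the unipotent element as a unit -/
def W (a b : F) : GL (Fin 2 × Fin 2) F where
  val := Wm a b
  inv := Wm (-a) (-b)
  val_inv := by rw [Wm_mul, add_neg_cancel, add_neg_cancel, Wm_zero]
  inv_val := by rw [Wm_mul, neg_add_cancel, neg_add_cancel, Wm_zero]

theorem coe_W (a b : F) : (W a b : Matrix (Fin 2 × Fin 2) (Fin 2 × Fin 2) F) = Wm a b := rfl

theorem W_mem (h2 : (2 : F) ≠ 0) (a b : F) : W a b ∈ Cfsg.isometryGroup F (Qd (F := F)) := by
  rw [mem_iff h2, coe_W]
  ext ⟨i, i'⟩ ⟨j, j'⟩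
  (revert i i' j j'; simp only [Wm, Bm, Matrix.mul_apply, Fintype.sum_prod_type, Fin.sum_univ_two, mul_comm, _root_.Fin.forall_fin_succ, _root_.Matrix.transpose_apply, _root_.Matrix.kroneckerMap_apply, _root_.Matrix.of_apply, _root_.Matrix.cons_val', _root_.Matrix.cons_val_fin_one, Fin.isValue, _root_.Matrix.cons_val_zero, _root_.Matrix.cons_val_one, _root_.MulZeroClass.zero_mul, _root_.neg_mul, _root_.one_mul, _root_.mul_neg, _root_.zero_add, _root_.add_zero, _root_.neg_zero, _root_.neg_neg, _root_.Matrix.cons_val_succ, _root_.forall_const, _root_.mul_one, _root_.MulZeroClass.mul_zero, _root_.true_and, _root_.add_neg_cancel, _root_.and_true, _root_.neg_add_cancel, _root_.and_self, _root_.implies_true])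

/-- the homomorphism with image a Sylow `3`-subgroup -/
def Wh (h2 : (2 : F) ≠ 0) : Multiplicative (F × F) →* Cfsg.isometryGroup F (Qd (F := F)) where
  toFun z := ⟨W z.toAdd.1 z.toAdd.2, W_mem h2 _ _⟩
  map_one' := by
    apply Subtype.ext
    apply Units.ext
    exact Wm_zero
  map_mul' z w := by
    apply Subtype.ext
    apply Units.ext
    exact (Wm_mul _ _ _ _).symm

theorem Wh_inj (h2 : (2 : F) ≠ 0) : Function.Injective (Wh h2) := by
  intro z w h
  have h1 : Wm z.toAdd.1 z.toAdd.2 = Wm w.toAdd.1 w.toAdd.2 :=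
    congrArg (fun t : Cfsg.isometryGroup F (Qd (F := F)) =>
      ((t : GL (Fin 2 × Fin 2) F) : Matrix (Fin 2 × Fin 2) (Fin 2 × Fin 2) F)) h
  have h3 := congrFun (congrFun h1 (0, 0)) (1, 0)
  have h4 := congrFun (congrFun h1 (0, 0)) (0, 1)
  simp [Wm] at h3 h4
  apply Multiplicative.toAdd.injective
  exact Prod.ext h3 h4

theorem card_range [Fintype F] (hF : Fintype.card F = 3) (h2 : (2 : F) ≠ 0) :
    Nat.card (Wh h2).range = 9 := by
  rw [← Nat.card_congr (MonoidHom.ofInjective (Wh_inj h2)).toEquiv]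
  change Nat.card (F × F) = 9
  rw [Nat.card_prod, Nat.card_eq_fintype_card, hF]

/-- every element of order a power of three is conjugate to a `W a b` -/
theorem exists_conj [Fintype F] (hF : Fintype.card F = 3) (h2 : (2 : F) ≠ 0)
    (A : Cfsg.isometryGroup F (Qd (F := F))) (hA : A ^ 3 = 1) :
    ∃ (g : Cfsg.isometryGroup F (Qd (F := F))) (a b : F), ((g * A * g⁻¹ :
      Cfsg.isometryGroup F (Qd (F := F))) : GL (Fin 2 × Fin 2) F) = W a b := by
  classical
  have : Fact (Nat.Prime 3) := ⟨Nat.prime_three⟩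
  have hA' : IsPGroup 3 (Subgroup.zpowers A) := by
    apply IsPGroup.of_card (n := (orderOf A).factorization 3)
    rw [Nat.card_zpowers]
    rcases (Nat.dvd_prime Nat.prime_three).1 (orderOf_dvd_of_pow_eq_one hA) with h | h
    · rw [h]; simp
    · rw [h]; simp [Nat.Prime.factorization_self Nat.prime_three]
  have hU : IsPGroup 3 (Wh h2).range := by
    apply IsPGroup.of_card (n := 2)
    rw [card_range hF h2]
    norm_num
  obtain ⟨P, hP⟩ := hA'.exists_le_sylow
  obtain ⟨P', hP'⟩ := hU.exists_le_sylow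
  have hPU : (P' : Subgroup (Cfsg.isometryGroup F (Qd (F := F)))) = (Wh h2).range := by
    symm
    apply Subgroup.eq_of_le_of_card_ge hP'
    rw [card_range hF h2]
    obtain ⟨n, hn⟩ := (IsPGroup.iff_card.1 P'.isPGroup')
    have hd : Nat.card (P' : Subgroup (Cfsg.isometryGroup F (Qd (F := F)))) ∣ 1152 := by
      rw [← card_G hF]
      exact Subgroup.card_subgroup_dvd_card _
    rw [hn] at hd ⊢
    have h3 : n ≤ 2 := by
      by_contra h
      have h4 : 3 ^ 3 ∣ 3 ^ n := pow_dvd_pow 3 (by omega)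
      have h5 := h4.trans hd
      norm_num at h5
    calc 3 ^ n ≤ 3 ^ 2 := Nat.pow_le_pow_right (by norm_num) h3
      _ = 9 := by norm_num
  obtain ⟨g, hg⟩ := MulAction.exists_smul_eq (Cfsg.isometryGroup F (Qd (F := F))) P P'
  have h6 : g * A * g⁻¹ ∈ (Wh h2).range := by
    rw [← hPU, ← hg]
    rw [Sylow.coe_subgroup_smul]
    refine ⟨A, hP (Subgroup.mem_zpowers A), ?_⟩
    rfl
  obtain ⟨z, hz⟩ := h6
  exact ⟨g, z.toAdd.1, z.toAdd.2, congrArg Subtype.val hz.symm⟩

/-- transvections as units -/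
def tv {i j : Fin 2 × Fin 2} (h : i ≠ j) (c : F) : GL (Fin 2 × Fin 2) F where
  val := Matrix.transvection i j c
  inv := Matrix.transvection i j (-c)
  val_inv := by
    rw [Matrix.transvection_mul_transvection_same i j h, add_neg_cancel, Matrix.transvection_zero]
  inv_val := by
    rw [Matrix.transvection_mul_transvection_same i j h, neg_add_cancel, Matrix.transvection_zero]

theorem coe_tv {i j : Fin 2 × Fin 2} (h : i ≠ j) (c : F) :
    (tv h c : Matrix (Fin 2 × Fin 2) (Fin 2 × Fin 2) F) = Matrix.transvection i j c := rfl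

theorem tv_inn {i j : Fin 2 × Fin 2} (h : i ≠ j) (c : F) :
    Cj (tv h c) ∈ inn (Matrix.ProjectiveSpecialLinearGroup (Fin 2 × Fin 2) F) :=
  Cj_mem_inn _ (Matrix.det_transvection_of_ne i j h c)

theorem tv_comm {i j k l : Fin 2 × Fin 2} (h : i ≠ j) (h' : k ≠ l) (h1 : j ≠ k) (h2 : l ≠ i) (c d : F) :
    tv h c * tv h' d = tv h' d * tv h c := by
  apply Units.ext
  show Matrix.transvection i j c * Matrix.transvection k l d =
    Matrix.transvection k l d * Matrix.transvection i j c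
  have e1 : Matrix.single i j c * Matrix.single k l d = 0 :=
    Matrix.single_mul_single_of_ne (h := h1) ..
  have e2 : Matrix.single k l d * Matrix.single i j c = 0 :=
    Matrix.single_mul_single_of_ne (h := h2) ..
  unfold Matrix.transvection
  rw [add_mul, mul_add, mul_add, add_mul, mul_add, mul_add, e1, e2]
  simp only [one_mul, mul_one, add_zero]
  abel

theorem h03 : ((0, 0) : Fin 2 × Fin 2) ≠ (1, 1) := by decide
theorem h01 : ((0, 0) : Fin 2 × Fin 2) ≠ (0, 1) := by decide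
theorem h02 : ((0, 0) : Fin 2 × Fin 2) ≠ (1, 0) := by decide

theorem tv_W (a b c : F) : tv h03 c * W a b = W a b * tv h03 c := by
  apply Units.ext
  show Matrix.transvection (0, 0) (1, 1) c * Wm a b = Wm a b * Matrix.transvection (0, 0) (1, 1) c
  ext ⟨i, i'⟩ ⟨j, j'⟩
  (revert i i' j j'; simp only [Wm, Matrix.transvection, Matrix.mul_apply, Matrix.add_apply, Matrix.single_apply, Fintype.sum_prod_type, Fin.sum_univ_two, Matrix.one_apply, _root_.Fin.forall_fin_succ, Fin.isValue, _root_.Prod.mk.injEq, _root_.Matrix.kroneckerMap_apply, _root_.Matrix.of_apply, _root_.Matrix.cons_val', _root_.Matrix.cons_val_fin_one, _root_.one_ne_zero, _root_.and_false, ↓reduceIte, _root_.add_zero, _root_.Matrix.cons_val_zero, _root_.ite_mul, _root_.one_mul, _root_.MulZeroClass.zero_mul, _root_.Matrix.cons_val_one, _root_.zero_ne_one, _root_.false_and, _root_.mul_ite, _root_.mul_one, _root_.MulZeroClass.mul_zero, _root_.ite_self, _root_.Matrix.cons_val_succ, _root_.Fin.succ_zero_eq_one,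 _root_.zero_add, _root_.IsEmpty.forall_iff, _root_.Fin.succ_ne_zero, _root_.ite_eq_left_iff, _root_.imp_false, _root_.Decidable.not_not, _root_.and_true, _root_.true_and]) <;> (repeat' with_reducible apply And.intro)
  ring

theorem tv_W1 (a b c : F) : tv h01 c * W a b = tv h03 (c * a) * (W a b * tv h01 c) := by
  apply Units.ext
  show Matrix.transvection (0, 0) (0, 1) c * Wm a b =
    Matrix.transvection (0, 0) (1, 1) (c * a) * (Wm a b * Matrix.transvection (0, 0) (0, 1) c)
  ext ⟨i, i'⟩ ⟨j, j'⟩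
  (revert i i' j j'; simp only [Wm, Matrix.transvection, Matrix.mul_apply, Matrix.add_apply, Matrix.single_apply, Fintype.sum_prod_type, Fin.sum_univ_two, Matrix.one_apply, _root_.Fin.forall_fin_succ, Fin.isValue, _root_.Prod.mk.injEq, _root_.Matrix.kroneckerMap_apply, _root_.Matrix.of_apply, _root_.Matrix.cons_val', _root_.Matrix.cons_val_fin_one, _root_.one_ne_zero, _root_.and_false, ↓reduceIte, _root_.add_zero, _root_.Matrix.cons_val_zero, _root_.ite_mul, _root_.one_mul, _root_.MulZeroClass.zero_mul, _root_.Matrix.cons_val_one, _root_.zero_ne_one, _root_.false_and, _root_.mul_ite, _root_.mul_one, _root_.MulZeroClass.mul_zero, _root_.zero_add, _root_.ite_self, _root_.Matrix.cons_val_succ, _root_.Fin.succ_zero_eq_one, _root_.IsEmpty.forall_iff, _root_.Fin.succ_ne_zero, _root_.add_eq_left, _root_.ite_eq_right_iff, _root_.and_imp, _root_.implies_true, _root_.and_true, _root_.true_and]) <;> (repeat' with_reducible apply And.intro)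
  ring

theorem tv_W2 (a b c : F) : tv h02 c * W a b = tv h03 (c * b) * (W a b * tv h02 c) := by
  apply Units.ext
  show Matrix.transvection (0, 0) (1, 0) c * Wm a b =
    Matrix.transvection (0, 0) (1, 1) (c * b) * (Wm a b * Matrix.transvection (0, 0) (1, 0) c)
  ext ⟨i, i'⟩ ⟨j, j'⟩
  (revert i i' j j'; simp only [Wm, Matrix.transvection, Matrix.mul_apply, Matrix.add_apply, Matrix.single_apply, Fintype.sum_prod_type, Fin.sum_univ_two, Matrix.one_apply, _root_.Fin.forall_fin_succ, Fin.isValue, _root_.Prod.mk.injEq, _root_.Matrix.kroneckerMap_apply, _root_.Matrix.of_apply, _root_.Matrix.cons_val', _root_.Matrix.cons_val_fin_one, _root_.Matrix.cons_val_zero, _root_.zero_ne_one, _root_.and_false, ↓reduceIte, _root_.add_zero, _root_.Matrix.cons_val_one, _root_.ite_mul, _root_.one_mul, _root_.MulZeroClass.zero_mul, _root_.one_ne_zero, _root_.false_and, _root_.mul_ite, _root_.mul_one, _root_.MulZeroClass.mul_zero, _root_.zero_add, _root_.ite_self, _root_.Matrix.cons_val_succ,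 _root_.Fin.succ_zero_eq_one, _root_.IsEmpty.forall_iff, _root_.add_right_inj, _root_.Fin.succ_ne_zero, _root_.ite_eq_right_iff, _root_.and_imp, _root_.implies_true, _root_.add_eq_left, _root_.and_true, _root_.true_and]) <;> (repeat' with_reducible apply And.intro)
  ring

theorem tv_B (c : F) : (tv h03 c : Matrix (Fin 2 × Fin 2) (Fin 2 × Fin 2) F)ᵀ * Bm =
    Bm * (tv h03 c : Matrix (Fin 2 × Fin 2) (Fin 2 × Fin 2) F) := by
  rw [coe_tv]
  ext ⟨i, i'⟩ ⟨j, j'⟩
  (revert i i' j j'; simp only [Bm, Matrix.transvection, Matrix.mul_apply, Matrix.add_apply, Matrix.single_apply, Fintype.sum_prod_type, Fin.sum_univ_two, Matrix.one_apply, _root_.Fin.forall_fin_succ, Fin.isValue, _root_.Matrix.transpose_add, _root_.Matrix.transpose_one, _root_.Matrix.transpose_single, _root_.Prod.mk.injEq, _root_.Matrix.kroneckerMap_apply, _root_.Matrix.of_apply, _root_.Matrix.cons_val', _root_.Matrix.cons_val_fin_one, _root_.and_true, _root_.Matrix.cons_val_zero, _root_.zero_ne_one,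 _root_.and_false, ↓reduceIte, _root_.add_zero, _root_.Matrix.cons_val_one, _root_.ite_mul, _root_.one_mul, _root_.MulZeroClass.zero_mul, _root_.false_and, _root_.mul_ite, _root_.mul_one, _root_.MulZeroClass.mul_zero, _root_.true_and, _root_.mul_neg, _root_.zero_add, _root_.ite_self, _root_.one_ne_zero, _root_.Matrix.cons_val_succ, _root_.Fin.succ_zero_eq_one, _root_.IsEmpty.forall_iff, _root_.neg_zero, _root_.neg_neg, _root_.Fin.succ_ne_zero, _root_.neg_mul, _root_.and_self, _root_.ite_eq_left_iff, _root_.zero_eq_neg, _root_.imp_false, _root_.Decidable.not_not, _root_.and_self_left, _root_.not_true_eq_false])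

theorem two_ne [Fintype F] (hF : Fintype.card F = 3) : (2 : F) ≠ 0 ∧ (3 : F) = 0 := by
  have h3 : (3 : F) = 0 := by
    have := FiniteField.cast_card_eq_zero F
    rw [hF] at this
    exact_mod_cast this
  refine ⟨fun h => ?_, h3⟩
  have : (1 : F) = 3 - 2 := by norm_num
  rw [h3, h, sub_zero] at this
  exact one_ne_zero this

theorem sq_one [Fintype F] (hF : Fintype.card F = 3) {c : F} (hc : c ≠ 0) : c ^ 2 = 1 := by
  have := FiniteField.pow_card_sub_one_eq_one c hc
  rwa [hF] at this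

theorem refl_of_card [Fintype F] (hF : Fintype.card F = 3) (σ : F ≃+* F) : σ = RingEquiv.refl F := by
  apply RingEquiv.ext
  intro c
  show σ c = c
  have h3 := (two_ne hF).2
  by_cases hc : c = 0
  · rw [hc, map_zero]
  · have h1 := sq_one hF hc
    have h2 : (c - 1) * (c + 1) = 0 := by linear_combination h1
    rcases mul_eq_zero.1 h2 with h | h
    · rw [sub_eq_zero.1 h, map_one]
    · rw [eq_neg_of_add_eq_zero_left h, map_neg, map_one]

theorem ne_one_k : Cj (tv h03 (1 : F)) ≠ 1 := by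
  intro h
  obtain ⟨c, hc⟩ := Cj_eq_one_iff.1 h
  have h1 := congrFun (congrFun hc (0, 0)) (1, 1)
  rw [coe_tv] at h1
  simp [Matrix.transvection] at h1

/-- `[q, t] = k` -/
theorem comm_qt [Fintype F] (hF : Fintype.card F = 3) (B : GL (Fin 2 × Fin 2) F)
    (hB : (B : Matrix (Fin 2 × Fin 2) (Fin 2 × Fin 2) F) = Bm) :
    Cj (tv h03 (1 : F)) = Cj (tv h03 (-1 : F)) * gam B * (Cj (tv h03 (-1 : F)))⁻¹ * (gam B)⁻¹ := by
  rw [comm_gam]
  congr 1
  have h1 : B⁻¹ * (ct (tv h03 (-1 : F)))⁻¹ * B = tv h03 (-1 : F) := by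
    rw [mul_assoc, inv_mul_eq_iff_eq_mul]
    apply Units.ext
    rw [Units.val_mul, Units.val_mul, coe_ct_inv, hB]
    exact tv_B _
  rw [h1]
  apply Units.ext
  show Matrix.transvection _ _ _ = Matrix.transvection _ _ _ * Matrix.transvection _ _ _
  rw [Matrix.transvection_mul_transvection_same _ _ h03]
  congr 1
  linear_combination (two_ne hF).2

/-- the `3`-element `x = Cj (W a b)`: the element `c` -/
theorem exists_c {a b : F} (hab : a ≠ 0 ∨ b ≠ 0) :
    ∃ c ∈ inn (Matrix.ProjectiveSpecialLinearGroup (Fin 2 × Fin 2) F),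
      c * Cj (tv h03 (1 : F)) = Cj (tv h03 (1 : F)) * c ∧
      Cj (tv h03 (1 : F)) = c * Cj (W a b) * c⁻¹ * (Cj (W a b))⁻¹ := by
  rcases hab with h | h
  · refine ⟨Cj (tv h01 a⁻¹), tv_inn _ _, ?_, ?_⟩
    · rw [← map_mul, ← map_mul, tv_comm _ _ (by decide) (by decide)]
    · rw [eq_mul_inv_iff_mul_eq, eq_mul_inv_iff_mul_eq, ← map_mul, ← map_mul, ← map_mul, tv_W1,
        inv_mul_cancel₀ h, mul_assoc]
  · refine ⟨Cj (tv h02 b⁻¹), tv_inn _ _, ?_, ?_⟩
    · rw [← map_mul, ← map_mul, tv_comm _ _ (by decide) (by decide)]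
    · rw [eq_mul_inv_iff_mul_eq, eq_mul_inv_iff_mul_eq, ← map_mul, ← map_mul, ← map_mul, tv_W2,
        inv_mul_cancel₀ h, mul_assoc]

/-- the elements of odd prime order commuting with `t` -/
theorem exists_iso [Fintype F] (hF : Fintype.card F = 3) (B : GL (Fin 2 × Fin 2) F)
    (hB : (B : Matrix (Fin 2 × Fin 2) (Fin 2 × Fin 2) F) = Bm)
    (x : MulAut (Matrix.ProjectiveSpecialLinearGroup (Fin 2 × Fin 2) F)) {r : ℕ} (hr : Odd r)
    (hx : x ^ r = 1) (hc : gam B * x = x * gam B) :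
    ∃ A : Cfsg.isometryGroup F (Qd (F := F)), x = Cj (A : GL (Fin 2 × Fin 2) F) ∧ A ^ r = 1 := by
  obtain ⟨A, σ, rfl⟩ := exists_sem_of_odd (by simp) x hr hx
  rw [refl_of_card hF σ, Sem_one] at hx hc ⊢
  obtain ⟨h2, h3⟩ := two_ne hF
  obtain ⟨c, hc0, hc⟩ := (gam_comm_Cj_iff B A).1 hc
  obtain ⟨μ, hμ⟩ := Cj_eq_one_iff.1 (by rw [map_pow]; exact hx : Cj (A ^ r) = 1)
  have hμ0 : μ ≠ 0 := by
    rintro rfl
    rw [zero_smul] at hμ
    exact (A ^ r).ne_zero hμ
  have hc2 : c ^ 2 = 1 := sq_one hF hc0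
  have hμ2 : μ ^ 2 = 1 := sq_one hF hμ0
  -- powers
  have hpow : ∀ k : ℕ, c ^ k • (((A ^ k : GL (Fin 2 × Fin 2) F) : Matrix (Fin 2 × Fin 2) (Fin 2 × Fin 2) F)ᵀ *
      B * ((A ^ k : GL (Fin 2 × Fin 2) F) : Matrix (Fin 2 × Fin 2) (Fin 2 × Fin 2) F)) = B := by
    intro k
    induction k with
    | zero => simp
    | succ k ih =>
      rw [pow_succ, pow_succ, Units.val_mul, Matrix.transpose_mul]
      calc (c ^ k * c) • ((A : Matrix (Fin 2 × Fin 2) (Fin 2 × Fin 2) F)ᵀ *
            ((A ^ k : GL (Fin 2 × Fin 2) F) : Matrix (Fin 2 × Fin 2) (Fin 2 × Fin 2) F)ᵀ * B *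
            (((A ^ k : GL (Fin 2 × Fin 2) F) : Matrix (Fin 2 × Fin 2) (Fin 2 × Fin 2) F) * A)) =
          c • ((A : Matrix (Fin 2 × Fin 2) (Fin 2 × Fin 2) F)ᵀ * (c ^ k •
            (((A ^ k : GL (Fin 2 × Fin 2) F) : Matrix (Fin 2 × Fin 2) (Fin 2 × Fin 2) F)ᵀ * B *
            ((A ^ k : GL (Fin 2 × Fin 2) F) : Matrix (Fin 2 × Fin 2) (Fin 2 × Fin 2) F))) * A) := by
            rw [mul_comm (c ^ k) c, mul_smul]
            simp only [Matrix.mul_smul, Matrix.smul_mul, Matrix.mul_assoc]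
        _ = B := by rw [ih, ← hc]
  obtain ⟨m, rfl⟩ := hr
  have hev : c ^ (2 * m + 1 + 1) = 1 := by
    have : 2 * m + 1 + 1 = 2 * (m + 1) := by ring
    rw [this, pow_mul, hc2, one_pow]
  have hmem : A ^ (2 * m + 1 + 1) ∈ Cfsg.isometryGroup F (Qd (F := F)) := by
    rw [mem_iff h2]
    have := hpow (2 * m + 1 + 1)
    rw [hev, one_smul, hB] at this
    exact this
  refine ⟨⟨A ^ (2 * m + 1 + 1), hmem⟩, ?_, ?_⟩
  · show Cj A = Cj (A ^ (2 * m + 1 + 1))
    rw [map_pow, pow_succ, hx, one_mul]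
  · apply Subtype.ext
    show (A ^ (2 * m + 1 + 1)) ^ (2 * m + 1) = 1
    rw [← pow_mul, mul_comm, pow_mul]
    have h5 : 2 * m + 1 + 1 = 2 * (m + 1) := by ring
    have h6 : (A ^ (2 * m + 1)) ^ 2 = 1 := by
      apply Units.ext
      rw [Units.val_pow_eq_pow_val, hμ, smul_pow, one_pow, hμ2, one_smul, Units.val_one]
    rw [h5, pow_mul, h6, one_pow]

end Cfsg.Agent.H25.RC.FT

open Matrix Cfsg
open Cfsg.Agent.H106.RC Cfsg.Agent.H999.PslGraph Cfsg.Agent.H384.RC
open Cfsg.Agent.ClassicalGeometry.AutPSL.Auto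

namespace Cfsg.Agent.H25.RC

open FT in
/-- box B43 -/
theorem killed_43 {F : Type} [Field F] [Fintype F] (hF : Fintype.card F = 3)
    (B : GL (Fin 2 × Fin 2) F)
    (hB : (B : Matrix (Fin 2 × Fin 2) (Fin 2 × Fin 2) F) =
      Matrix.kroneckerMap (· * ·) !![0, 1; -1, 0] !![0, 1; -1, 0]) : Killed (gam B) := by
  have hB' : (B : Matrix (Fin 2 × Fin 2) (Fin 2 × Fin 2) F) = Bm := hB
  obtain ⟨h2, h3⟩ := two_ne hF
  have hS : IsSimpleGroup (Matrix.ProjectiveSpecialLinearGroup (Fin 2 × Fin 2) F) :=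
    Cfsg.Agent.LieClassical.SLGen.psl_isSimpleGroup (by simp)
  rw [killed_iff]
  intro κ _ x r hFam H hcov
  -- the primes are all three
  have hodd : ∀ i, Odd (r i) := fun i => (hFam.pr i).odd_of_ne_two (hFam.ne2 i)
  have hr3 : ∀ i, r i = 3 := by
    intro i
    obtain ⟨A, hA, hAr⟩ := exists_iso hF B hB' (x i) (hodd i) (hFam.pow i) (hFam.commt i)
    have hA1 : A ≠ 1 := by
      rintro rfl
      apply hFam.ne1 i
      rw [hA]
      exact map_one _
    have : Fact (r i).Prime := ⟨hFam.pr i⟩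
    have h5 : orderOf A = r i := orderOf_eq_prime hAr hA1
    have h6 : r i ∣ 1152 := by
      rw [← h5, ← card_G hF]
      exact orderOf_dvd_natCard A
    have h7 : (1152 : ℕ) = 2 ^ 7 * 3 ^ 2 := by norm_num
    rw [h7, (hFam.pr i).dvd_mul] at h6
    rcases h6 with h | h
    · exact absurd ((Nat.prime_dvd_prime_iff_eq (hFam.pr i) Nat.prime_two).1
        ((hFam.pr i).dvd_of_dvd_pow h)) (hFam.ne2 i)
    · exact (Nat.prime_dvd_prime_iff_eq (hFam.pr i) Nat.prime_three).1
        ((hFam.pr i).dvd_of_dvd_pow h)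
  by_cases hne : Nonempty κ
  · obtain ⟨i₀⟩ := hne
    have hκ : ∀ i, i = i₀ := fun i => hFam.inj ((hr3 i).trans (hr3 i₀).symm)
    obtain ⟨A, hA, hAr⟩ := exists_iso hF B hB' (x i₀) (hodd i₀) (hFam.pow i₀) (hFam.commt i₀)
    rw [hr3 i₀] at hAr
    obtain ⟨g, a, b, hg⟩ := exists_conj hF h2 A hAr
    have hab : a ≠ 0 ∨ b ≠ 0 := by
      by_contra hcon
      push Not at hcon
      obtain ⟨rfl, rfl⟩ := hcon
      apply hFam.ne1 i₀
      rw [hA]
      have h5 : g * A * g⁻¹ = 1 := by
        apply Subtype.ext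
        rw [hg]
        apply Units.ext
        exact Wm_zero
      have h6 : A = 1 := by
        calc A = g⁻¹ * (g * A * g⁻¹) * g := by group
          _ = 1 := by rw [h5]; group
      rw [h6]
      exact map_one _
    obtain ⟨c, hci, hck, hck'⟩ := exists_c hab
    refine two_step hS (t := gam B) (a := Cj (g : GL (Fin 2 × Fin 2) F)) (x₀ := Cj (W a b))
      (k := Cj (tv h03 (1 : F))) (q := Cj (tv h03 (-1 : F))) (c := c) hcov i₀ hκ ?_ ?_
      (tv_inn _ _) ne_one_k (tv_inn _ _) ?_ (comm_qt hF B hB') hci hck hck'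
    · symm
      rw [gam_comm_Cj_iff]
      refine ⟨1, one_ne_zero, ?_⟩
      have := (mem_iff h2 (g : GL (Fin 2 × Fin 2) F)).1 g.2
      rw [one_smul, hB', this]
    · rw [hA, ← map_mul, ← map_inv, ← map_mul]
      congr 1
    · rw [← map_mul, ← map_mul, tv_W]
  · refine fam_root hS (gam B) H (Cj (tv h03 (1 : F))) (tv_inn _ _) ne_one_k ?_
      (Subgroup.subset_closure ⟨Cj (tv h03 (-1 : F)), tv_inn _ _, ?_, comm_qt hF B hB'⟩)
    · intro n hn
      rcases hcov.pt n hn with h | ⟨i, -⟩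
      · exact Or.inr h
      · exact absurd ⟨i⟩ hne
    · rw [← map_mul, ← map_mul]
      congr 1
      exact tv_comm _ _ (by decide) (by decide) _ _

end Cfsg.Agent.H25.RC
end

-- part: H388/RC/Dat
section
/-!
# S3510-B, box B34: the group `GU_3(2)` as a list (helper388)
-/

set_option autoImplicit false

namespace Cfsg.Agent.H388.RC34

open Cfsg.Agent.Lib.FieldFour Cfsg.Agent.Lib.FieldFour.F4

/-- 3 by 3 matrices -/
structure M where
  (a b c d e f g h k : F4)

/-- boolean equality -/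
def eqF : F4 → F4 → Bool
  | o, o => true
  | i, i => true
  | w, w => true
  | v, v => true
  | _, _ => false

theorem eqF_iff (x y : F4) : eqF x y = true ↔ x = y := by
  cases x <;> cases y <;> simp [eqF]

def eqM (x y : M) : Bool :=
  eqF x.a y.a && eqF x.b y.b && eqF x.c y.c && eqF x.d y.d && eqF x.e y.e && eqF x.f y.f && eqF x.g y.g &&
    eqF x.h y.h && eqF x.k y.k

theorem eqM_iff (x y : M) : eqM x y = true ↔ x = y := by
  obtain ⟨a, b, c, d, e, f, g, h, k⟩ := x
  obtain ⟨a', b', c', d', e', f', g', h', k'⟩ := y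
  simp only [eqM, Bool.and_eq_true, eqF_iff, M.mk.injEq, and_assoc]

/-- `a ↦ a ^ 2` -/
def fr : F4 → F4
  | o => o
  | i => i
  | w => v
  | v => w

/-- `x₁ y₁ + x₂ y₂ + x₃ y₃` -/
def dot (x₁ x₂ x₃ y₁ y₂ y₃ : F4) : F4 := add (add (mul x₁ y₁) (mul x₂ y₂)) (mul x₃ y₃)

/-- hermitian product -/
def herm (x₁ x₂ x₃ y₁ y₂ y₃ : F4) : F4 := dot x₁ x₂ x₃ (fr y₁) (fr y₂) (fr y₃)

def mm (x y : M) : M :=
  ⟨dot x.a x.b x.c y.a y.d y.g, dot x.a x.b x.c y.b y.e y.h, dot x.a x.b x.c y.c y.f y.k,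
   dot x.d x.e x.f y.a y.d y.g, dot x.d x.e x.f y.b y.e y.h, dot x.d x.e x.f y.c y.f y.k,
   dot x.g x.h x.k y.a y.d y.g, dot x.g x.h x.k y.b y.e y.h, dot x.g x.h x.k y.c y.f y.k⟩

def st (x : M) : M := ⟨fr x.a, fr x.d, fr x.g, fr x.b, fr x.e, fr x.h, fr x.c, fr x.f, fr x.k⟩

def sm (s : F4) (x : M) : M :=
  ⟨mul s x.a, mul s x.b, mul s x.c, mul s x.d, mul s x.e, mul s x.f, mul s x.g, mul s x.h, mul s x.k⟩

def one : M := ⟨i, o, o, o, i, o, o, o, i⟩

def dt (x : M) : F4 :=
  add (add (mul x.a (add (mul x.e x.k) (mul x.f x.h))) (mul x.b (add (mul x.d x.k) (mul x.f x.g))))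
    (mul x.c (add (mul x.d x.h) (mul x.e x.g)))

def scalEq (x y : M) : Bool := eqM x y || eqM x (sm w y) || eqM x (sm v y)

def isScal (x : M) : Bool := scalEq x one

def sq (x : M) : M := mm x x

def p12 (x : M) : M := mm (sq (sq (sq x))) (sq (sq x))

def l4 : List F4 := [o, i, w, v]

def vecs : List (F4 × F4 × F4) := l4.flatMap fun x => l4.flatMap fun y => l4.map fun z => (x, y, z)

/-- unit vectors -/
def units : List (F4 × F4 × F4) := vecs.filter fun u => eqF (herm u.1 u.2.1 u.2.2 u.1 u.2.1 u.2.2) i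

theorem mem_units (x y z : F4) (h : herm x y z x y z = i) : (x, y, z) ∈ units := by
  rw [units, List.mem_filter, eqF_iff]
  refine ⟨?_, h⟩
  revert x y z
  decide +kernel

def orth (u v : F4 × F4 × F4) : Bool := eqF (herm u.1 u.2.1 u.2.2 v.1 v.2.1 v.2.2) o

/-- all unitary matrices -/
def allU (P : M → Bool) : Bool :=
  units.all fun u => units.all fun v => !(orth u v) || units.all fun w =>
    !(orth u w) || !(orth v w) || P ⟨u.1, u.2.1, u.2.2, v.1, v.2.1, v.2.2, w.1, w.2.1, w.2.2⟩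

theorem of_allU {P : M → Bool} (hP : allU P = true) (x : M) (hx : mm x (st x) = one) : P x = true := by
  obtain ⟨a, b, c, d, e, f, g, h, k⟩ := x
  have h11 : herm a b c a b c = i := congrArg M.a hx
  have h12 : herm a b c d e f = o := congrArg M.b hx
  have h13 : herm a b c g h k = o := congrArg M.c hx
  have h22 : herm d e f d e f = i := congrArg M.e hx
  have h23 : herm d e f g h k = o := congrArg M.f hx
  have h33 : herm g h k g h k = i := congrArg M.k hx
  have h1 := List.all_eq_true.1 (List.all_eq_true.1 hP _ (mem_units a b c h11)) _ (mem_units d e f h22)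
  have o12 : orth (a, b, c) (d, e, f) = true := (eqF_iff _ _).2 h12
  have o13 : orth (a, b, c) (g, h, k) = true := (eqF_iff _ _).2 h13
  have o23 : orth (d, e, f) (g, h, k) = true := (eqF_iff _ _).2 h23
  rw [o12, Bool.not_true, Bool.false_or] at h1
  have h2 := List.all_eq_true.1 h1 _ (mem_units g h k h33)
  rw [o13, o23, Bool.not_true, Bool.false_or, Bool.false_or] at h2
  exact h2

/-- `(123)` -/
def P0 : M := ⟨o, o, i, i, o, o, o, i, o⟩

/-- `(12)` -/
def Y0 : M := ⟨o, i, o, i, o, o, o, o, i⟩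

def c0 : M := ⟨i, i, i, i, w, v, i, v, w⟩

def gP : List M := [⟨o, o, i, o, i, o, i, o, o⟩, ⟨o, o, i, o, i, o, w, o, o⟩, ⟨o, o, i, o, i, o, v, o, o⟩,
  ⟨o, o, i, i, o, o, o, i, o⟩, ⟨o, o, i, i, o, o, o, w, o⟩, ⟨o, o, i, i, o, o, o, v, o⟩,
  ⟨i, i, i, i, w, v, i, v, w⟩, ⟨i, i, i, i, v, w, i, w, v⟩]

def gY : List M := [⟨o, i, o, i, o, o, o, o, i⟩, ⟨o, i, o, o, o, v, w, o, o⟩, ⟨o, i, o, w, o, o, o, o, v⟩,
  ⟨o, i, o, v, o, o, o, o, w⟩, ⟨o, i, o, o, o, w, v, o, o⟩, ⟨o, i, o, o, o, i, i, o, o⟩,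
  ⟨o, o, i, o, v, o, w, o, o⟩, ⟨o, o, i, o, w, o, v, o, o⟩, ⟨o, o, i, o, i, o, i, o, o⟩]

theorem gP_unit : (gP.all fun g => eqM (mm g (st g)) one) = true := by decide

theorem gY_unit : (gY.all fun g => eqM (mm g (st g)) one) = true := by decide

private noncomputable def _root_.Cfsg.Agent.LsF.f58dc5a_0 : {f // @Cfsg.Agent.H388.RC34.eqF = f} := ⟨_, by first | (delta Cfsg.Agent.H388.RC34.eqF; (try delta Cfsg.Agent.H388.RC34.eqF.match_1); (try delta Cfsg.Agent.H388.RC34.eqF._sparseCasesOn_1); (try delta Cfsg.Agent.H388.RC34.eqF._sparseCasesOn_2); (try delta Cfsg.Agent.H388.RC34.eqF._sparseCasesOn_3); (try delta Cfsg.Agent.H388.RC34.eqF._sparseCasesOn_4); (try delta Cfsg.Agent.Lib.FieldFour.F4.casesOn); exact rfl) | exact rfl⟩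
private noncomputable def _root_.Cfsg.Agent.LsF.f58dc5a_1 : {f // @Cfsg.Agent.Lib.FieldFour.F4.add = f} := ⟨_, by first | (delta Cfsg.Agent.Lib.FieldFour.F4.add; (try delta Cfsg.Agent.Lib.FieldFour.F4.add.match_1); (try delta Cfsg.Agent.Lib.FieldFour.F4.casesOn); exact rfl) | exact rfl⟩
private noncomputable def _root_.Cfsg.Agent.LsF.f58dc5a_2 : {f // @Cfsg.Agent.Lib.FieldFour.F4.mul = f} := ⟨_, by first | (delta Cfsg.Agent.Lib.FieldFour.F4.mul; (try delta Cfsg.Agent.Lib.FieldFour.F4.mul.match_1); (try delta Cfsg.Agent.Lib.FieldFour.F4.casesOn); exact rfl) | exact rfl⟩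
private noncomputable def _root_.Cfsg.Agent.LsF.f58dc5a_3 : {f // @Cfsg.Agent.H388.RC34.dot = f} := ⟨_, by first | (delta Cfsg.Agent.H388.RC34.dot; rewrite [Cfsg.Agent.LsF.f58dc5a_1.2, Cfsg.Agent.LsF.f58dc5a_2.2]; exact rfl) | exact rfl⟩
private noncomputable def _root_.Cfsg.Agent.LsF.f58dc5a_4 : {f // @Cfsg.Agent.H388.RC34.fr = f} := ⟨_, by first | (delta Cfsg.Agent.H388.RC34.fr; (try delta Cfsg.Agent.H388.RC34.fr.match_1); (try delta Cfsg.Agent.Lib.FieldFour.F4.casesOn); exact rfl) | exact rfl⟩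
private noncomputable def _root_.Cfsg.Agent.LsF.f58dc5a_5 : {f // @Cfsg.Agent.H388.RC34.herm = f} := ⟨_, by first | (delta Cfsg.Agent.H388.RC34.herm; rewrite [Cfsg.Agent.LsF.f58dc5a_3.2, Cfsg.Agent.LsF.f58dc5a_4.2]; exact rfl) | exact rfl⟩
private noncomputable def _root_.Cfsg.Agent.LsF.f58dc5a_6 : {f // @Cfsg.Agent.H388.RC34.vecs = f} := ⟨_, by first | (delta Cfsg.Agent.H388.RC34.vecs; rewrite [Cfsg.Agent.LsF.map_eq, Cfsg.Agent.LsF.flatMap_eq]; exact rfl) | exact rfl⟩
private noncomputable def _root_.Cfsg.Agent.LsF.f58dc5a_7 : {f // @Cfsg.Agent.H388.RC34.units = f} := ⟨_, by first | (delta Cfsg.Agent.H388.RC34.units; rewrite [Cfsg.Agent.LsF.f58dc5a_0.2, Cfsg.Agent.LsF.f58dc5a_5.2, Cfsg.Agent.LsF.f58dc5a_6.2, Cfsg.Agent.LsF.filter_eq]; exact rfl) | exact rfl⟩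
private noncomputable def _root_.Cfsg.Agent.LsF.f58dc5a_8 : {f // @Cfsg.Agent.H388.RC34.orth = f} := ⟨_, by first | (delta Cfsg.Agent.H388.RC34.orth; rewrite [Cfsg.Agent.LsF.f58dc5a_0.2, Cfsg.Agent.LsF.f58dc5a_5.2]; exact rfl) | exact rfl⟩
private noncomputable def _root_.Cfsg.Agent.LsF.f58dc5a_9 : {f // @Cfsg.Agent.H388.RC34.allU = f} := ⟨_, by first | (delta Cfsg.Agent.H388.RC34.allU; rewrite [Cfsg.Agent.LsF.f58dc5a_7.2, Cfsg.Agent.LsF.f58dc5a_8.2, Cfsg.Agent.LsF.or_eq, Cfsg.Agent.LsF.not_eq, Cfsg.Agent.LsF.all_eq]; exact rfl) | exact rfl⟩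
private noncomputable def _root_.Cfsg.Agent.LsF.f58dc5a_10 : {f // @Cfsg.Agent.H388.RC34.eqM = f} := ⟨_, by first | (delta Cfsg.Agent.H388.RC34.eqM; rewrite [Cfsg.Agent.LsF.f58dc5a_0.2, Cfsg.Agent.LsF.and_eq]; exact rfl) | exact rfl⟩
private noncomputable def _root_.Cfsg.Agent.LsF.f58dc5a_11 : {f // @Cfsg.Agent.H388.RC34.sm = f} := ⟨_, by first | (delta Cfsg.Agent.H388.RC34.sm; rewrite [Cfsg.Agent.LsF.f58dc5a_2.2]; exact rfl) | exact rfl⟩
private noncomputable def _root_.Cfsg.Agent.LsF.f58dc5a_12 : {f // @Cfsg.Agent.H388.RC34.scalEq = f} := ⟨_, by first | (delta Cfsg.Agent.H388.RC34.scalEq; rewrite [Cfsg.Agent.LsF.f58dc5a_10.2, Cfsg.Agent.LsF.f58dc5a_11.2, Cfsg.Agent.LsF.or_eq]; exact rfl) | exact rfl⟩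
private noncomputable def _root_.Cfsg.Agent.LsF.f58dc5a_13 : {f // @Cfsg.Agent.H388.RC34.isScal = f} := ⟨_, by first | (delta Cfsg.Agent.H388.RC34.isScal; rewrite [Cfsg.Agent.LsF.f58dc5a_12.2]; exact rfl) | exact rfl⟩
private noncomputable def _root_.Cfsg.Agent.LsF.f58dc5a_14 : {f // @Cfsg.Agent.H388.RC34.mm = f} := ⟨_, by first | (delta Cfsg.Agent.H388.RC34.mm; rewrite [Cfsg.Agent.LsF.f58dc5a_3.2]; exact rfl) | exact rfl⟩
private noncomputable def _root_.Cfsg.Agent.LsF.f58dc5a_15 : {f // @Cfsg.Agent.H388.RC34.sq = f} := ⟨_, by first | (delta Cfsg.Agent.H388.RC34.sq; rewrite [Cfsg.Agent.LsF.f58dc5a_14.2]; exact rfl) | exact rfl⟩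
private noncomputable def _root_.Cfsg.Agent.LsF.f58dc5a_16 : {f // @Cfsg.Agent.H388.RC34.p12 = f} := ⟨_, by first | (delta Cfsg.Agent.H388.RC34.p12; rewrite [Cfsg.Agent.LsF.f58dc5a_14.2, Cfsg.Agent.LsF.f58dc5a_15.2]; exact rfl) | exact rfl⟩
theorem chk12 : allU (fun x => isScal (p12 x)) = true := by ((try (rewrite [Cfsg.Agent.LsF.f58dc5a_9.2, Cfsg.Agent.LsF.f58dc5a_13.2, Cfsg.Agent.LsF.f58dc5a_16.2])); decide +kernel)

private noncomputable def _root_.Cfsg.Agent.LsF.f58dc5a_17 : {f // @Cfsg.Agent.H388.RC34.dt = f} := ⟨_, by first | (delta Cfsg.Agent.H388.RC34.dt; rewrite [Cfsg.Agent.LsF.f58dc5a_1.2, Cfsg.Agent.LsF.f58dc5a_2.2]; exact rfl) | exact rfl⟩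
theorem chkP : allU (fun x => !(eqF (dt x) i) || !(isScal (mm x (sq x))) || isScal x ||
    gP.any fun g => scalEq (mm g x) (mm P0 g)) = true := by ((try (rewrite [Cfsg.Agent.LsF.f58dc5a_9.2, Cfsg.Agent.LsF.f58dc5a_0.2, Cfsg.Agent.LsF.f58dc5a_17.2, Cfsg.Agent.LsF.f58dc5a_13.2, Cfsg.Agent.LsF.f58dc5a_14.2, Cfsg.Agent.LsF.f58dc5a_15.2, Cfsg.Agent.LsF.f58dc5a_12.2, Cfsg.Agent.LsF.or_eq, Cfsg.Agent.LsF.not_eq, Cfsg.Agent.LsF.any_eq])); decide +kernel)

/-- `[x, c₀] ^ 2` -/
def cm (x : M) : M := sq (mm (mm x c0) (mm (st x) (st c0)))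

private noncomputable def _root_.Cfsg.Agent.LsF.f58dc5a_18 : {f // @Cfsg.Agent.H388.RC34.st = f} := ⟨_, by first | (delta Cfsg.Agent.H388.RC34.st; rewrite [Cfsg.Agent.LsF.f58dc5a_4.2]; exact rfl) | exact rfl⟩
private noncomputable def _root_.Cfsg.Agent.LsF.f58dc5a_19 : {f // @Cfsg.Agent.H388.RC34.cm = f} := ⟨_, by first | (delta Cfsg.Agent.H388.RC34.cm; rewrite [Cfsg.Agent.LsF.f58dc5a_15.2, Cfsg.Agent.LsF.f58dc5a_14.2, Cfsg.Agent.LsF.f58dc5a_18.2]; exact rfl) | exact rfl⟩
theorem chkY : allU (fun x => eqF (dt x) i || gY.any fun g => scalEq (mm (cm x) g) (mm g Y0)) = true := by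
  ((try (rewrite [Cfsg.Agent.LsF.f58dc5a_9.2, Cfsg.Agent.LsF.f58dc5a_0.2, Cfsg.Agent.LsF.f58dc5a_17.2, Cfsg.Agent.LsF.f58dc5a_12.2, Cfsg.Agent.LsF.f58dc5a_14.2, Cfsg.Agent.LsF.f58dc5a_19.2, Cfsg.Agent.LsF.or_eq, Cfsg.Agent.LsF.any_eq])); decide +kernel)

end Cfsg.Agent.H388.RC34
end

-- part: H388/RC/B34
section
/-!
# S3510-B, box B34: the unitary involution of `PSL_3(4)` (helper388)
-/

set_option autoImplicit false

open Matrix Cfsg
open Cfsg.Agent.H106.RC Cfsg.Agent.H999.PslGraph Cfsg.Agent.H384.RC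
open Cfsg.Agent.ClassicalGeometry.AutPSL.Root
open Cfsg.Agent.ClassicalGeometry.AutPSL.Auto
open Cfsg.Agent.ClassicalGeometry.AutPSL.Main
open Cfsg.Agent.Lib.FieldFour Cfsg.Agent.Lib.FieldFour.F4

namespace Cfsg.Agent.H388.RC34

section mat

/-- the Frobenius automorphism -/
def fr4 : F4 ≃+* F4 where
  toFun := fr
  invFun := fr
  left_inv := by decide
  right_inv := by decide
  map_mul' := by decide
  map_add' := by decide

theorem fr4_apply (a : F4) : fr4 a = fr a := rfl

/-- an automorphism of odd order is trivial -/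
theorem auto_sq (τ : F4 ≃+* F4) : τ * τ = 1 := by
  have h0 : τ o = o := map_zero τ
  have h1 : τ i = i := map_one τ
  have hinj := τ.injective
  have hw0 : τ w ≠ o := fun h => by
    have := hinj (h.trans h0.symm)
    cases this
  have hw1 : τ w ≠ i := fun h => by
    have := hinj (h.trans h1.symm)
    cases this
  have hv0 : τ v ≠ o := fun h => by
    have := hinj (h.trans h0.symm)
    cases this
  have hv1 : τ v ≠ i := fun h => by
    have := hinj (h.trans h1.symm)
    cases this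
  have hwv : τ w ≠ τ v := fun h => by
    have := hinj h
    cases this
  apply RingEquiv.ext
  intro a
  show τ (τ a) = a
  cases a with
  | o => rw [h0, h0]
  | i => rw [h1, h1]
  | w =>
    cases hw : τ w with
    | o => exact absurd hw hw0
    | i => exact absurd hw hw1
    | w => exact hw
    | v =>
      cases hv : τ v with
      | o => exact absurd hv hv0
      | i => exact absurd hv hv1
      | w => rfl
      | v => exact absurd (hw.trans hv.symm) hwv
  | v =>
    cases hv : τ v with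
    | o => exact absurd hv hv0
    | i => exact absurd hv hv1
    | v => exact hv
    | w =>
      cases hw : τ w with
      | o => exact absurd hw hw0
      | i => exact absurd hw hw1
      | v => rfl
      | w => exact absurd (hw.trans hv.symm) hwv

/-- the matrix -/
def tm (x : M) : Matrix (Fin 3) (Fin 3) F4 := !![x.a, x.b, x.c; x.d, x.e, x.f; x.g, x.h, x.k]

def ofM (A : Matrix (Fin 3) (Fin 3) F4) : M :=
  ⟨A 0 0, A 0 1, A 0 2, A 1 0, A 1 1, A 1 2, A 2 0, A 2 1, A 2 2⟩

theorem tm_ofM (A : Matrix (Fin 3) (Fin 3) F4) : tm (ofM A) = A := by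
  ext r s
  fin_cases r <;> fin_cases s <;> rfl

theorem ofM_tm (x : M) : ofM (tm x) = x := rfl

theorem tm_mm (x y : M) : tm (mm x y) = tm x * tm y := by
  ext r s
  rw [Matrix.mul_apply, Fin.sum_univ_three]
  fin_cases r <;> fin_cases s <;> rfl

theorem tm_one : tm one = 1 := by
  ext r s
  fin_cases r <;> fin_cases s <;> rfl

theorem tm_sm (s : F4) (x : M) : tm (sm s x) = s • tm x := by
  ext r t
  fin_cases r <;> fin_cases t <;> rfl

theorem tm_st (x : M) : tm (st x) = ((tm x).map fr4)ᵀ := by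
  ext r t
  fin_cases r <;> fin_cases t <;> rfl

theorem tm_dt (x : M) : (tm x).det = dt x := by
  rw [Matrix.det_fin_three]
  obtain ⟨a, b, c, d, e, f, g, h, k⟩ := x
  have h2 : ∀ z : F4, -z = z := fun z => rfl
  show a * e * k - a * f * h - b * d * k + b * f * g + c * d * h - c * e * g =
    (a * (e * k + f * h) + b * (d * k + f * g)) + c * (d * h + e * g)
  simp only [sub_eq_add_neg, h2]
  ring

theorem scal_of {x y : M} (h : scalEq x y = true) : ∃ s : F4, s ≠ 0 ∧ tm x = s • tm y := by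
  rw [scalEq, Bool.or_eq_true, Bool.or_eq_true, eqM_iff, eqM_iff, eqM_iff] at h
  rcases h with (h | h) | h
  · exact ⟨1, one_ne_zero, by rw [h, one_smul]⟩
  · exact ⟨w, by decide, by rw [h, tm_sm]⟩
  · exact ⟨v, by decide, by rw [h, tm_sm]⟩

theorem scal_to {x y : M} {s : F4} (hs : s ≠ 0) (h : tm x = s • tm y) : scalEq x y = true := by
  rw [scalEq, Bool.or_eq_true, Bool.or_eq_true, eqM_iff, eqM_iff, eqM_iff]
  rw [← tm_sm] at h
  have h' : x = sm s y := by rw [← ofM_tm x, h, ofM_tm]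
  cases s with
  | o => exact absurd rfl hs
  | i => exact Or.inl (Or.inl h')
  | w => exact Or.inl (Or.inr h')
  | v => exact Or.inr h'

end mat


section grp

abbrev S4 := Matrix.ProjectiveSpecialLinearGroup (Fin 3) F4

theorem simpleS : IsSimpleGroup S4 :=
  Cfsg.Agent.LieClassical.SLGen.psl_isSimpleGroup (by decide)

/-- the unitary involution -/
noncomputable def T : MulAut S4 := lift (fld fr4) * It

theorem fr4_sq : fr4 * fr4 = 1 := auto_sq fr4

theorem T_sq : T * T = 1 := by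
  rw [T]
  calc (lift (fld fr4) * It * (lift (fld fr4) * It) : MulAut S4) =
      lift (fld fr4) * (It * lift (fld fr4)) * It := by simp only [mul_assoc]
    _ = lift (fld fr4 * fld fr4) * (It * It) := by rw [← fld_It, map_mul]; simp only [mul_assoc]
    _ = 1 := by rw [← map_mul fld, fr4_sq, map_one, map_one, It_mul_It, mul_one]

theorem T_Cj (A : GL (Fin 3) F4) : T * Cj A = Cj (mg fr4 (ct A)) * T := by
  rw [T, mul_assoc, It_mul_Cj, ← mul_assoc, fld_Cj, mul_assoc]

theorem T_conj (A : GL (Fin 3) F4) : T * Cj A * T⁻¹ = Cj (mg fr4 (ct A)) := by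
  rw [T_Cj, mul_inv_cancel_right]

/-- unitary -/
def Un (A : GL (Fin 3) F4) : Prop := mm (ofM A) (st (ofM A)) = one

theorem coe_mg_ct_inv (A : GL (Fin 3) F4) :
    ((mg fr4 (ct A⁻¹) : GL (Fin 3) F4) : Matrix (Fin 3) (Fin 3) F4) =
      ((A : Matrix (Fin 3) (Fin 3) F4).map fr4)ᵀ := by
  rw [coe_mg, coe_ct, inv_inv]
  rfl

theorem un_iff (A : GL (Fin 3) F4) : Un A ↔ mg fr4 (ct A) = A := by
  have h1 : Un A ↔ A * mg fr4 (ct A⁻¹) = 1 := by
    have e : tm (mm (ofM A) (st (ofM A))) = ((A * mg fr4 (ct A⁻¹) : GL (Fin 3) F4) :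
        Matrix (Fin 3) (Fin 3) F4) := by
      rw [tm_mm, tm_st, tm_ofM, Units.val_mul, coe_mg_ct_inv]
    constructor
    · intro h
      apply Units.ext
      rw [← e, h, tm_one, Units.val_one]
    · intro h
      rw [h, Units.val_one, ← tm_one] at e
      have := congrArg ofM e
      rwa [ofM_tm, ofM_tm] at this
  rw [h1, ct_inv, map_inv, mul_inv_eq_one]
  exact eq_comm

theorem un_comm {A : GL (Fin 3) F4} (h : Un A) : T * Cj A = Cj A * T := by
  rw [T_Cj, (un_iff A).1 h]

theorem herm_val (x y z : F4) : herm x y z x y z = o ∨ herm x y z x y z = i := by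
  revert x y z
  decide +kernel

theorem comm_un {A : GL (Fin 3) F4} (h : T * Cj A = Cj A * T) : Un A := by
  rw [T_Cj] at h
  obtain ⟨c, hc, h1⟩ := Cj_eq_iff.1 (mul_right_cancel h)
  have h2 : ((A * mg fr4 (ct A⁻¹) : GL (Fin 3) F4) : Matrix (Fin 3) (Fin 3) F4) = c • 1 := by
    calc ((A * mg fr4 (ct A⁻¹) : GL (Fin 3) F4) : Matrix (Fin 3) (Fin 3) F4) =
        (A : Matrix (Fin 3) (Fin 3) F4) *
          ((mg fr4 (ct A⁻¹) : GL (Fin 3) F4) : Matrix (Fin 3) (Fin 3) F4) := Units.val_mul _ _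
      _ = (c • ((mg fr4 (ct A) : GL (Fin 3) F4) : Matrix (Fin 3) (Fin 3) F4)) *
          ((mg fr4 (ct A⁻¹) : GL (Fin 3) F4) : Matrix (Fin 3) (Fin 3) F4) := by
          exact congrArg (fun z => z * _) h1
      _ = c • ((mg fr4 (ct A) * mg fr4 (ct A⁻¹) : GL (Fin 3) F4) : Matrix (Fin 3) (Fin 3) F4) := by
          rw [Matrix.smul_mul, Units.val_mul]
      _ = c • 1 := by rw [ct_inv, map_inv, mul_inv_cancel, Units.val_one]
  have e : mm (ofM A) (st (ofM A)) = ofM (c • 1) := by
    rw [← h2, ← ofM_tm (mm _ _), tm_mm, tm_st, tm_ofM, Units.val_mul, coe_mg_ct_inv]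
  have h3 : herm (A 0 0) (A 0 1) (A 0 2) (A 0 0) (A 0 1) (A 0 2) = c := by
    have := congrArg M.a e
    change herm (A 0 0) (A 0 1) (A 0 2) (A 0 0) (A 0 1) (A 0 2) = c * 1 at this
    rwa [mul_one] at this
  have h4 : c = i := by
    rcases herm_val (A 0 0) (A 0 1) (A 0 2) with h | h
    · rw [h] at h3
      exact absurd h3.symm hc
    · rw [← h3, h]
  rw [Un, e, h4]
  rfl

theorem exists_un {x : MulAut S4} {r : ℕ} (hr : r.Prime) (hr2 : r ≠ 2) (hx : x ^ r = 1)
    (hT : T * x = x * T) : ∃ A : GL (Fin 3) F4, Un A ∧ x = Cj A := by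
  have hodd := hr.odd_of_ne_two hr2
  obtain ⟨A, τ, h⟩ := exists_sem_of_odd (by decide) x hodd hx
  have hp : ∀ n : ℕ, ∃ B : GL (Fin 3) F4, x ^ n = Sem B (τ ^ n) := by
    intro n
    induction n with
    | zero => exact ⟨1, by rw [pow_zero, pow_zero]; exact ((Sem_one 1).trans (map_one _)).symm⟩
    | succ n ih =>
      obtain ⟨B, hB⟩ := ih
      exact ⟨B * mg (τ ^ n) A, by rw [pow_succ, hB, h, Sem_mul, pow_succ]⟩
  obtain ⟨B, hB⟩ := hp r
  rw [hx] at hB
  have hτr : τ ^ r = 1 := by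
    have h1 : lift (cj B * fld (τ ^ r)) = lift (fld (1 : F4 ≃+* F4)) := by
      rw [map_mul, map_one, map_one]
      exact hB.symm
    exact (injective_aux h1).2
  have hτ : τ = 1 := by
    obtain ⟨k, hk⟩ := hodd
    rw [hk, pow_add, pow_mul, pow_two, auto_sq, one_pow, one_mul, pow_one] at hτr
    exact hτr
  subst hτ
  have h2 : x = Cj A := h.trans (Sem_one A)
  exact ⟨A, comm_un (by rw [← h2]; exact hT), h2⟩

theorem coe_p12 (A : GL (Fin 3) F4) :
    ((A ^ 12 : GL (Fin 3) F4) : Matrix (Fin 3) (Fin 3) F4) = tm (p12 (ofM A)) := by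
  rw [p12, sq, sq, sq, tm_mm, tm_mm, tm_mm, tm_mm, tm_ofM, Units.val_pow_eq_pow_val]
  noncomm_ring

theorem un_pow {A : GL (Fin 3) F4} (h : Un A) : Cj A ^ 12 = 1 := by
  rw [← map_pow, Cj_eq_one_iff, coe_p12]
  obtain ⟨s, -, hs⟩ := scal_of (of_allU chk12 _ h)
  exact ⟨s, by rw [hs, tm_one]⟩

theorem eq_three {x : MulAut S4} {r : ℕ} (hr : r.Prime) (hr2 : r ≠ 2) (hx : x ^ r = 1) (hx1 : x ≠ 1)
    (h12 : x ^ 12 = 1) : r = 3 := by
  have h1 : orderOf x = r := by
    have := Fact.mk hr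
    exact orderOf_eq_prime hx hx1
  have h2 : r ∣ 12 := by rw [← h1]; exact orderOf_dvd_of_pow_eq_one h12
  have h3 : r ∣ 2 ^ 2 * 3 := h2
  rcases (Nat.Prime.dvd_mul hr).1 h3 with h4 | h4
  · exact absurd ((Nat.prime_dvd_prime_iff_eq hr Nat.prime_two).1 (hr.dvd_of_dvd_pow h4)) hr2
  · exact (Nat.prime_dvd_prime_iff_eq hr Nat.prime_three).1 h4

/-- unitary matrices as group elements -/
def mkU (x : M) (h : mm x (st x) = one) : GL (Fin 3) F4 where
  val := tm x
  inv := tm (st x)
  val_inv := by rw [← tm_mm, h, tm_one]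
  inv_val := by rw [mul_eq_one_comm, ← tm_mm, h, tm_one]

theorem un_mkU (x : M) (h : mm x (st x) = one) : Un (mkU x h) := h

theorem coe_mkU (x : M) (h : mm x (st x) = one) :
    (mkU x h : Matrix (Fin 3) (Fin 3) F4) = tm x := rfl

def q1 : M := ⟨i, o, i, o, i, i, o, o, i⟩

def gq : GL (Fin 3) F4 where
  val := tm q1
  inv := tm q1
  val_inv := by rw [← tm_mm, ← tm_one]; rfl
  inv_val := by rw [← tm_mm, ← tm_one]; rfl

theorem hY0 : mm Y0 (st Y0) = one := rfl

theorem hc0 : mm c0 (st c0) = one := rfl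

noncomputable def y0 : MulAut S4 := Cj (mkU Y0 hY0)

theorem y0_mem : y0 ∈ inn S4 := Cj_mem_inn _ (by rw [coe_mkU, tm_dt]; rfl)

theorem y0_ne : y0 ≠ 1 := by
  rw [y0, Ne, Cj_eq_one_iff]
  rintro ⟨c, hc⟩
  have h1 := congrFun (congrFun hc 0) 1
  have h2 : (i : F4) = c * 0 := h1
  rw [mul_zero] at h2
  cases h2

/-- the group of the root rule -/
noncomputable def Zy (y : MulAut S4) : Subgroup (MulAut S4) :=
  Subgroup.closure {z | ∃ q ∈ inn S4, q * y = y * q ∧ z = q * T * q⁻¹ * T⁻¹}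

theorem Zy_conj {y a : MulAut S4} (ha : T * a = a * T) (h : y ∈ Zy y) :
    a * y * a⁻¹ ∈ Zy (a * y * a⁻¹) := by
  have hle : Zy y ≤ (Zy (a * y * a⁻¹)).comap (MulAut.conj a).toMonoidHom := by
    rw [Zy, Subgroup.closure_le]
    rintro _ ⟨q, hq, hqy, rfl⟩
    show a * (q * T * q⁻¹ * T⁻¹) * a⁻¹ ∈ Zy (a * y * a⁻¹)
    apply Subgroup.subset_closure
    refine ⟨a * q * a⁻¹, inn_conj_mem hq a, ?_, ?_⟩
    · calc a * q * a⁻¹ * (a * y * a⁻¹) = a * (q * y) * a⁻¹ := by group
        _ = a * (y * q) * a⁻¹ := by rw [hqy]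
        _ = _ := by group
    · have h1 : a⁻¹ * T * a = T := by rw [mul_assoc, ha, inv_mul_cancel_left]
      have h2 : a⁻¹ * T⁻¹ = T⁻¹ * a⁻¹ := by
        rw [← _root_.mul_inv_rev, ← _root_.mul_inv_rev, ha]
      symm
      calc a * q * a⁻¹ * T * (a * q * a⁻¹)⁻¹ * T⁻¹ = a * q * (a⁻¹ * T * a) * q⁻¹ * (a⁻¹ * T⁻¹) := by
            group
        _ = _ := by rw [h1, h2]; group
  exact hle h

theorem y0_Zy : y0 ∈ Zy y0 := by
  have h1 : Cj gq * T * (Cj gq)⁻¹ * T⁻¹ = Cj (gq * mg fr4 (ct gq⁻¹)) := by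
    rw [map_mul, ← T_conj, map_inv]
    group
  have h2 : y0 = (Cj gq * T * (Cj gq)⁻¹ * T⁻¹) * (Cj gq * T * (Cj gq)⁻¹ * T⁻¹) := by
    rw [h1, ← map_mul, y0]
    congr 1
    apply Units.ext
    rw [Units.val_mul, Units.val_mul, coe_mg_ct_inv, coe_mkU]
    change tm Y0 = tm q1 * ((tm q1).map fr4)ᵀ * (tm q1 * ((tm q1).map fr4)ᵀ)
    rw [← tm_st, ← tm_mm, ← tm_mm]
    rfl
  have h3 : Cj gq * T * (Cj gq)⁻¹ * T⁻¹ ∈ Zy y0 := by
    apply Subgroup.subset_closure
    refine ⟨Cj gq, Cj_mem_inn _ ?_, ?_, rfl⟩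
    · change (tm q1).det = 1
      rw [tm_dt]
      rfl
    · rw [y0, ← map_mul, ← map_mul]
      congr 1
      apply Units.ext
      rw [Units.val_mul, Units.val_mul, coe_mkU]
      change tm q1 * tm Y0 = tm Y0 * tm q1
      rw [← tm_mm, ← tm_mm]
      rfl
  have h4 := Subgroup.mul_mem _ h3 h3
  rwa [← h2] at h4

theorem coe_inv_un {A : GL (Fin 3) F4} (hA : Un A) :
    ((A⁻¹ : GL (Fin 3) F4) : Matrix (Fin 3) (Fin 3) F4) = tm (st (ofM A)) := by
  rw [tm_st, tm_ofM, ← coe_mg_ct_inv, ct_inv, map_inv, (un_iff A).1 hA]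

theorem case_ii {κ : Type} {x : κ → MulAut S4} {H : Subgroup (MulAut S4)} (hcov : CovH T x H)
    (i₀ : κ) (hκ : ∀ i, i = i₀) {A : GL (Fin 3) F4} (hA : Un A) (hx : x i₀ = Cj A)
    (hd : dt (ofM A) ≠ i) : inn S4 ≤ H := by
  have h1 := of_allU chkY _ hA
  rw [Bool.or_eq_true, eqF_iff] at h1
  obtain ⟨g, hg, h3⟩ := List.any_eq_true.1 (h1.resolve_left hd)
  have hgu : mm g (st g) = one := (eqM_iff _ _).1 (List.all_eq_true.1 gY_unit g hg)
  obtain ⟨s, hs, h4⟩ := scal_of h3
  have h5 : Cj (mkU g hgu * mkU Y0 hY0) =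
      Cj ((A * mkU c0 hc0 * (A⁻¹ * (mkU c0 hc0)⁻¹)) * (A * mkU c0 hc0 * (A⁻¹ * (mkU c0 hc0)⁻¹)) *
        mkU g hgu) := by
    rw [Cj_eq_iff]
    refine ⟨s, hs, ?_⟩
    simp only [Units.val_mul, coe_mkU, coe_inv_un hA, coe_inv_un (un_mkU c0 hc0)]
    rw [← tm_mm g Y0, ← h4, cm, sq, tm_mm, tm_mm, tm_mm, tm_mm, tm_mm, tm_ofM]
    rfl
  have hcT : T * Cj (mkU c0 hc0) = Cj (mkU c0 hc0) * T := un_comm (un_mkU _ _)
  have haT : T * Cj (mkU g hgu) = Cj (mkU g hgu) * T := un_comm (un_mkU _ _)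
  have hci : Cj (mkU c0 hc0) ∈ inn S4 := Cj_mem_inn _ (by rw [coe_mkU, tm_dt]; rfl)
  have h6 : Cj (mkU g hgu) * y0 * (Cj (mkU g hgu))⁻¹ =
      (x i₀ * (Cj (mkU c0 hc0) * x i₀ * (Cj (mkU c0 hc0))⁻¹)⁻¹) *
      (x i₀ * (Cj (mkU c0 hc0) * x i₀ * (Cj (mkU c0 hc0))⁻¹)⁻¹) := by
    rw [mul_inv_eq_iff_eq_mul, hx, y0, ← map_mul, h5]
    simp only [map_mul, map_inv, _root_.mul_inv_rev, inv_inv, mul_assoc]
  refine fam_one simpleS hcov i₀ hκ (Cj (mkU g hgu) * y0 * (Cj (mkU g hgu))⁻¹)
    (inn_conj_mem y0_mem _) ?_ ?_ (Zy_conj haT y0_Zy)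
  · intro h
    apply y0_ne
    rwa [mul_inv_eq_one, mul_eq_left] at h
  · rw [h6]
    have h7 : x i₀ ∈ Subgroup.closure {z | ∃ c ∈ inn S4, c * T = T * c ∧ z = c * x i₀ * c⁻¹} := by
      apply Subgroup.subset_closure
      exact ⟨1, Subgroup.one_mem _, by rw [one_mul, mul_one], by rw [one_mul, inv_one, mul_one]⟩
    have h8 : Cj (mkU c0 hc0) * x i₀ * (Cj (mkU c0 hc0))⁻¹ ∈
        Subgroup.closure {z | ∃ c ∈ inn S4, c * T = T * c ∧ z = c * x i₀ * c⁻¹} := by
      apply Subgroup.subset_closure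
      exact ⟨_, hci, hcT.symm, rfl⟩
    have h9 := Subgroup.mul_mem _ h7 (Subgroup.inv_mem _ h8)
    exact Subgroup.mul_mem _ h9 h9

/-- the prime field -/
def ph : ZMod 2 →+* F4 where
  toFun a := if a = 0 then o else i
  map_one' := rfl
  map_zero' := rfl
  map_mul' := by decide
  map_add' := by decide

theorem ph_inj : Function.Injective ph := by decide

theorem fr_ph (a : ZMod 2) : fr (ph a) = ph a := by
  revert a
  decide

abbrev K2 := Matrix.SpecialLinearGroup (Fin 3) (ZMod 2)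

/-- the inclusion in `GL` -/
def gl (k : K2) : GL (Fin 3) F4 := Matrix.SpecialLinearGroup.toGL (Matrix.SpecialLinearGroup.map ph k)

theorem coe_gl (k : K2) : (gl k : Matrix (Fin 3) (Fin 3) F4) = (k : Matrix (Fin 3) (Fin 3) (ZMod 2)).map ph :=
  rfl

theorem gl_mul (k l : K2) : gl (k * l) = gl k * gl l := by
  rw [gl, map_mul, map_mul]
  rfl

theorem gl_inv (k : K2) : gl k⁻¹ = (gl k)⁻¹ := by
  rw [gl, map_inv, map_inv]
  rfl

/-- `SL_3(2)` in `Aut S` -/
noncomputable def f0 : K2 →* MulAut S4 where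
  toFun k := Cj (gl k)
  map_one' := by
    have : gl 1 = 1 := by rw [gl, map_one, map_one]
    rw [this, map_one]
  map_mul' k l := by rw [gl_mul, map_mul]

theorem f0_apply (k : K2) : f0 k = Cj (gl k) := rfl

theorem f0_ker (k : K2) : f0 k = 1 ↔ k ∈ Subgroup.center K2 := by
  rw [f0_apply, Cj_eq_one_iff, coe_gl, Matrix.SpecialLinearGroup.mem_center_iff]
  constructor
  · rintro ⟨c, hc⟩
    have h0 : ∀ r s, ph (k r s) = c * (1 : Matrix (Fin 3) (Fin 3) F4) r s := fun r s =>
      congrFun (congrFun hc r) s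
    have h1 : scalar (Fin 3) (k 0 0) = (k : Matrix (Fin 3) (Fin 3) (ZMod 2)) := by
      ext r s
      rw [scalar_apply, diagonal_apply]
      by_cases hrs : r = s
      · subst hrs
        rw [if_pos rfl]
        apply ph_inj
        rw [h0, h0, one_apply_eq, one_apply_eq]
      · rw [if_neg hrs]
        apply ph_inj
        rw [h0, one_apply_ne hrs, mul_zero, map_zero]
    refine ⟨k 0 0, ?_, h1⟩
    have h2 := k.2
    rw [← h1, scalar_apply, det_diagonal, Finset.prod_const, Finset.card_univ] at h2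
    exact h2
  · rintro ⟨r, -, hr⟩
    refine ⟨ph r, ?_⟩
    rw [← hr]
    ext a b
    rw [map_apply, scalar_apply, diagonal_apply, Matrix.smul_apply, one_apply, smul_eq_mul]
    by_cases hab : a = b
    · rw [if_pos hab, if_pos hab, mul_one]
    · rw [if_neg hab, if_neg hab, mul_zero, map_zero]

theorem f0_T (k : K2) : T * f0 k * T⁻¹ = f0 (k⁻¹).transpose := by
  rw [f0_apply, T_conj, f0_apply]
  refine congrArg Cj (Units.ext ?_)
  rw [coe_mg, coe_ct, ← gl_inv, coe_gl, coe_gl]
  generalize k⁻¹ = l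
  ext r s
  exact fr_ph (l.1 s r)

theorem f0_inn (k : K2) : f0 k ∈ inn S4 :=
  Cj_mem_inn _ (Matrix.SpecialLinearGroup.map ph k).2

def pk : K2 := ⟨!![0, 0, 1; 1, 0, 0; 0, 1, 0], by decide +kernel⟩

def uk : K2 := ⟨!![1, 1, 0; 0, 1, 0; 0, 0, 1], by decide +kernel⟩

def U0 : M := ⟨i, i, o, o, i, o, o, o, i⟩

theorem coe_pk : (gl pk : Matrix (Fin 3) (Fin 3) F4) = tm P0 := by
  rw [coe_gl]
  ext r s
  fin_cases r <;> fin_cases s <;> rfl

theorem coe_uk : (gl uk : Matrix (Fin 3) (Fin 3) F4) = tm U0 := by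
  rw [coe_gl]
  ext r s
  fin_cases r <;> fin_cases s <;> rfl

theorem pk_uk : f0 pk * f0 uk ≠ f0 uk * f0 pk := by
  intro h
  rw [← map_mul, ← map_mul, f0_apply, f0_apply, Cj_eq_iff] at h
  obtain ⟨c, hc, h⟩ := h
  rw [gl_mul, gl_mul, Units.val_mul, Units.val_mul, coe_pk, coe_uk, ← tm_mm, ← tm_mm] at h
  exact absurd (scal_to hc h) (by decide)

theorem T_uk : T * f0 uk ≠ f0 uk * T := by
  intro h
  have h1 := comm_un h
  rw [Un, coe_uk, ofM_tm] at h1
  have h2 := congrArg M.a h1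
  exact absurd h2 (by decide)

theorem simpleK : IsSimpleGroup (K2 ⧸ Subgroup.center K2) :=
  Cfsg.Agent.LieClassical.SLGen.psl_isSimpleGroup (ι := Fin 3) (F := ZMod 2) (by decide)

theorem noncommK : ¬ IsMulCommutative (K2 ⧸ Subgroup.center K2) := by
  intro h
  have h1 : (QuotientGroup.mk (pk * uk) : K2 ⧸ Subgroup.center K2) = QuotientGroup.mk (uk * pk) :=
    h.is_comm.comm (QuotientGroup.mk pk) (QuotientGroup.mk uk)
  rw [QuotientGroup.eq, ← f0_ker, map_mul, map_inv, inv_mul_eq_one, map_mul, map_mul] at h1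
  exact pk_uk h1

theorem case_i (hRC : RC (Matrix.ProjectiveSpecialLinearGroup (Fin 3) (ZMod 2)))
    {κ : Type} [Finite κ] {x : κ → MulAut S4} {r : κ → ℕ} {H : Subgroup (MulAut S4)}
    (hF : Fam T x r) (hcov : CovH T x H)
    (i₀ : κ) (hκ : ∀ i, i = i₀) {A : GL (Fin 3) F4} (hA : Un A) (hx : x i₀ = Cj A)
    (h3 : x i₀ ^ 3 = 1) (hd : dt (ofM A) = i) : inn S4 ≤ H := by
  have h1 := of_allU chkP _ hA
  have hdt : eqF (dt (ofM A)) i = true := (eqF_iff _ _).2 hd
  have hcube : isScal (mm (ofM A) (sq (ofM A))) = true := by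
    rw [hx, ← map_pow, Cj_eq_one_iff] at h3
    obtain ⟨c, hc⟩ := h3
    refine scal_to (s := c) (ne_zero_of_coe_eq_smul hc) ?_
    rw [tm_one, ← hc, sq, tm_mm, tm_mm, tm_ofM, Units.val_pow_eq_pow_val]
    noncomm_ring
  have hns : isScal (ofM A) = false := by
    rw [Bool.eq_false_iff]
    intro h
    obtain ⟨c, -, hc⟩ := scal_of h
    apply hF.ne1 i₀
    rw [hx, Cj_eq_one_iff]
    exact ⟨c, by rw [← tm_one, ← hc, tm_ofM]⟩
  rw [hdt, hcube, hns, Bool.not_true, Bool.false_or, Bool.false_or, Bool.false_or] at h1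
  obtain ⟨g, hg, h3⟩ := List.any_eq_true.1 h1
  have hgu : mm g (st g) = one := (eqM_iff _ _).1 (List.all_eq_true.1 gP_unit g hg)
  obtain ⟨s, hs, h4⟩ := scal_of h3
  have h5 : f0 pk * Cj (mkU g hgu) = Cj (mkU g hgu) * x i₀ := by
    rw [f0_apply, hx, ← map_mul, ← map_mul, Cj_eq_iff]
    refine ⟨s, hs, ?_⟩
    rw [Units.val_mul, Units.val_mul, coe_mkU, coe_pk, ← tm_mm, ← h4, tm_mm, tm_ofM]
  have hbT : T * Cj (mkU g hgu) = Cj (mkU g hgu) * T := un_comm (un_mkU _ _)
  generalize Cj (mkU g hgu) = b at h5 hbT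
  have hxb : x i₀ = b⁻¹ * f0 pk * b := by rw [mul_assoc, h5, inv_mul_cancel_left]
  have hT' : T = b⁻¹ * T * b := by rw [mul_assoc, hbT, inv_mul_cancel_left]
  have hf : ∀ k, ((MulAut.conj b⁻¹).toMonoidHom.comp f0) k = b⁻¹ * f0 k * b := by
    intro k
    show b⁻¹ * f0 k * b⁻¹⁻¹ = _
    rw [inv_inv]
  have hcomm : ∀ p q : MulAut S4, (b⁻¹ * p * b) * (b⁻¹ * q * b) = (b⁻¹ * q * b) * (b⁻¹ * p * b) →
      p * q = q * p := by
    intro p q h
    have e1 : (b⁻¹ * p * b) * (b⁻¹ * q * b) = b⁻¹ * (p * q) * b := by group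
    have e2 : (b⁻¹ * q * b) * (b⁻¹ * p * b) = b⁻¹ * (q * p) * b := by group
    rw [e1, e2] at h
    exact mul_left_cancel (mul_right_cancel h)
  refine fam_K_none simpleS hF T_sq hcov ((MulAut.conj b⁻¹).toMonoidHom.comp f0) ?_ simpleK
    noncommK hRC ?_ ?_ ?_ ?_ ?_
  · intro k
    rw [hf, ← f0_ker]
    constructor
    · intro h
      rwa [mul_assoc, inv_mul_eq_one, eq_comm, mul_eq_right] at h
    · intro h
      rw [h, mul_one, inv_mul_cancel]
  · intro k
    have := inn_conj_mem (f0_inn k) b⁻¹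
    rwa [inv_inv, ← hf] at this
  · intro k
    refine ⟨(k⁻¹).transpose, ?_⟩
    rw [hf, hf, ← f0_T]
    have hT'' : b * T = T * b := hbT.symm
    calc T * (b⁻¹ * f0 k * b) * T⁻¹ = (b⁻¹ * T * b) * (b⁻¹ * f0 k * b) * (b⁻¹ * T * b)⁻¹ := by
          rw [← hT']
      _ = _ := by group
  · intro j k
    rw [hκ j]
    refine ⟨pk * k * pk⁻¹, ?_⟩
    rw [hf, hf, map_mul, map_mul, map_inv, hxb]
    group
  · intro j h
    have h' := h uk
    rw [hκ j, hf, hxb] at h'
    exact pk_uk (hcomm _ _ h')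
  · intro h
    have h' := h uk
    rw [hf] at h'
    rw [hT'] at h'
    exact T_uk (hcomm _ _ h')

theorem killed_T (hRC : RC (Matrix.ProjectiveSpecialLinearGroup (Fin 3) (ZMod 2))) : Killed T := by
  rw [killed_iff]
  intro κ _ x r hF H hcov
  rcases isEmpty_or_nonempty κ with hκ | ⟨⟨i₀⟩⟩
  · refine fam_root simpleS T H y0 y0_mem y0_ne ?_ y0_Zy
    intro n hn
    rcases hcov.pt n hn with h | ⟨i, -⟩
    · exact Or.inr h
    · exact hκ.elim i
  · have hr3 : ∀ i, r i = 3 := by
      intro i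
      obtain ⟨A, hA, hx⟩ := exists_un (hF.pr i) (hF.ne2 i) (hF.pow i) (hF.commt i)
      exact eq_three (hF.pr i) (hF.ne2 i) (hF.pow i) (hF.ne1 i) (by rw [hx]; exact un_pow hA)
    have hκ : ∀ i, i = i₀ := fun i => hF.inj ((hr3 i).trans (hr3 i₀).symm)
    obtain ⟨A, hA, hx⟩ := exists_un (hF.pr i₀) (hF.ne2 i₀) (hF.pow i₀) (hF.commt i₀)
    have h3 : x i₀ ^ 3 = 1 := by
      have := hF.pow i₀
      rwa [hr3] at this
    by_cases hd : dt (ofM A) = i
    · exact case_i hRC hF hcov i₀ hκ hA hx h3 hd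
    · exact case_ii hcov i₀ hκ hA hx hd

end grp

section transport

open Cfsg.Agent.LieClassical.FieldTransfer

theorem congr_T {F : Type} [Field F] (e : F4 ≃+* F) (σ : F ≃+* F) (hσ : ∀ a, σ a = a ^ 2) :
    MulAut.congr (pslCongr (ι := Fin 3) e) T =
      (lift (fld σ) * It : MulAut (Matrix.ProjectiveSpecialLinearGroup (Fin 3) F)) := by
  apply MulEquiv.ext
  intro x
  obtain ⟨x, rfl⟩ := (pslCongr (ι := Fin 3) e).surjective x
  obtain ⟨x, rfl⟩ := pr_surjective x
  have h1 : MulAut.congr (pslCongr (ι := Fin 3) e) T (pslCongr e (pr x)) =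
      pslCongr e (T (pr x)) := by
    simp [MulAut.congr]
  rw [h1]
  change pr (slCongr e (fld fr4 (itr x))) = pr (fld σ (itr (slCongr e x)))
  congr 1
  apply Subtype.ext
  ext a b
  rw [coe_fld_apply, coe_itr, ← map_inv]
  change e (fr4 ((x⁻¹ : Matrix.SpecialLinearGroup (Fin 3) F4) b a)) =
    σ (e ((x⁻¹ : Matrix.SpecialLinearGroup (Fin 3) F4) b a))
  rw [hσ, ← map_pow]
  congr 1
  generalize ((x⁻¹ : Matrix.SpecialLinearGroup (Fin 3) F4) : Matrix (Fin 3) (Fin 3) F4) b a = z
  rw [fr4_apply, pow_two]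
  cases z <;> rfl

/-- box B34 -/
theorem killed_34 {F : Type} [Field F] [Fintype F] (hF : Fintype.card F = 4) (σ : F ≃+* F)
    (hσ : ∀ a, σ a = a ^ 2)
    (hRC : RC (Matrix.ProjectiveSpecialLinearGroup (Fin 3) (ZMod 2))) :
    Killed (lift (fld σ) * It : MulAut (Matrix.ProjectiveSpecialLinearGroup (Fin 3) F)) := by
  rw [← congr_T (equivOfCard hF).symm σ hσ]
  exact (killed_T hRC).congr _

end transport

end Cfsg.Agent.H388.RC34
end

-- part: H451/RC/InstMinus
section
/-!
# S3510 part B, box BN3: the groups `PΩ^-_{2m+2}(q)`, `q` odd, `m ≥ 1` (helper451 for helper384)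

They are simple, not commutative, and odd order automorphisms have the regular cycle property if
the order is below the bound of the induction hypothesis.
-/

set_option autoImplicit false

namespace Cfsg.Agent.H451.RC

open Cfsg Cfsg.Agent.H106.RC Cfsg.Agent.H384.RC Cfsg.Agent.H610.RC

/-- a simple group of order divisible by a proper power is not commutative -/
theorem not_comm_of_pow_dvd {S : Type*} [Group S] [Finite S] (hs : IsSimpleGroup S) {q k : ℕ}
    (hq : 2 ≤ q) (hk : 2 ≤ k) (h : q ^ k ∣ Nat.card S) : ¬ IsMulCommutative S := by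
  intro hc
  let _ : CommGroup S := { ‹Group S› with mul_comm := hc.is_comm.comm }
  have hp : (Nat.card S).Prime := IsSimpleGroup.prime_card
  have h2 : q * q ∣ Nat.card S := (by rw [← pow_two]; exact (pow_dvd_pow q hk).trans h)
  have h3 : q = Nat.card S := by
    rcases (Nat.dvd_prime hp).1 ((dvd_mul_right q q).trans h2) with h4 | h4
    · omega
    · exact h4
  rw [← h3] at h2
  have h4 : q * q ≤ q := Nat.le_of_dvd (by omega) h2
  nlinarith only [hq, h4]

/-- transport along an isomorphism -/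
theorem inst_of_equiv {N : ℕ} (hIH : IH N) {Q P : Type} [Group Q] [Group P] [Finite P]
    (e : Q ≃* P) (hs : IsSimpleGroup P) (hn : ¬ IsMulCommutative P) (hcl : Cl P)
    (h8 : ¬ Nonempty (P ≃* alternatingGroup (Fin 8))) :
    IsSimpleGroup Q ∧ ¬ IsMulCommutative Q ∧ (Nat.card Q < N → RCo Q) := by
  refine ⟨?_, ?_, fun hlt => ?_⟩
  · have : Nontrivial Q := e.toEquiv.nontrivial
    exact IsSimpleGroup.isSimpleGroup_of_surjective e.symm.toMonoidHom e.symm.surjective
  · intro hc
    apply hn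
    constructor
    constructor
    intro a b
    apply e.symm.injective
    rw [map_mul, map_mul]
    exact hc.is_comm.comm _ _
  · rw [Nat.card_congr e.toEquiv] at hlt
    exact (rco_ih hIH hs hn hcl h8 hlt).congr e.symm

/-- a finite field of order the square of the order of a finite field -/
theorem exists_field_sq (F : Type) [Field F] [Fintype F] :
    ∃ (K : Type) (_ : Field K) (_ : Fintype K), Fintype.card K = Fintype.card F ^ 2 := by
  obtain ⟨p, hp⟩ := CharP.exists F
  obtain ⟨k, hpp, hk⟩ := FiniteField.card F p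
  have : Fact p.Prime := ⟨hpp⟩
  let _ : Fintype (GaloisField p (2 * k)) := Fintype.ofFinite _
  refine ⟨GaloisField p (2 * k), inferInstance, inferInstance, ?_⟩
  have h := GaloisField.card p (2 * (k : ℕ)) (by have := k.pos; omega)
  rw [Nat.card_eq_fintype_card] at h
  rw [h, hk, ← pow_mul, mul_comm]

theorem psl2_card_dvd {K : Type} [Field K] [Fintype K] {q : ℕ} (hK : Fintype.card K = q ^ 2)
    (hq : 2 ≤ q) : q ^ 2 ∣ Nat.card (Matrix.ProjectiveSpecialLinearGroup (Fin 2) K) := by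
  have hord := S0243.result hK 2 le_rfl
  have h4 : 2 ^ 2 ≤ q ^ 2 := Nat.pow_le_pow_left hq 2
  simp only [Fin.prod_univ_succ, Fin.prod_univ_zero] at hord
  simp only [Fin.coe_ofNat_eq_mod, Nat.zero_mod, pow_zero, Fin.succ_zero_eq_one, Nat.reduceMod,
    pow_one, mul_one] at hord
  have hc : (Nat.gcd 2 (q ^ 2 - 1)).Coprime (q ^ 2) := by
    apply Nat.Coprime.coprime_dvd_left (Nat.gcd_dvd_right _ _)
    have h5 : (q ^ 2 - 1).Coprime ((q ^ 2 - 1) + 1) := by simp only [_root_.Nat.coprime_self_add_right, _root_.Nat.coprime_one_right_eq_true]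
    rwa [Nat.sub_add_cancel (by omega)] at h5
  have hc2 : (q ^ 2 - 1).Coprime (q ^ 2) := by
    have h5 : (q ^ 2 - 1).Coprime ((q ^ 2 - 1) + 1) := by simp only [_root_.Nat.coprime_self_add_right, _root_.Nat.coprime_one_right_eq_true]
    rwa [Nat.sub_add_cancel (by omega)] at h5
  apply hc2.symm.dvd_of_dvd_mul_left
  apply hc.symm.dvd_of_dvd_mul_left
  rw [hord]
  refine Dvd.dvd.mul_left ?_ _
  refine ⟨q ^ 2 - 1, ?_⟩
  rw [Nat.mul_sub, mul_one, ← pow_two]

theorem psu4_card_dvd {K : Type} [Field K] [Fintype K] {q : ℕ} (hK : Fintype.card K = q ^ 2) :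
    q ^ 6 ∣ Nat.card (PSU 4 K q) := by
  have hq : 2 ≤ q := by
    have := two_le_card K
    rw [hK] at this
    by_contra hlt
    push Not at hlt
    interval_cases q <;> omega
  have hord := S0280.result hK 4 (by norm_num)
  have hc : (Nat.gcd 4 (q + 1) * (q + 1)).Coprime (q ^ 6) := by
    have h1 : (q + 1).Coprime (q ^ 6) := by
      have h2 := cop_of_dvd_add (q := q) (d := q + 1) 1 one_ne_zero (by rw [pow_one])
      exact Nat.Coprime.pow_right 6 h2
    refine Nat.Coprime.mul_left ?_ h1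
    exact Nat.Coprime.coprime_dvd_left (Nat.gcd_dvd_right _ _) h1
  apply hc.symm.dvd_of_dvd_mul_left
  rw [mul_assoc, hord]
  exact Dvd.dvd.mul_right (pow_dvd_pow q (by norm_num)) _

theorem omegaMinus_card_dvd {F : Type} [Field F] [Fintype F] {m : ℕ} (hm : 4 ≤ m) (a b : F)
    (hab : ∀ z₁ z₂ : F, z₁ ^ 2 + a * z₁ * z₂ + b * z₂ ^ 2 = 0 → z₁ = 0 ∧ z₂ = 0) :
    Fintype.card F ^ (m * (m - 1)) ∣ Nat.card (POmega F (quadFormMinus (m - 1) F a b)) := by
  have hq := two_le_card F
  have hord := S0294.result (F := F) rfl m hm a b hab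
  have hc : (Nat.gcd 4 (Fintype.card F ^ m + 1)).Coprime (Fintype.card F ^ (m * (m - 1))) := by
    apply Nat.Coprime.pow_right
    exact cop_of_dvd_add m (by omega) (Nat.gcd_dvd_right _ _)
  apply hc.symm.dvd_of_dvd_mul_left
  rw [hord, mul_assoc]
  exact dvd_mul_right _ _

theorem psl2_not_alt8 {K : Type} [Field K] [Fintype K] :
    ¬ Nonempty (Matrix.ProjectiveSpecialLinearGroup (Fin 2) K ≃* alternatingGroup (Fin 8)) := by
  rintro ⟨e⟩
  have h1 := psl_exc le_rfl (Or.inr (Or.inr ⟨e⟩))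
  have hord := S0243.result (F := K) rfl 2 le_rfl
  have h8 := card_alt 8 (by norm_num)
  rw [← Nat.card_congr e.toEquiv] at h8
  norm_num [Nat.factorial] at h8
  simp only [Fin.prod_univ_succ, Fin.prod_univ_zero] at hord
  rcases h1 with ⟨-, h | h | h⟩ | ⟨h, -⟩
  · rw [h] at hord
    norm_num only [_root_.one_mul, _root_.Fin.coe_ofNat_eq_mod, _root_.pow_zero, _root_.Nat.add_one_sub_one, _root_.Fin.succ_zero_eq_one, _root_.pow_one, _root_.mul_one] at hord
    omega
  · rw [h] at hord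
    norm_num only [_root_.Fin.coe_ofNat_eq_mod, _root_.pow_zero, _root_.Nat.add_one_sub_one, _root_.Fin.succ_zero_eq_one, _root_.pow_one, _root_.mul_one] at hord
    omega
  · rw [h] at hord
    norm_num only [_root_.Fin.coe_ofNat_eq_mod, _root_.pow_zero, _root_.Nat.add_one_sub_one, _root_.Fin.succ_zero_eq_one, _root_.pow_one, _root_.mul_one] at hord
    omega
  · omega

/-- **box BN3, minus type** -/
theorem inst_minus {N : ℕ} (hIH : IH N) {F : Type} [Field F] [Fintype F]
    (hodd : Odd (Fintype.card F)) {m : ℕ} (hm : 1 ≤ m) (a b : F)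
    (hab : ∀ z₁ z₂ : F, z₁ ^ 2 + a * z₁ * z₂ + b * z₂ ^ 2 = 0 → z₁ = 0 ∧ z₂ = 0) :
    IsSimpleGroup (POmega F (quadFormMinus m F a b)) ∧
      ¬ IsMulCommutative (POmega F (quadFormMinus m F a b)) ∧
      (Nat.card (POmega F (quadFormMinus m F a b)) < N → RCo (POmega F (quadFormMinus m F a b))) := by
  have hq3 : 3 ≤ Fintype.card F := by
    have := two_le_card F
    obtain ⟨k, hk⟩ := hodd
    omega
  obtain ⟨K, _, _, hK⟩ := exists_field_sq F
  have hK9 : 3 ^ 2 ≤ Fintype.card K := by rw [hK]; exact Nat.pow_le_pow_left hq3 2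
  rcases (by omega : m = 1 ∨ m = 2 ∨ 3 ≤ m) with rfl | rfl | h3
  · obtain ⟨e⟩ := S0300.result (K := K) rfl hK a b hab
    have hs : IsSimpleGroup (Matrix.ProjectiveSpecialLinearGroup (Fin 2) K) :=
      Matrix.ProjectiveSpecialLinearGroup.rank_two_simple
        (by rw [Nat.card_eq_fintype_card]; omega)
    refine inst_of_equiv hIH e hs
      (not_comm_of_pow_dvd hs (q := Fintype.card F) (by omega) le_rfl
        (psl2_card_dvd hK (by omega))) ?_ psl2_not_alt8
    exact Or.inl ⟨K, inferInstance, inferInstance, 2, le_rfl, fun _ => by omega,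
      ⟨MulEquiv.refl _⟩⟩
  · obtain ⟨e⟩ := S0303.result (K := K) rfl hK a b hab
    have hnq : ¬ (4 = 3 ∧ Fintype.card F = 2) := by omega
    have hs : IsSimpleGroup (PSU 4 K (Fintype.card F)) := S0283.result hK 4 (by norm_num) hnq
    refine inst_of_equiv hIH e hs
      (not_comm_of_pow_dvd hs (q := Fintype.card F) (k := 6) (by omega) (by norm_num)
        (psu4_card_dvd hK)) ?_ ?_
    · exact Or.inr (Or.inr (Or.inl ⟨K, inferInstance, inferInstance, 4, Fintype.card F, hK,
        by norm_num, hnq, ⟨MulEquiv.refl _⟩⟩))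
    · intro h
      exact psu_not_exc hK (by norm_num) hnq (Or.inr (Or.inr h))
  · have hs := S0297.result (F := F) (m + 1) (by omega) a b hab
    have hex := pomegaMinus_not_exc (F := F) (m := m + 1) (by omega) a b hab
    have hd := omegaMinus_card_dvd (F := F) (m := m + 1) (by omega) a b hab
    rw [Nat.add_sub_cancel] at hs hex hd
    refine inst_of_equiv hIH (MulEquiv.refl _) hs
      (not_comm_of_pow_dvd hs (by omega) (by nlinarith only [h3]) hd) ?_
      (fun h => hex (Or.inr (Or.inr h)))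
    refine Or.inr (Or.inr (Or.inr (Or.inr (Or.inr
      ⟨F, inferInstance, inferInstance, m + 1, a, b, by omega, hab, ⟨MulEquiv.refl _⟩⟩))))

end Cfsg.Agent.H451.RC
end

-- part: H451/RC/InstOdd
section
/-!
# S3510 part B, box BN3: the groups `PΩ_{2m+1}(q)` and `PΩ^+_{2m}(q)`, `q` odd
(helper451 for helper384)
-/

set_option autoImplicit false

namespace Cfsg.Agent.H451.RC

open Cfsg Cfsg.Agent.H106.RC Cfsg.Agent.H384.RC Cfsg.Agent.H610.RC

theorem psl2_not_comm {K : Type} [Field K] [Fintype K] (h4 : 4 ≤ Fintype.card K) :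
    ¬ IsMulCommutative (Matrix.ProjectiveSpecialLinearGroup (Fin 2) K) := by
  have hs : IsSimpleGroup (Matrix.ProjectiveSpecialLinearGroup (Fin 2) K) :=
    Matrix.ProjectiveSpecialLinearGroup.rank_two_simple
      (by rw [Nat.card_eq_fintype_card]; exact h4)
  intro hc
  let _ : CommGroup (Matrix.ProjectiveSpecialLinearGroup (Fin 2) K) :=
    { (inferInstance : Group (Matrix.ProjectiveSpecialLinearGroup (Fin 2) K)) with
      mul_comm := hc.is_comm.comm }
  have hp : (Nat.card (Matrix.ProjectiveSpecialLinearGroup (Fin 2) K)).Prime :=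
    IsSimpleGroup.prime_card
  have hord := S0243.result (F := K) rfl 2 le_rfl
  set q := Fintype.card K with hq
  set N := Nat.card (Matrix.ProjectiveSpecialLinearGroup (Fin 2) K) with hN
  simp only [Fin.prod_univ_succ, Fin.prod_univ_zero] at hord
  simp only [Fin.coe_ofNat_eq_mod, Nat.zero_mod, pow_zero, Fin.succ_zero_eq_one, Nat.reduceMod,
    pow_one, mul_one] at hord
  have hc1 : (q - 1).Coprime q := by
    have h5 : (q - 1).Coprime ((q - 1) + 1) := by simp
    rwa [Nat.sub_add_cancel (by omega)] at h5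
  have hc2 : (Nat.gcd 2 (q - 1)).Coprime q :=
    Nat.Coprime.coprime_dvd_left (Nat.gcd_dvd_right _ _) hc1
  have hqN : q ∣ N := by
    apply hc1.symm.dvd_of_dvd_mul_left
    apply hc2.symm.dvd_of_dvd_mul_left
    rw [hord]
    refine Dvd.dvd.mul_left ?_ _
    exact ⟨q - 1, by rw [Nat.mul_sub, mul_one, ← pow_two]⟩
  have h3 : q = N := by
    rcases (Nat.dvd_prime hp).1 hqN with h | h
    · omega
    · exact h
  have hg2 : Nat.gcd 2 (q - 1) ≤ 2 := Nat.gcd_le_left _ (by norm_num)
  have h6 : Nat.gcd 2 (q - 1) * ((q - 1) * N) ≤ 2 * ((q - 1) * q) := by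
    rw [← h3]
    exact Nat.mul_le_mul_right _ hg2
  rw [hord] at h6
  obtain ⟨r, hr⟩ : ∃ r, q = r + 4 := ⟨q - 4, by omega⟩
  have e1 : q ^ 2 - 1 = (r + 3) * (r + 5) := by
    rw [hr]
    have : (r + 4) ^ 2 = (r + 3) * (r + 5) + 1 := by ring
    omega
  have e2 : q ^ 2 - q = (r + 4) * (r + 3) := by
    rw [hr]
    have : (r + 4) ^ 2 = (r + 4) * (r + 3) + (r + 4) := by ring
    omega
  have e3 : q - 1 = r + 3 := by omega
  rw [e1, e2, e3, hr] at h6
  have h7 : 0 < (r + 3) * (r + 4) := by (clear * -; positivity)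
  have h8 : (r + 3) * (r + 4) * ((r + 3) * (r + 5)) ≤ (r + 3) * (r + 4) * 2 := by
    calc (r + 3) * (r + 4) * ((r + 3) * (r + 5)) = (r + 3) * (r + 5) * ((r + 4) * (r + 3)) := by
          ring
      _ ≤ 2 * ((r + 3) * (r + 4)) := h6
      _ = (r + 3) * (r + 4) * 2 := by ring
  have h9 := Nat.le_of_mul_le_mul_left h8 h7
  linarith only [h7, h9]

theorem psp_card_dvd {F : Type} [Field F] [Fintype F] {m : ℕ} (hm : 1 ≤ m) :
    Fintype.card F ^ (m ^ 2) ∣ Nat.card (PSp m F) := by
  have hq := two_le_card F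
  have h1 := S0245.result (F := F) rfl m
  have h2' := S0246.result (F := F) rfl m (by omega)
  have h3 := Subgroup.card_mul_index (Subgroup.center ↥(Matrix.symplecticGroup (Fin m) F))
  rw [h1, h2'] at h3
  have hord : Nat.gcd 2 (Fintype.card F - 1) * Nat.card (PSp m F) = Fintype.card F ^ (m ^ 2) *
      ∏ i ∈ Finset.range m, (Fintype.card F ^ (2 * (i + 1)) - 1) := h3
  have hc : (Nat.gcd 2 (Fintype.card F - 1)).Coprime (Fintype.card F ^ (m ^ 2)) := by
    apply Nat.Coprime.pow_right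
    exact cop_of_dvd_sub hq 1 one_ne_zero (by rw [pow_one]; exact Nat.gcd_dvd_right _ _)
  apply hc.symm.dvd_of_dvd_mul_left
  rw [hord]
  exact dvd_mul_right _ _

theorem psl4_card_dvd {F : Type} [Field F] [Fintype F] :
    Fintype.card F ^ 6 ∣ Nat.card (Matrix.ProjectiveSpecialLinearGroup (Fin 4) F) := by
  have hq := two_le_card F
  have hord := S0243.result (F := F) rfl 4 (by norm_num)
  set q := Fintype.card F with hqd
  have hc1 : (q - 1).Coprime (q ^ 6) := by
    apply Nat.Coprime.pow_right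
    have h5 : (q - 1).Coprime ((q - 1) + 1) := by simp
    rwa [Nat.sub_add_cancel (by omega)] at h5
  have hc2 : (Nat.gcd 4 (q - 1)).Coprime (q ^ 6) :=
    Nat.Coprime.coprime_dvd_left (Nat.gcd_dvd_right _ _) hc1
  apply hc1.symm.dvd_of_dvd_mul_left
  apply hc2.symm.dvd_of_dvd_mul_left
  rw [hord, Fin.prod_univ_four]
  have h1 : q ∣ q ^ 4 - q ^ 1 := ⟨q ^ 3 - 1, by rw [Nat.mul_sub, mul_one, pow_one, ← pow_succ']⟩
  have h2 : q ^ 2 ∣ q ^ 4 - q ^ 2 := ⟨q ^ 2 - 1, by rw [Nat.mul_sub, mul_one, ← pow_add]⟩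
  have h3 : q ^ 3 ∣ q ^ 4 - q ^ 3 := ⟨q - 1, by rw [Nat.mul_sub, mul_one, ← pow_succ]⟩
  have e : q ^ 6 = q * q ^ 2 * q ^ 3 := by ring
  rw [e]
  refine mul_dvd_mul (mul_dvd_mul ?_ h2) h3
  exact Dvd.dvd.mul_left h1 _

theorem omegaOdd_card_dvd {F : Type} [Field F] [Fintype F] (hodd : Odd (Fintype.card F)) {m : ℕ}
    (hm : 3 ≤ m) : Fintype.card F ^ (m ^ 2) ∣ Nat.card (POmega F (quadFormOdd m F)) := by
  have hord := S0292.result (F := F) rfl hodd m hm
  have hc : (2 : ℕ).Coprime (Fintype.card F ^ (m ^ 2)) := by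
    apply Nat.Coprime.pow_right
    exact (Nat.coprime_two_left).2 hodd
  apply hc.symm.dvd_of_dvd_mul_left
  rw [hord]
  exact dvd_mul_right _ _

theorem omegaPlus_card_dvd {F : Type} [Field F] [Fintype F] {m : ℕ} (hm : 4 ≤ m) :
    Fintype.card F ^ (m * (m - 1)) ∣ Nat.card (POmega F (quadFormPlus m F)) := by
  have hq := two_le_card F
  have hord := S0293.result (F := F) rfl m hm
  have hc : (Nat.gcd 4 (Fintype.card F ^ m - 1)).Coprime (Fintype.card F ^ (m * (m - 1))) := by
    apply Nat.Coprime.pow_right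
    exact cop_of_dvd_sub hq m (by omega) (Nat.gcd_dvd_right _ _)
  apply hc.symm.dvd_of_dvd_mul_left
  rw [hord, mul_assoc]
  exact dvd_mul_right _ _

/-- **box BN3, odd dimension** -/
theorem inst_odd {N : ℕ} (hIH : IH N) {F : Type} [Field F] [Fintype F]
    (hodd : Odd (Fintype.card F)) {m : ℕ} (hm : 1 ≤ m) (h1 : m = 1 → 5 ≤ Fintype.card F) :
    IsSimpleGroup (POmega F (quadFormOdd m F)) ∧
      ¬ IsMulCommutative (POmega F (quadFormOdd m F)) ∧
      (Nat.card (POmega F (quadFormOdd m F)) < N → RCo (POmega F (quadFormOdd m F))) := by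
  have hq3 : 3 ≤ Fintype.card F := by
    have := two_le_card F
    obtain ⟨k, hk⟩ := hodd
    omega
  rcases (by omega : m = 1 ∨ m = 2 ∨ 3 ≤ m) with rfl | rfl | h3
  · have h5 := h1 rfl
    obtain ⟨e⟩ := S0298.result hodd
    have hs : IsSimpleGroup (Matrix.ProjectiveSpecialLinearGroup (Fin 2) F) :=
      Matrix.ProjectiveSpecialLinearGroup.rank_two_simple
        (by rw [Nat.card_eq_fintype_card]; omega)
    exact inst_of_equiv hIH e hs (psl2_not_comm (by omega))
      (Or.inl ⟨F, inferInstance, inferInstance, 2, le_rfl, fun _ => by omega,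
        ⟨MulEquiv.refl _⟩⟩) psl2_not_alt8
  · obtain ⟨e⟩ := S0301.result hodd
    have hs : IsSimpleGroup (PSp 2 F) := S0270.result 2 le_rfl fun _ => hq3
    refine inst_of_equiv hIH e hs
      (not_comm_of_pow_dvd hs (q := Fintype.card F) (k := 2 ^ 2) (by omega) (by norm_num)
        (psp_card_dvd (by norm_num)))
      (Or.inr (Or.inl ⟨F, inferInstance, inferInstance, 2, le_rfl, fun _ => hq3,
        ⟨MulEquiv.refl _⟩⟩)) ?_
    intro h
    exact psp_not_exc le_rfl (fun _ => hq3) (Or.inr (Or.inr h))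
  · have hs := S0295.result hodd m h3
    refine inst_of_equiv hIH (MulEquiv.refl _) hs
      (not_comm_of_pow_dvd hs (q := Fintype.card F) (k := m ^ 2) (by omega) (by nlinarith only [h3])
        (omegaOdd_card_dvd hodd h3))
      (Or.inr (Or.inr (Or.inr (Or.inl ⟨F, inferInstance, inferInstance, m, h3, hodd,
        ⟨MulEquiv.refl _⟩⟩)))) ?_
    intro h
    exact pomegaOdd_not_exc h3 hodd (Or.inr (Or.inr h))

/-- **box BN3, plus type** -/
theorem inst_plus {N : ℕ} (hIH : IH N) {F : Type} [Field F] [Fintype F]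
    (hodd : Odd (Fintype.card F)) {m : ℕ} (hm : 3 ≤ m) :
    IsSimpleGroup (POmega F (quadFormPlus m F)) ∧
      ¬ IsMulCommutative (POmega F (quadFormPlus m F)) ∧
      (Nat.card (POmega F (quadFormPlus m F)) < N → RCo (POmega F (quadFormPlus m F))) := by
  have hq3 : 3 ≤ Fintype.card F := by
    have := two_le_card F
    obtain ⟨k, hk⟩ := hodd
    omega
  rcases (by omega : m = 3 ∨ 4 ≤ m) with rfl | h4
  · obtain ⟨e⟩ := S0302.result (F := F)
    have hs : IsSimpleGroup (Matrix.ProjectiveSpecialLinearGroup (Fin 4) F) :=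
      S0249.result 4 (by norm_num)
    refine inst_of_equiv hIH e hs
      (not_comm_of_pow_dvd hs (q := Fintype.card F) (k := 6) (by omega) (by norm_num)
        psl4_card_dvd)
      (Or.inl ⟨F, inferInstance, inferInstance, 4, by norm_num, fun h => by omega,
        ⟨MulEquiv.refl _⟩⟩) ?_
    intro h
    rcases psl_exc (F := F) (n := 4) (by norm_num) (Or.inr (Or.inr h)) with ⟨h5, -⟩ | ⟨-, h5⟩
    · omega
    · omega
  · have hs := S0296.result (F := F) m h4
    refine inst_of_equiv hIH (MulEquiv.refl _) hs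
      (not_comm_of_pow_dvd hs (q := Fintype.card F) (k := m * (m - 1)) (by omega) ?_
        (omegaPlus_card_dvd h4))
      (Or.inr (Or.inr (Or.inr (Or.inr (Or.inl ⟨F, inferInstance, inferInstance, m, h4,
        ⟨MulEquiv.refl _⟩⟩))))) ?_
    · have := Nat.mul_le_mul h4 (by omega : 3 ≤ m - 1)
      omega
    · intro h
      exact pomegaPlus_not_exc h4 (Or.inr (Or.inr h))

end Cfsg.Agent.H451.RC
end

-- part: H384/RC/Types
section
/-!
# S3510 part B: all standard forms are killed, from the induction hypothesis (helper384)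
-/

set_option autoImplicit false

namespace Cfsg.Agent.H384.RC

open Matrix Cfsg
open Cfsg.Agent.H106.RC
open Cfsg.Agent.ClassicalGeometry.AutPSL.Auto
open Cfsg.Agent.H999.PslGraph Cfsg.Agent.H999.PslGraphClasses Cfsg.Agent.H999.PslGraphTwo
open Cfsg.Agent.H999.PslGraphOdd
open Cfsg.Agent.H212.RC (killed_S)
open Cfsg.Agent.H442.RC.KU (killed_U)
open Cfsg.Agent.H679.RC (killed_O)
open Cfsg.Agent.H287.RC (killed_P1)
open Cfsg.Agent.H837.RC.KilledP2 (killed_P2)
open Cfsg.Agent.H686.RC.K52 (killed_52)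
open Cfsg.Agent.H815.RC (killed_O4)
open Cfsg.Agent.H417.RC (killed_33)
open Cfsg.Agent.H25.RC (killed_43)
open Cfsg.Agent.H388.RC34 (killed_34)
open Cfsg.Agent.H451.RC (inst_minus inst_odd inst_plus)

section card

variable {F : Type} [Field F] [Fintype F] {n : ℕ}

theorem card_psl_eq {κ : Type} [Fintype κ] [DecidableEq κ] (h : Fintype.card κ = n) :
    Nat.card (Matrix.ProjectiveSpecialLinearGroup κ F) =
      Nat.card (Matrix.ProjectiveSpecialLinearGroup (Fin n) F) :=
  Nat.card_congr (rePSL (Fintype.equivFinOfCardEq h)).toEquiv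

end card

section small

variable {F : Type} [Field F] [Fintype F]

/-- the form on `F^2 ⊗ F^2` and `gramPlus 2` -/
theorem plus_of_kron (h : ∀ B : GL (Fin 2 × Fin 2) F,
      (B : Matrix (Fin 2 × Fin 2) (Fin 2 × Fin 2) F) =
        Matrix.kroneckerMap (· * ·) !![0, 1; -1, 0] !![0, 1; -1, 0] → Killed (gam B))
    (B : GL (Fin 2 ⊕ Fin 2) F) (hB : (B : Matrix _ _ F) = gramPlus 2 F) : Killed (gam B) := by
  let K : Matrix (Fin 2 × Fin 2) (Fin 2 × Fin 2) F :=
    Matrix.kroneckerMap (· * ·) !![0, 1; -1, 0] !![0, 1; -1, 0]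
  have hK : K * K = 1 := by
    have h1 : K * K = Matrix.kroneckerMap (· * ·) (!![0, 1; -1, 0] * !![0, 1; -1, 0])
        (!![0, 1; -1, 0] * !![0, 1; -1, 0]) := (Matrix.mul_kronecker_mul _ _ _ _).symm
    rw [h1]
    ext ⟨i, j⟩ ⟨k, l⟩
    (revert i j k l; simp only [Matrix.mul_apply, Fin.sum_univ_two, Matrix.one_apply, _root_.Fin.forall_fin_succ, _root_.Matrix.cons_mul, _root_.Nat.succ_eq_add_one, Nat.reduceAdd, _root_.Matrix.vecMul_cons, _root_.Matrix.head_cons, _root_.zero_smul, _root_.Matrix.tail_cons, _root_.one_smul, _root_.Matrix.empty_vecMul, _root_.add_zero, _root_.zero_add, _root_.neg_smul, _root_.Matrix.neg_cons, _root_.neg_zero, _root_.Matrix.neg_empty, _root_.Matrix.empty_mul, _root_.Equiv.symm_apply_apply, _root_.Matrix.kroneckerMap_apply, _root_.Matrix.of_apply, _root_.Matrix.cons_val', _root_.Matrix.cons_val_fin_one, _root_.Prod.mk.injEq, Fin.isValue, _root_.Matrix.cons_val_zero, _root_.Matrix.cons_val_succ, _root_.Fin.succ_zero_eq_one, _root_.IsEmpty.forall_iff,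 _root_.and_true, _root_.mul_neg, _root_.mul_one, _root_.MulZeroClass.mul_zero, _root_.zero_ne_one, _root_.and_false, ↓reduceIte, _root_.Fin.succ_ne_zero, _root_.true_and, _root_.and_self, _root_.neg_neg, _root_.left_eq_ite_iff, _root_.one_ne_zero, _root_.imp_false, _root_.Decidable.not_not])
  let B' : GL (Fin 2 × Fin 2) F := ⟨K, K, hK, hK⟩
  -- the linear equivalence
  let T : (Fin 2 × Fin 2 → F) ≃ₗ[F] (Fin 2 ⊕ Fin 2 → F) :=
    { toFun := fun u => Sum.elim ![u (0, 0), u (0, 1)] ![u (1, 1), -u (1, 0)]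
      invFun := fun v => fun p => !![v (.inl 0), v (.inl 1); -v (.inr 1), v (.inr 0)] p.1 p.2
      map_add' := fun u v => by
        ext i
        rcases i with i | i <;> fin_cases i <;> simp [add_comm]
      map_smul' := fun c u => by
        ext i
        rcases i with i | i <;> (revert i; simp only [_root_.Fin.forall_fin_succ, Fin.isValue, _root_.Pi.smul_apply, _root_.smul_eq_mul, _root_.Sum.elim_inl, _root_.RingHom.id_apply, _root_.Matrix.cons_val_zero, _root_.Matrix.cons_val_succ, _root_.Matrix.cons_val_fin_one, _root_.implies_true, _root_.and_self, _root_.Sum.elim_inr, _root_.mul_neg])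
      left_inv := fun u => by
        ext ⟨i, j⟩
        (revert i j; simp only [_root_.Fin.forall_fin_succ, Fin.isValue, _root_.Sum.elim_inl, _root_.Matrix.cons_val_zero, _root_.Matrix.cons_val_one, _root_.Matrix.cons_val_fin_one, _root_.Sum.elim_inr, _root_.neg_neg, _root_.Matrix.of_apply, _root_.Matrix.cons_val', _root_.Matrix.cons_val_succ, _root_.Fin.succ_zero_eq_one, _root_.IsEmpty.forall_iff, _root_.and_true, _root_.and_self])
      right_inv := fun v => by
        ext i
        rcases i with i | i <;> (revert i; simp only [_root_.Fin.forall_fin_succ, Fin.isValue, _root_.Matrix.of_apply, _root_.Matrix.cons_val', _root_.Matrix.cons_val_zero, _root_.Matrix.cons_val_fin_one, _root_.Matrix.cons_val_one, _root_.neg_neg, _root_.Sum.elim_inl, _root_.Matrix.cons_val_succ, _root_.Fin.succ_zero_eq_one, _root_.IsEmpty.forall_iff, _root_.and_self, _root_.Sum.elim_inr]) }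
  have hnt : Nontrivial (Fin 2 ⊕ Fin 2) := ⟨.inl 0, .inr 0, by simp⟩
  refine Killed.of_equiv B B' T one_ne_zero (fun u v => ?_) (h B' rfl)
  rw [hB, one_mul]
  change bil (gramPlus 2 F) _ _ = bil K u v
  simp only [bil, gramPlus, dotProduct, mulVec, Fintype.sum_sum_type, Fintype.sum_prod_type,
    Fin.sum_univ_two, K, T]
  simp [Matrix.one_apply]
  ring

/-- the identity form and `gramOdd 1` for `card F = 3` -/
theorem odd_of_one (hF : Fintype.card F = 3) (h : ∀ B : GL (Fin 3) F,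
      (B : Matrix (Fin 3) (Fin 3) F) = 1 → Killed (gam B))
    (B : GL (Unit ⊕ (Fin 1 ⊕ Fin 1)) F) (hB : (B : Matrix _ _ F) = gramOdd 1 F) :
    Killed (gam B) := by
  have h3 : (3 : F) = 0 := by
    have h1 : ((Fintype.card F : ℕ) : F) = 0 := FiniteField.cast_card_eq_zero F
    rw [hF] at h1
    exact_mod_cast h1
  have h2 : (2 : F) ≠ 0 := by
    intro h
    have h1 : (3 : F) = 2 + 1 := by ring
    rw [h3, h, zero_add] at h1
    exact one_ne_zero h1.symm
  let T : (Fin 3 → F) ≃ₗ[F] (Unit ⊕ (Fin 1 ⊕ Fin 1) → F) :=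
    { toFun := fun u => Sum.elim (fun _ => u 1 + u 2)
        (Sum.elim (fun _ => u 0 + u 1 + 2 * u 2) (fun _ => 2 * u 0 + u 1 + 2 * u 2))
      invFun := fun v => ![2 * v (.inr (.inl 0)) + v (.inr (.inr 0)),
        2 * v (.inl ()) + v (.inr (.inl 0)) + v (.inr (.inr 0)),
        2 * v (.inl ()) + 2 * v (.inr (.inl 0)) + 2 * v (.inr (.inr 0))]
      map_add' := fun u v => by
        ext i
        rcases i with i | i | i <;> simp only [_root_.Fin.isValue, _root_.Pi.add_apply, _root_.Sum.elim_inl, _root_.Sum.elim_inr] <;> ring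
      map_smul' := fun c u => by
        ext i
        rcases i with i | i | i <;> simp only [_root_.Fin.isValue, _root_.Pi.smul_apply, _root_.smul_eq_mul, _root_.Sum.elim_inl, _root_.RingHom.id_apply, _root_.Sum.elim_inr] <;> ring
      left_inv := fun u => by
        ext i
        fin_cases i
        · simp only [_root_.Fin.isValue, _root_.Sum.elim_inr, _root_.Sum.elim_inl, _root_.Nat.succ_eq_add_one, _root_.Nat.reduceAdd, _root_.Fin.zero_eta, _root_.Matrix.cons_val_zero]
          linear_combination (u 0 + u 1 + 2 * u 2) * h3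
        · simp only [_root_.Fin.isValue, _root_.Sum.elim_inr, _root_.Sum.elim_inl, _root_.Nat.succ_eq_add_one, _root_.Nat.reduceAdd, _root_.Fin.mk_one, _root_.Matrix.cons_val_one, _root_.Matrix.cons_val_zero]
          linear_combination (u 0 + u 1 + 2 * u 2) * h3
        · simp only [_root_.Fin.isValue, _root_.Sum.elim_inr, _root_.Sum.elim_inl, _root_.Nat.succ_eq_add_one, _root_.Nat.reduceAdd, _root_.Fin.reduceFinMk, _root_.Matrix.cons_val]
          linear_combination (2 * u 0 + 2 * u 1 + 3 * u 2) * h3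
      right_inv := fun v => by
        ext i
        rcases i with i | i | i
        · simp
          linear_combination (v (.inl ()) + v (.inr (.inl 0)) + v (.inr (.inr 0))) * h3
        · fin_cases i
          simp
          linear_combination (2 * v (.inl ()) + 2 * v (.inr (.inl 0)) + 2 * v (.inr (.inr 0))) * h3
        · fin_cases i
          simp
          linear_combination (2 * v (.inl ()) + 3 * v (.inr (.inl 0)) + 2 * v (.inr (.inr 0))) * h3 }
  have hnt : Nontrivial (Unit ⊕ (Fin 1 ⊕ Fin 1)) := ⟨.inl (), .inr (.inl 0), by simp⟩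
  refine Killed.of_equiv B (1 : GL (Fin 3) F) T one_ne_zero (fun u v => ?_) (h 1 rfl)
  rw [hB, one_mul, Units.val_one]
  have hb : ∀ x y : Unit ⊕ (Fin 1 ⊕ Fin 1) → F, bil (gramOdd 1 F) x y = x (.inl ()) * (2 * y (.inl ())) +
      (x (.inr (.inl 0)) * y (.inr (.inr 0)) + x (.inr (.inr 0)) * y (.inr (.inl 0))) := fun x y => by
    simp only [bil, gramOdd, gramPlus, dotProduct, mulVec, Fintype.sum_sum_type, Fin.sum_univ_one,
      (fun f => Fintype.sum_unique f : ∀ f : Unit → F, ∑ a, f a = f ()), fromBlocks_apply₁₁,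
      fromBlocks_apply₁₂, fromBlocks_apply₂₁, fromBlocks_apply₂₂, Matrix.smul_apply, one_apply_eq, smul_eq_mul, mul_one,
      Matrix.zero_apply, zero_mul, add_zero, zero_add, one_mul]
  have hc : bil (1 : Matrix (Fin 3) (Fin 3) F) u v = u 0 * v 0 + u 1 * v 1 + u 2 * v 2 := by
    rw [bil, one_mulVec, dotProduct, Fin.sum_univ_three]
  rw [hb, hc]
  show (u 1 + u 2) * (2 * (v 1 + v 2)) + ((u 0 + u 1 + 2 * u 2) * (2 * v 0 + v 1 + 2 * v 2) +
    (2 * u 0 + u 1 + 2 * u 2) * (v 0 + v 1 + 2 * v 2)) = _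
  linear_combination (u 0 * v 0 + u 0 * v 1 + 2 * u 0 * v 2 + u 1 * v 0 + u 1 * v 1 +
    2 * u 1 * v 2 + 2 * u 2 * v 0 + 2 * u 2 * v 1 + 3 * u 2 * v 2) * h3

end small

section all

variable {F : Type} [Field F] [Fintype F] {n : ℕ}

theorem card_psl2_lt_psl4 (F : Type) [Field F] [Fintype F] (h3 : 3 ≤ Fintype.card F) :
    Nat.card (Matrix.ProjectiveSpecialLinearGroup (Fin 2) F) <
      Nat.card (Matrix.ProjectiveSpecialLinearGroup (Fin 4) F) := by
  have h2 := Cfsg.Agent.H277.CS.card_psl (F := F) rfl (n := 2) le_rfl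
  have h4 := Cfsg.Agent.H277.CS.card_psl (F := F) rfl (n := 4) (by norm_num)
  set q := Fintype.card F with hq
  simp only [Finset.prod_range_succ, Finset.prod_range_zero, one_mul] at h2 h4
  norm_num only [_root_.pow_one] at h2 h4
  set a := Nat.card (Matrix.ProjectiveSpecialLinearGroup (Fin 2) F)
  set b := Nat.card (Matrix.ProjectiveSpecialLinearGroup (Fin 4) F)
  have g2 : 0 < Nat.gcd 2 (q - 1) := Nat.gcd_pos_of_pos_left _ (by norm_num)
  have g4 : Nat.gcd 4 (q - 1) ≤ 4 := Nat.gcd_le_left _ (by norm_num)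
  have ha : a ≤ q * (q ^ 2 - 1) := by
    rw [← h2]
    exact Nat.le_mul_of_pos_left _ g2
  have hb : q ^ 6 * ((q ^ 2 - 1) * (q ^ 3 - 1) * (q ^ 4 - 1)) ≤ 4 * b := by
    rw [← h4]
    exact Nat.mul_le_mul_right _ g4
  have h9 : 9 ≤ q ^ 2 := by nlinarith only [h3]
  have h27 : 27 ≤ q ^ 3 := by nlinarith only [h3, h9]
  have h81 : 81 ≤ q ^ 4 := by nlinarith only [h9]
  have h5 : 4 * (q * (q ^ 2 - 1)) < q ^ 6 * ((q ^ 2 - 1) * (q ^ 3 - 1) * (q ^ 4 - 1)) := by
    obtain ⟨x, hx⟩ : ∃ x, q ^ 2 - 1 = x := ⟨_, rfl⟩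
    obtain ⟨y, hy⟩ : ∃ y, q ^ 3 - 1 = y := ⟨_, rfl⟩
    obtain ⟨z, hz⟩ : ∃ z, q ^ 4 - 1 = z := ⟨_, rfl⟩
    rw [hx, hy, hz]
    have hx8 : 8 ≤ x := by omega
    have hy8 : 26 ≤ y := by omega
    have hz8 : 80 ≤ z := by omega
    have h6 : q ≤ q ^ 6 := Nat.le_self_pow (by norm_num) q
    calc 4 * (q * x) = q * x * 4 := by ring
      _ ≤ q ^ 6 * x * 4 := Nat.mul_le_mul_right _ (Nat.mul_le_mul_right _ h6)
      _ < q ^ 6 * x * (y * z) := by
        apply Nat.mul_lt_mul_of_pos_left
        · nlinarith only [hy8, hz8]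
        · positivity
      _ = q ^ 6 * (x * y * z) := by ring
  omega

theorem card_psl3_four (F : Type) [Field F] [Fintype F] (h : Fintype.card F = 4) :
    168 < Nat.card (Matrix.ProjectiveSpecialLinearGroup (Fin 3) F) := by
  have h3 := Cfsg.Agent.H277.CS.card_psl (F := F) h (n := 3) (by norm_num)
  simp only [Finset.prod_range_succ, Finset.prod_range_zero, one_mul] at h3
  norm_num at h3
  omega

theorem odd_of_two_ne (h2 : (2 : F) ≠ 0) : Odd (Fintype.card F) := by
  rw [← Nat.not_even_iff_odd]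
  intro h
  apply h2
  have h1 : ringChar F = 2 := (FiniteField.even_card_iff_char_two (F := F)).2 (Nat.even_iff.1 h)
  have : CharP F 2 := by rw [← h1]; exact ringChar.charP F
  exact CharTwo.two_eq_zero

theorem card_char_two [CharP F 2] : ∃ k : ℕ, 1 ≤ k ∧ Fintype.card F = 2 ^ k := by
  obtain ⟨k, -, hk⟩ := FiniteField.card F 2
  exact ⟨k, k.2, hk⟩

theorem types (hn : 3 ≤ n) (h42 : ¬ (n = 4 ∧ Fintype.card F = 2))
    (h32 : ¬ (n = 3 ∧ Fintype.card F = 2))
    (hIH : IH (Nat.card (Matrix.ProjectiveSpecialLinearGroup (Fin n) F))) : Types n F := by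
  refine ⟨?_, ?_, ?_, ?_, ?_, ?_, ?_⟩
  · -- symplectic
    intro m hm B hB
    have hne : ¬ (m = 2 ∧ Fintype.card F = 2) := fun h => h42 ⟨by omega, h.2⟩
    refine killed_S (by omega) hne (fun h => ?_) B hB
    rw [card_psl_eq (n := n) (by simp only [_root_.Fintype.card_sum, _root_.Fintype.card_fin]; omega)] at h
    exact RCo.of_RC (rc_psp hIH (by omega) hne h)
  · -- orthogonal, odd dimension
    intro h2 m hm B hB
    have hodd := odd_of_two_ne h2
    by_cases h1 : m = 1 ∧ Fintype.card F = 3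
    · obtain ⟨rfl, h3⟩ := h1
      exact odd_of_one h3 (fun B hB => killed_33 h3 B hB) B hB
    · have h5 : m = 1 → 5 ≤ Fintype.card F := by
        intro hm1
        have h6 : Fintype.card F ≠ 3 := fun h => h1 ⟨hm1, h⟩
        have h7 : 1 < Fintype.card F := Fintype.one_lt_card
        rcases hodd with ⟨j, hj⟩
        omega
      obtain ⟨hs, hnc, hRC⟩ := inst_odd hIH hodd (by omega : 1 ≤ m) h5
      have hm0 : 0 < m := by omega
      refine killed_O h2 (by simp only [_root_.Fintype.card_sum, _root_.Fintype.card_unique, _root_.Fintype.card_fin]; omega) (quadFormOdd m F) B (by rw [hB, gramOdd_transpose])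
        (fun v => by rw [hB]; exact bil_gramOdd m v) (Pi.single (.inr (.inl ⟨0, hm0⟩)) 1)
        (Pi.single (.inr (.inr ⟨0, hm0⟩)) 1) ?_ ?_ ?_ hs hnc (fun h => hRC ?_)
      · simp [quadFormOdd, Pi.single_apply]
      · simp [quadFormOdd, Pi.single_apply]
      · rw [hB]
        change bil _ _ _ = 1
        rw [bil_single]
        simp [gramOdd, gramPlus]
      · rwa [card_psl_eq (n := n) (by simp only [_root_.Fintype.card_sum, _root_.Fintype.card_unique, _root_.Fintype.card_fin]; omega)] at h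
  · -- plus
    intro h2 m hm B hB
    have hodd := odd_of_two_ne h2
    by_cases hm2 : m = 2
    · subst hm2
      refine plus_of_kron (fun B hB => ?_) B hB
      by_cases h3 : Fintype.card F = 3
      · exact killed_43 h3 B hB
      · have h5 : 5 ≤ Fintype.card F := by
          have h7 : 1 < Fintype.card F := Fintype.one_lt_card
          rcases hodd with ⟨j, hj⟩
          omega
        have hn4 : n = 4 := by omega
        subst hn4
        exact killed_O4 h2 h5 (rco_psl2 hIH (by omega) (card_psl2_lt_psl4 F (by omega))) B hB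
    · obtain ⟨hs, hnc, hRC⟩ := inst_plus hIH hodd (by omega : 3 ≤ m)
      have hm0 : 0 < m := by omega
      refine killed_O h2 (by simp only [_root_.Fintype.card_sum, _root_.Fintype.card_fin]; omega) (quadFormPlus m F) B (by rw [hB, gramPlus_transpose])
        (fun v => by rw [hB]; exact bil_gramPlus m v) (Pi.single (.inl ⟨0, hm0⟩) 1)
        (Pi.single (.inr ⟨0, hm0⟩) 1) ?_ ?_ ?_ hs hnc (fun h => hRC ?_)
      · simp [quadFormPlus, Pi.single_apply]
      · simp [quadFormPlus, Pi.single_apply]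
      · rw [hB]
        change bil _ _ _ = 1
        rw [bil_single]
        simp [gramPlus]
      · rwa [card_psl_eq (n := n) (by simp only [_root_.Fintype.card_sum, _root_.Fintype.card_fin]; omega)] at h
  · -- minus
    intro h2 m a b hm hab B hB
    have hodd := odd_of_two_ne h2
    obtain ⟨hs, hnc, hRC⟩ := inst_minus hIH hodd (by omega : 1 ≤ m) a b hab
    have hm0 : 0 < m := by omega
    refine killed_O h2 (by simp only [_root_.Fintype.card_sum, _root_.Fintype.card_fin, _root_.Nat.reduceLeDiff]; omega) (quadFormMinus m F a b) B (by rw [hB, gramMinus_transpose])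
      (fun v => by rw [hB]; exact bil_gramMinus m a b v) (Pi.single (.inl (.inl ⟨0, hm0⟩)) 1)
      (Pi.single (.inl (.inr ⟨0, hm0⟩)) 1) ?_ ?_ ?_ hs hnc (fun h => hRC ?_)
    · simp [quadFormMinus, Pi.single_apply]
    · simp [quadFormMinus, Pi.single_apply]
    · rw [hB]
      change bil _ _ _ = 1
      rw [bil_single]
      simp [gramMinus, gramPlus]
    · rwa [card_psl_eq (n := n) (by simp only [_root_.Fintype.card_sum, _root_.Fintype.card_fin]; omega)] at h
  · -- pseudo-symplectic, odd dimension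
    intro hc m hm B hB
    obtain ⟨k, hk1, hk⟩ := card_char_two (F := F)
    by_cases h52 : m = 2 ∧ Fintype.card F = 2
    · obtain ⟨rfl, h5⟩ := h52
      exact killed_52 h5 B hB
    by_cases hm1 : m = 1
    · subst hm1
      have h4 : 4 ≤ Fintype.card F := by
        have : Fintype.card F ≠ 2 := fun h => h32 ⟨by omega, h⟩
        rw [hk] at this ⊢
        have hk2 : k ≠ 1 := by rintro rfl; exact this rfl
        calc 4 = 2 ^ 2 := rfl
          _ ≤ 2 ^ k := Nat.pow_le_pow_right two_pos (by omega)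
      obtain ⟨hs, hnc, hRC⟩ := rco_psp_one hIH h4
      refine killed_P1 le_rfl hs hnc (fun h => hRC ?_) B hB
      rwa [card_psl_eq (n := n) (by simp; omega)] at h
    · have hm2 : 2 ≤ m := by omega
      have hs : IsSimpleGroup (PSp m F) := Cfsg.Agent.S0270.result m hm2 (fun h => by
        have : Fintype.card F ≠ 2 := fun h' => h52 ⟨h, h'⟩
        have h7 : 1 < Fintype.card F := Fintype.one_lt_card
        omega)
      have hnc : ¬ IsMulCommutative (PSp m F) := Cfsg.Agent.H686.CgPsp.psp_nonab hm2 (fun h => by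
        have : Fintype.card F ≠ 2 := fun h' => h52 ⟨h, h'⟩
        have h7 : 1 < Fintype.card F := Fintype.one_lt_card
        omega)
      refine killed_P1 (by omega) hs hnc (fun h => ?_) B hB
      rw [card_psl_eq (n := n) (by simp only [_root_.Fintype.card_sum, _root_.Fintype.card_unique, _root_.Fintype.card_fin]; omega)] at h
      exact RCo.of_RC (rc_psp hIH hm2 h52 h)
  · -- pseudo-symplectic, even dimension
    intro hc m hm l hl B hB
    have hne : ¬ (m = 2 ∧ Fintype.card F = 2) := fun h => h42 ⟨by omega, h.2⟩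
    refine killed_P2 (by omega) hne (fun h => ?_) l hl B hB
    rw [card_psl_eq (n := n) (by simp only [_root_.Fintype.card_sum, _root_.Fintype.card_fin]; omega)] at h
    exact rc_psp hIH (by omega) hne h
  · -- unitary
    intro q σ hq hσ
    by_cases h : n = 3 ∧ q = 2
    · obtain ⟨rfl, rfl⟩ := h
      have hF4 : Fintype.card F = 4 := by rw [hq]; norm_num
      exact killed_34 hF4 σ hσ (rc_psl32 hIH (card_psl3_four F hF4))
    · exact killed_U hq hn h σ hσ (fun h' => rco_psu hIH hq hn h h')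

end all

end Cfsg.Agent.H384.RC
end

private theorem dce_a2deaef5891c : _root_.True := by
  try have : _root_.True := by simp only [_root_.Cfsg.Agent.H25.RC.FT.Wm.eq_1]
  try have : _root_.True := by simp only [_root_.Cfsg.Agent.H388.RC34.scalEq.eq_1]
  try have : _root_.True := by simp only [_root_.Cfsg.Agent.H388.RC34.eqF.eq_3]
  try have : _root_.True := by simp only [_root_.Cfsg.Agent.H388.RC34.eqF.eq_2]
  try have : _root_.True := by simp only [_root_.Cfsg.Agent.H388.RC34.eqF._sparseCasesOn_2.else_eq]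
  try have : _root_.True := by simp only [_root_.Cfsg.Agent.H388.RC34.y0.eq_1]
  try have : _root_.True := by simp only [_root_.Cfsg.Agent.H388.RC34.mkU.congr_simp]
  try have : _root_.True := by simp only [_root_.Cfsg.Agent.H388.RC34.sq.eq_1]
  try have : _root_.True := by simp only [_root_.Cfsg.Agent.H388.RC34.eqF.eq_4]
  try have : _root_.True := by simp only [_root_.Cfsg.Agent.H388.RC34.T.eq_1]
  try have : _root_.True := by simp only [_root_.Cfsg.Agent.H388.RC34.cm.eq_1]
  try have : _root_.True := by simp only [_root_.Cfsg.Agent.H388.RC34.eqF._sparseCasesOn_1.else_eq]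
  try have : _root_.True := by simp only [_root_.Cfsg.Agent.H388.RC34.gl.eq_1]
  try have : _root_.True := by simp only [_root_.Cfsg.Agent.H384.RC.gramOdd.eq_1]
  try have : _root_.True := by simp only [_root_.Cfsg.Agent.H25.RC.FT.Qd.eq_1]
  try have : _root_.True := by simp only [_root_.Cfsg.Agent.H999.PslGraphOdd.rx.congr_simp]
  try have : _root_.True := by simp only [_root_.Cfsg.Agent.H388.RC34.eqF.eq_1]
  try have : _root_.True := by simp only [_root_.Cfsg.Agent.H388.RC34.p12.eq_1]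
  try have : _root_.True := by simp only [_root_.Cfsg.Agent.H25.RC.FT.eqv.eq_1]
  try have : _root_.True := by simp only [_root_.Cfsg.Agent.H388.RC34.eqM.eq_1]
  try have : _root_.True := by simp only [_root_.Cfsg.Agent.H388.RC34.Zy.eq_1]
  try have : _root_.True := by simp only [_root_.Cfsg.Agent.H388.RC34.eqF._sparseCasesOn_3.else_eq]
  try have : _root_.True := by simp only [_root_.Cfsg.Agent.H388.RC34.Un.eq_1]
  try have : _root_.True := by simp only [_root_.Cfsg.Agent.H388.RC34.units.eq_1]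
  try have : _root_.True := by simp only [_root_.Cfsg.Agent.H388.RC34.eqF._sparseCasesOn_4.else_eq]
  try have : _root_.True := by simp only [_root_.Cfsg.Agent.H25.RC.FT.Bm.eq_1]
  try have : _root_.True := by simp only [_root_.Cfsg.Agent.H388.RC34.eqF.eq_5]
  exact _root_.True.intro
end

section
prune_inst 0xfcbcf8abb881dedf7f7e3fa6d8cdfc32800fffa4dff943bfe021ef0bdf031009c5238d09e000fe0e43401400a87843fb7eeeffe26bdc7ffffd55b41ffbee0fe5f7b508119488340e280ff603f0770e6f000000000000000000000000000000000200000000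

-- part: H183/RC/Main
section
prune_inst 0x400004000000000000010000000000000800000000000000240030000000000000001000000000000000000000000000080400000000a000000000000000000000000000000000090000000000200000000000000000000000000000000000000000
set_option linter.all false
open scoped Cfsg.Agent.FastGrp

-- part: H297/RC/Classify
section
/-!
# S3510, row C, task F: commuting families of semilinear maps on a two-dimensional space

If some linear member has an eigenvector, then either all the members fix a common line, or there is an involution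
which is not linear and swaps two lines fixed by all the others.
-/

set_option autoImplicit false

open Cfsg Matrix Cfsg.Agent.H106.RC

namespace Cfsg.Agent.H183.RC

section T

variable {F : Type*} [Field F]

/-- the semilinear map of `(A, σ)` -/
def TT (A : GL (Fin 2) F) (σ : F ≃+* F) (v : Fin 2 → F) : Fin 2 → F :=
  (A : Matrix (Fin 2) (Fin 2) F) *ᵥ (fun i => σ (v i))

variable {A B : GL (Fin 2) F} {σ τ : F ≃+* F}

theorem TT_smul (c : F) (v : Fin 2 → F) : TT A σ (c • v) = σ c • TT A σ v := by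
  unfold TT
  rw [← Matrix.mulVec_smul]
  congr 1
  funext i
  simp

theorem TT_add (v w : Fin 2 → F) : TT A σ (v + w) = TT A σ v + TT A σ w := by
  unfold TT
  rw [← Matrix.mulVec_add]
  congr 1
  funext i
  simp

theorem TT_eq_zero {v : Fin 2 → F} (h : TT A σ v = 0) : v = 0 := by
  unfold TT at h
  have h1 : ((A⁻¹ : GL (Fin 2) F) : Matrix (Fin 2) (Fin 2) F) *ᵥ
      ((A : Matrix (Fin 2) (Fin 2) F) *ᵥ (fun i => σ (v i))) = 0 := by rw [h, Matrix.mulVec_zero]
  rw [Matrix.mulVec_mulVec, ← Units.val_mul, inv_mul_cancel, Units.val_one, Matrix.one_mulVec] at h1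
  funext i
  have h2 := congrFun h1 i
  simpa using h2

theorem TT_comp (v : Fin 2 → F) : TT A σ (TT B τ v) = TT (A * gmap σ B) (σ * τ) v := by
  unfold TT
  rw [Units.val_mul, ← Matrix.mulVec_mulVec]
  congr 1
  funext i
  have h1 : σ (((B : Matrix (Fin 2) (Fin 2) F) *ᵥ fun i => τ (v i)) i) =
      σ ((B : Matrix (Fin 2) (Fin 2) F) i 0 * τ (v 0) + (B : Matrix (Fin 2) (Fin 2) F) i 1 * τ (v 1)) := by
    simp [Matrix.mulVec, dotProduct, Fin.sum_univ_two]
  have h2 : ((gmap σ B : GL (Fin 2) F) : Matrix (Fin 2) (Fin 2) F) = (B : Matrix (Fin 2) (Fin 2) F).map σ := rfl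
  rw [h1, h2]
  simp only [Matrix.mulVec, dotProduct, Fin.sum_univ_two, map_add, map_mul, _root_.Fin.isValue, _root_.Matrix.map_apply, _root_.RingAut.mul_apply]

theorem TT_scal {c : F} (hA : (A : Matrix (Fin 2) (Fin 2) F) = c • (1 : Matrix (Fin 2) (Fin 2) F))
    (v : Fin 2 → F) : TT A 1 v = c • v := by
  unfold TT
  rw [hA, Matrix.smul_mulVec, Matrix.one_mulVec]
  rfl

theorem TT_congr {A' : GL (Fin 2) F} {c : F}
    (hA : (A' : Matrix (Fin 2) (Fin 2) F) = c • (A : Matrix (Fin 2) (Fin 2) F)) (v : Fin 2 → F) :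
    TT A' σ v = c • TT A σ v := by
  unfold TT
  rw [hA, Matrix.smul_mulVec]

/-- the matrix of a linear map which is scalar on a basis -/
theorem scalar_of_basis {v w : Fin 2 → F} (hvw : LinearIndependent F ![v, w]) {M : Matrix (Fin 2) (Fin 2) F} {c : F}
    (hv : M *ᵥ v = c • v) (hw : M *ᵥ w = c • w) : M = c • (1 : Matrix (Fin 2) (Fin 2) F) := by
  have hsp : Submodule.span F (Set.range ![v, w]) = ⊤ := by
    apply hvw.span_eq_top_of_card_eq_finrank'
    simp
  have h1 : Matrix.toLin' M = c • (LinearMap.id : (Fin 2 → F) →ₗ[F] (Fin 2 → F)) := by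
    apply LinearMap.ext_on hsp
    rintro _ ⟨i, rfl⟩
    fin_cases i
    · simpa only [_root_.Nat.succ_eq_add_one, _root_.Nat.reduceAdd, _root_.Fin.zero_eta, _root_.Fin.isValue, _root_.Matrix.cons_val_zero, _root_.Matrix.toLin'_apply, _root_.Matrix.mulVec_fin_two, _root_.LinearMap.smul_apply, _root_.LinearMap.id_coe, _root_.id_eq] using hv
    · simpa only [_root_.Nat.succ_eq_add_one, _root_.Nat.reduceAdd, _root_.Fin.mk_one, _root_.Fin.isValue, _root_.Matrix.cons_val_one, _root_.Matrix.cons_val_fin_one, _root_.Matrix.toLin'_apply, _root_.Matrix.mulVec_fin_two, _root_.LinearMap.smul_apply, _root_.LinearMap.id_coe, _root_.id_eq] using hw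
  apply Matrix.toLin'.injective
  rw [h1, map_smul, Matrix.toLin'_one]

end T

section main

variable {G F : Type*} [Group G] [Field F] {N : Subgroup G}

/-- the powers of a member -/
theorem exists_iter (hN : N.Normal) {e : N ≃* PS F} {g : G} {A : GL (Fin 2) F} {σ : F ≃+* F} (h : Acts e g A σ)
    (n : ℕ) : ∃ B : GL (Fin 2) F, Acts e (g ^ n) B (σ ^ n) ∧ ∀ v, (TT A σ)^[n] v = TT B (σ ^ n) v := by
  induction n with
  | zero =>
    refine ⟨1, ?_, fun v => ?_⟩
    · rw [pow_zero, pow_zero]; exact acts_one e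
    · rw [pow_zero, TT_scal (c := 1) (by simp)]
      simp
  | succ n ih =>
    obtain ⟨B, hB, hv⟩ := ih
    refine ⟨A * gmap σ B, ?_, fun v => ?_⟩
    · rw [pow_succ', pow_succ']
      exact acts_mul hN h hB
    · rw [Function.iterate_succ', Function.comp_apply, hv, TT_comp, pow_succ']

/-- `x ^ r = 1` : the `r`-th iterate is scalar -/
theorem iter_scal [Finite F] (hN : N.Normal) {e : N ≃* PS F} (h4 : 4 ≤ Nat.card F) {g : G} {A : GL (Fin 2) F} {σ : F ≃+* F}
    (h : Acts e g A σ) {n : ℕ} (hn : g ^ n = 1) : ∃ c : F, c ≠ 0 ∧ ∀ v, (TT A σ)^[n] v = c • v := by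
  obtain ⟨B, hB, hv⟩ := exists_iter hN h n
  rw [hn] at hB
  obtain ⟨h1, c, hc, h2⟩ := acts_uniq hN h4 (acts_one e) hB
  refine ⟨c, hc, fun v => ?_⟩
  rw [hv, ← h1]
  exact TT_scal (by rw [h2]; simp) v

/-- the iterates of a map swapping two lines -/
theorem iter_swap {A : GL (Fin 2) F} {σ : F ≃+* F} {v w : Fin 2 → F} {c d : F} (hc : c ≠ 0) (hd : d ≠ 0)
    (hv : TT A σ v = c • w) (hw : TT A σ w = d • v) (n : ℕ) :
    (∃ a : F, a ≠ 0 ∧ (TT A σ)^[2 * n] v = a • v) ∧ ∃ a : F, a ≠ 0 ∧ (TT A σ)^[2 * n + 1] v = a • w := by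
  induction n with
  | zero =>
    refine ⟨⟨1, one_ne_zero, by simp⟩, ⟨c, hc, by simpa using hv⟩⟩
  | succ n ih =>
    obtain ⟨-, a, ha, h1⟩ := ih
    have h2 : (TT A σ)^[2 * (n + 1)] v = (σ a * d) • v := by
      have : 2 * (n + 1) = (2 * n + 1) + 1 := by ring
      rw [this, Function.iterate_succ', Function.comp_apply, h1, TT_smul, hw, smul_smul]
    have h3 : σ a * d ≠ 0 := mul_ne_zero ((map_ne_zero σ).2 ha) hd
    refine ⟨⟨_, h3, h2⟩, σ (σ a * d) * c, mul_ne_zero ((map_ne_zero σ).2 h3) hc, ?_⟩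
    rw [Function.iterate_succ', Function.comp_apply, h2, TT_smul, hv, smul_smul]

/-- classification of the commuting families -/
theorem classify {G F ι : Type*} [Group G] [Field F] [Finite F] {N : Subgroup G} (hN : N.Normal)
    (hc : Subgroup.centralizer (N : Set G) = ⊥) (e : N ≃* PS F) (h4 : 4 ≤ Nat.card F)
    (x : ι → G) (r : ι → ℕ) (h : PF x r) (A : ι → GL (Fin 2) F) (σ : ι → F ≃+* F)
    (hA : ∀ i, Acts e (x i) (A i) (σ i)) :
    (∃ v : Fin 2 → F, v ≠ 0 ∧ ∀ i, FixL (A i) (σ i) v) ∨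
    (∀ i, σ i = 1 → NoEig (A i)) ∨
    ∃ k, σ k ≠ 1 ∧ r k = 2 ∧ ∃ v w : Fin 2 → F, LinearIndependent F ![v, w] ∧
      (∀ i, i ≠ k → FixL (A i) (σ i) v ∧ FixL (A i) (σ i) w) ∧
      (∃ c : F, (A k : Matrix (Fin 2) (Fin 2) F) *ᵥ (fun i => σ k (v i)) = c • w) ∧
      (∃ c : F, (A k : Matrix (Fin 2) (Fin 2) F) *ᵥ (fun i => σ k (w i)) = c • v) := by
  classical
  by_cases hj : ∀ i, σ i = 1 → NoEig (A i)
  · exact Or.inr (Or.inl hj)
  push Not at hj
  obtain ⟨j, hj1, hj2⟩ := hj
  unfold NoEig at hj2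
  push Not at hj2
  obtain ⟨α, v, hv0, hv⟩ := hj2
  have h1ap : ∀ a : F, (1 : F ≃+* F) a = a := fun _ => rfl
  -- commutation
  have hcomm : ∀ i, ∃ c : F, c ≠ 0 ∧ ∀ u, TT (A j) 1 (TT (A i) (σ i) u) = c • TT (A i) (σ i) (TT (A j) 1 u) := by
    intro i
    obtain ⟨h1, c, hc0, h2⟩ := acts_comm hN h4 (hA i) (hA j) (h.comm i j)
    refine ⟨c, hc0, fun u => ?_⟩
    have h3 := TT_comp (A := A j) (σ := σ j) (B := A i) (τ := σ i) u
    have h4 := TT_comp (A := A i) (σ := σ i) (B := A j) (τ := σ j) u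
    rw [hj1] at h1 h3 h4 h2
    rw [h3, h4, TT_congr h2, h1]
  have hTv : TT (A j) 1 v = α • v := hv
  have hAj : Acts e (x j) (A j) 1 := hj1 ▸ hA j
  -- images of eigenvectors are eigenvectors
  have himg : ∀ i {u : Fin 2 → F} {β : F}, TT (A j) 1 u = β • u →
      ∃ γ : F, TT (A j) 1 (TT (A i) (σ i) u) = γ • TT (A i) (σ i) u := by
    intro i u β hu
    obtain ⟨c, -, h1⟩ := hcomm i
    refine ⟨c * σ i β, ?_⟩
    rw [h1, hu, TT_smul, smul_smul]
  by_cases h1 : ∀ u : Fin 2 → F, ∀ β : F, TT (A j) 1 u = β • u → ∃ a : F, u = a • v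
  · -- one eigenline
    left
    refine ⟨v, hv0, fun i => ?_⟩
    obtain ⟨γ, hγ⟩ := himg i hTv
    obtain ⟨a, ha⟩ := h1 _ _ hγ
    exact ⟨a, ha⟩
  push Not at h1
  obtain ⟨w, β, hw, hwv⟩ := h1
  have hvw : LinearIndependent F ![v, w] := by
    rw [LinearIndependent.pair_iff' hv0]
    intro a ha
    exact hwv a ha.symm
  have hw0 : w ≠ 0 := by
    rintro rfl
    exact hwv 0 (by simp)
  have hindv : ∀ a b : F, a • v = b • w → a = 0 ∧ b = 0 := by
    intro a b hab
    have h2 := LinearIndependent.pair_iff.1 hvw a (-b) (by rw [hab]; simp)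
    exact ⟨h2.1, by simpa using h2.2⟩
  have hαβ : α ≠ β := by
    rintro rfl
    exact h.ne j (acts_triv hN hc hAj α (scalar_of_basis hvw hv hw))
  -- eigenvectors
  have heig : ∀ (u : Fin 2 → F) (γ : F), TT (A j) 1 u = γ • u → (∃ a : F, u = a • v) ∨ ∃ a : F, u = a • w := by
    intro u γ hu
    have hsp : Submodule.span F (Set.range ![v, w]) = ⊤ := by
      apply hvw.span_eq_top_of_card_eq_finrank'
      simp
    have hu' : u ∈ Submodule.span F (Set.range ![v, w]) := by rw [hsp]; trivial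
    rw [Matrix.range_cons, Matrix.range_cons, Matrix.range_empty, Set.union_empty, Set.singleton_union,
      Submodule.mem_span_pair] at hu'
    obtain ⟨a, b, rfl⟩ := hu'
    rw [TT_add, TT_smul, TT_smul, hTv, hw] at hu
    have h2 : (a * α - γ * a) • v = (γ * b - b * β) • w := by
      have h3 : (a * α - γ * a) • v - (γ * b - b * β) • w =
          (((1 : F ≃+* F) a) • α • v + ((1 : F ≃+* F) b) • β • w) - γ • (a • v + b • w) := by
        simp only [h1ap]
        module
      rw [hu, sub_self] at h3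
      exact sub_eq_zero.1 h3
    obtain ⟨h3, h5⟩ := hindv _ _ h2
    by_cases ha : a = 0
    · right; exact ⟨b, by rw [ha]; simp⟩
    · left
      have h6 : α = γ := by
        have : a * (α - γ) = 0 := by linear_combination h3
        exact sub_eq_zero.1 ((mul_eq_zero.1 this).resolve_left ha)
      have h7 : b = 0 := by
        have : b * (α - β) = 0 := by linear_combination h5 + b * h6
        exact (mul_eq_zero.1 this).resolve_right (sub_ne_zero.2 hαβ)
      exact ⟨a, by rw [h7]; simp⟩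
  -- images of dependent vectors
  have hdep : ∀ i {u u' t : Fin 2 → F} {a b : F}, LinearIndependent F ![u, u'] → TT (A i) (σ i) u = a • t →
      TT (A i) (σ i) u' = b • t → False := by
    intro i u u' t a b hli hu hu'
    have h2 : TT (A i) (σ i) (((σ i).symm b) • u + (-(σ i).symm a) • u') = 0 := by
      rw [TT_add, TT_smul, TT_smul, hu, hu', map_neg, RingEquiv.apply_symm_apply, RingEquiv.apply_symm_apply,
        smul_smul, smul_smul, ← add_smul]
      have : b * a + -a * b = 0 := by ring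
      rw [this, zero_smul]
    have h3 := LinearIndependent.pair_iff.1 hli _ _ (TT_eq_zero h2)
    have h6 : a = 0 := by simpa using h3.2
    have h7 : TT (A i) (σ i) u = 0 := by rw [hu, h6, zero_smul]
    have h8 := TT_eq_zero h7
    exact (hli.ne_zero 0) h8
  have hwv' : LinearIndependent F ![w, v] := by
    rw [LinearIndependent.pair_iff' hw0]
    intro a ha
    by_cases ha0 : a = 0
    · rw [ha0, zero_smul] at ha; exact hv0 ha.symm
    · exact hwv a⁻¹ (by rw [← ha, smul_smul, inv_mul_cancel₀ ha0, one_smul])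
  -- every map fixes both lines or swaps them
  have hdich : ∀ i, ((∃ a : F, TT (A i) (σ i) v = a • v) ∧ ∃ a : F, TT (A i) (σ i) w = a • w) ∨
      ((∃ a : F, a ≠ 0 ∧ TT (A i) (σ i) v = a • w) ∧ ∃ a : F, a ≠ 0 ∧ TT (A i) (σ i) w = a • v) := by
    intro i
    obtain ⟨γ, hγ⟩ := himg i hTv
    obtain ⟨δ, hδ⟩ := himg i hw
    have hne : ∀ {u t : Fin 2 → F} {a : F}, u ≠ 0 → TT (A i) (σ i) u = a • t → a ≠ 0 := by
      intro u t a hu ht ha
      rw [ha, zero_smul] at ht
      exact hu (TT_eq_zero ht)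
    rcases heig _ _ hγ with ⟨a, ha⟩ | ⟨a, ha⟩ <;> rcases heig _ _ hδ with ⟨b, hb⟩ | ⟨b, hb⟩
    · exact (hdep i hvw ha hb).elim
    · exact Or.inl ⟨⟨a, ha⟩, ⟨b, hb⟩⟩
    · exact Or.inr ⟨⟨a, hne hv0 ha, ha⟩, ⟨b, hne hw0 hb, hb⟩⟩
    · exact (hdep i hvw ha hb).elim
  by_cases hall : ∀ i, ∃ a : F, TT (A i) (σ i) v = a • v
  · exact Or.inl ⟨v, hv0, hall⟩
  push Not at hall
  obtain ⟨k, hk⟩ := hall
  -- a swapping member has order two
  have hodd : ∀ i, (∀ a : F, TT (A i) (σ i) v ≠ a • v) → r i = 2 := by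
    intro i hi
    rcases hdich i with ⟨⟨a, ha⟩, -⟩ | ⟨⟨a, ha0, ha⟩, b, hb0, hb⟩
    · exact (hi a ha).elim
    rcases (h.prime i).eq_two_or_odd' with h2 | h2
    · exact h2
    · exfalso
      obtain ⟨m, hm⟩ := h2
      obtain ⟨c, hc0, h3⟩ := iter_scal hN h4 (hA i) (h.pow i)
      obtain ⟨d, hd0, h5⟩ := (iter_swap ha0 hb0 ha hb m).2
      have h6 := h3 v
      rw [hm, h5] at h6
      exact hd0 (hindv _ _ h6.symm).2
  have hrk := hodd k hk
  right; right
  rcases hdich k with ⟨⟨a, ha⟩, -⟩ | ⟨⟨a, ha0, ha⟩, b, hb0, hb⟩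
  · exact (hk a ha).elim
  refine ⟨k, ?_, hrk, v, w, hvw, fun i hi => ?_, ⟨a, ha⟩, ⟨b, hb⟩⟩
  · -- the swapping member is not linear
    intro hσk
    obtain ⟨c, hc0, h2⟩ := hcomm k
    rw [hσk] at ha hb h2
    -- on `v`
    have h3 := h2 v
    rw [ha, hTv, TT_smul, hw, TT_smul, ha] at h3
    have h5 := h2 w
    rw [hb, hw, TT_smul, hTv, TT_smul, hb] at h5
    simp only [h1ap] at h3 h5
    have h6 : β = c * α := by
      have : (a * β) • w = (c * (α * a)) • w := by
        rw [mul_smul, h3, mul_smul, mul_smul]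
      have h7 := smul_left_injective F hw0 this
      have h8 : a * (β - c * α) = 0 := by linear_combination h7
      exact sub_eq_zero.1 ((mul_eq_zero.1 h8).resolve_left ha0)
    have h7 : α = c * β := by
      have : (b * α) • v = (c * (β * b)) • v := by
        rw [mul_smul, h5, mul_smul, mul_smul]
      have h7 := smul_left_injective F hv0 this
      have h8 : b * (α - c * β) = 0 := by linear_combination h7
      exact sub_eq_zero.1 ((mul_eq_zero.1 h8).resolve_left hb0)
    have h8 : α ^ 2 = β ^ 2 := by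
      linear_combination α * h7 - β * h6
    -- `A j ^ 2` is scalar
    have h9 : x j ^ 2 = 1 := by
      refine acts_triv hN hc (acts_pow hN hAj 2) (α ^ 2) (scalar_of_basis hvw ?_ ?_)
      · rw [Units.val_pow_eq_pow_val, sq, ← Matrix.mulVec_mulVec]
        have : (A j : Matrix (Fin 2) (Fin 2) F) *ᵥ v = α • v := hv
        rw [this, Matrix.mulVec_smul, this, smul_smul, sq]
      · rw [Units.val_pow_eq_pow_val, sq, ← Matrix.mulVec_mulVec]
        have : (A j : Matrix (Fin 2) (Fin 2) F) *ᵥ w = β • w := hw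
        rw [this, Matrix.mulVec_smul, this, smul_smul, h8, sq]
    have h10 : r j = 2 := by
      have : Fact (r j).Prime := ⟨h.prime j⟩
      have h11 : orderOf (x j) = r j := orderOf_eq_prime (h.pow j) (h.ne j)
      have h12 : orderOf (x j) ∣ 2 := orderOf_dvd_of_pow_eq_one h9
      rw [h11] at h12
      exact (Nat.prime_dvd_prime_iff_eq (h.prime j) Nat.prime_two).1 h12
    have h13 : j = k := h.inj (h10.trans hrk.symm)
    subst h13
    rw [hTv] at ha
    exact hk α (by rw [hσk]; exact hTv)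
  · by_cases h2 : ∃ a : F, TT (A i) (σ i) v = a • v
    · rcases hdich i with h3 | ⟨⟨c, hc0, h3⟩, -⟩
      · exact ⟨h3.1, h3.2⟩
      · exfalso
        obtain ⟨d, hd⟩ := h2
        rw [hd] at h3
        exact hc0 (hindv _ _ h3).2
    · push Not at h2
      exact (hi (h.inj ((hodd i h2).trans hrk.symm))).elim

end main

end Cfsg.Agent.H183.RC
end

-- part: H188/RC/MCase
section
/-!
# S3510, row C, box G `mcase` (helper188)

`mcase_of` : the statement `mcase`, with box C (`partI`, helper183) as the hypothesis `StPartI`.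
-/

set_option autoImplicit false

open Cfsg Matrix Cfsg.Agent.H106.RC Cfsg.Agent.H183.RC MulAction

namespace Cfsg.Agent.H188.RC

/-! ### Standard form of a field automorphism -/

section chg

variable {G F : Type*} [Group G] [Field F] {N : Subgroup G}

/-- iterated products -/
def itm (A : GL (Fin 2) F) (σ : F ≃+* F) : ℕ → GL (Fin 2) F
  | 0 => 1
  | n + 1 => A * gmap σ (itm A σ n)

theorem acts_itm (hN : N.Normal) {e : N ≃* PS F} {g : G} {A : GL (Fin 2) F} {σ : F ≃+* F}
    (h : Acts e g A σ) (n : ℕ) : Acts e (g ^ n) (itm A σ n) (σ ^ n) := by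
  induction n with
  | zero => rw [pow_zero, pow_zero]; exact acts_one e
  | succ n ih => rw [pow_succ', pow_succ']; exact acts_mul hN h ih

/-- the semilinear map -/
def sl (A : GL (Fin 2) F) (σ : F ≃+* F) (v : Fin 2 → F) : Fin 2 → F :=
  (A : Matrix (Fin 2) (Fin 2) F) *ᵥ (fun i => σ (v i))

theorem map_mulVec' (σ : F ≃+* F) (B : Matrix (Fin 2) (Fin 2) F) (v : Fin 2 → F) :
    (fun i => σ ((B *ᵥ v) i)) = B.map σ *ᵥ (fun i => σ (v i)) := by
  funext i
  exact RingHom.map_mulVec (σ : F →+* F) B v i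

theorem sl_iter (A : GL (Fin 2) F) (σ : F ≃+* F) (n : ℕ) (v : Fin 2 → F) :
    (sl A σ)^[n] v = (itm A σ n : Matrix (Fin 2) (Fin 2) F) *ᵥ (fun i => (σ ^ n) (v i)) := by
  induction n with
  | zero => simp [itm]
  | succ n ih =>
    rw [Function.iterate_succ_apply', ih, sl, map_mulVec', Matrix.mulVec_mulVec]
    rw [pow_succ']
    rfl

theorem sl_add (A : GL (Fin 2) F) (σ : F ≃+* F) (v w : Fin 2 → F) : sl A σ (v + w) = sl A σ v + sl A σ w := by
  rw [sl, sl, sl, ← Matrix.mulVec_add]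
  congr 1
  funext i
  exact map_add σ _ _

theorem sl_smul (A : GL (Fin 2) F) (σ : F ≃+* F) (a : F) (v : Fin 2 → F) : sl A σ (a • v) = σ a • sl A σ v := by
  rw [sl, sl, ← Matrix.mulVec_smul]
  congr 1
  funext i
  exact map_mul σ _ _

/-- as an additive equivalence -/
def slE (A : GL (Fin 2) F) (σ : F ≃+* F) : (Fin 2 → F) ≃+ (Fin 2 → F) where
  toFun := sl A σ
  invFun v := fun i => σ.symm ((((A⁻¹ : GL (Fin 2) F) : Matrix (Fin 2) (Fin 2) F) *ᵥ v) i)
  left_inv v := by
    funext i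
    show σ.symm ((((A⁻¹ : GL (Fin 2) F) : Matrix (Fin 2) (Fin 2) F) *ᵥ
      ((A : Matrix (Fin 2) (Fin 2) F) *ᵥ fun i => σ (v i))) i) = v i
    rw [Matrix.mulVec_mulVec, ← Units.val_mul, inv_mul_cancel, Units.val_one, Matrix.one_mulVec,
      RingEquiv.symm_apply_apply]
  right_inv v := by
    rw [sl]
    simp only [RingEquiv.apply_symm_apply]
    rw [Matrix.mulVec_mulVec, ← Units.val_mul, mul_inv_cancel, Units.val_one, Matrix.one_mulVec]
  map_add' := sl_add A σ

/-- change of basis to the standard field automorphism -/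
theorem exists_std [Finite F] (hN : N.Normal) (e : N ≃* PS F) (h4 : 4 ≤ Nat.card F) {g : G}
    {A : GL (Fin 2) F} {σ : F ≃+* F} (h : Acts e g A σ) (hσ : σ ≠ 1) {r : ℕ} (hr : r.Prime) (hg : g ^ r = 1) :
    σ ^ r = 1 ∧ ∃ (P : GL (Fin 2) F) (c : F), c ≠ 0 ∧
      ((P * A * (gmap σ P)⁻¹ : GL (Fin 2) F) : Matrix (Fin 2) (Fin 2) F) = c • (1 : Matrix (Fin 2) (Fin 2) F) := by
  have h1 := acts_itm hN h r
  rw [hg] at h1
  obtain ⟨h2, c, hc, h3⟩ := acts_uniq hN h4 (acts_one e) h1
  have hσr : σ ^ r = 1 := h2.symm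
  refine ⟨hσr, ?_⟩
  have hord : orderOf σ = r := orderOf_eq_prime hσr hσ (hp := ⟨hr⟩)
  have hiter : ∀ v, (slE A σ : (Fin 2 → F) → (Fin 2 → F))^[r] v = c • v := by
    intro v
    have h4 := sl_iter A σ r v
    rw [hσr, h3] at h4
    refine h4.trans ?_
    rw [Units.val_one, Matrix.smul_mulVec, Matrix.one_mulVec]
    rfl
  obtain ⟨a, ha, b, hb⟩ := descent σ r hr.pos hord (slE A σ) (sl_smul A σ) c hiter
  let b' : Module.Basis (Fin 2) F (Fin 2 → F) := b.reindex (finCongr (by simp))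
  have hb' : ∀ i, a • sl A σ (b' i) = b' i := by
    intro i
    rw [Module.Basis.reindex_apply]
    exact hb _
  let B : GL (Fin 2) F := ⟨(Pi.basisFun F (Fin 2)).toMatrix b', b'.toMatrix (Pi.basisFun F (Fin 2)),
    Module.Basis.toMatrix_mul_toMatrix_flip _ _, Module.Basis.toMatrix_mul_toMatrix_flip _ _⟩
  have hBcol : ∀ i j, (B : Matrix (Fin 2) (Fin 2) F) i j = b' j i := fun i j => rfl
  have key : (A : Matrix (Fin 2) (Fin 2) F) * (gmap σ B : Matrix (Fin 2) (Fin 2) F) =
      a⁻¹ • (B : Matrix (Fin 2) (Fin 2) F) := by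
    ext i j
    have h5 : ((A : Matrix (Fin 2) (Fin 2) F) * (gmap σ B : Matrix (Fin 2) (Fin 2) F)) i j = sl A σ (b' j) i := by
      rw [Matrix.mul_apply]
      rfl
    rw [h5, Matrix.smul_apply, hBcol]
    have h6 := congrFun (hb' j) i
    rw [← h6, Pi.smul_apply, smul_eq_mul, smul_eq_mul, ← mul_assoc, inv_mul_cancel₀ ha, one_mul]
  refine ⟨B⁻¹, a⁻¹, inv_ne_zero ha, ?_⟩
  have hinv : (gmap σ B⁻¹)⁻¹ = gmap σ B := by rw [← inv_inv (gmap σ B)]; rfl
  rw [hinv, Units.val_mul, Units.val_mul, mul_assoc, key, Matrix.mul_smul, ← Units.val_mul,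
    inv_mul_cancel, Units.val_one]

end chg

/-! ### The subfield subgroup -/

section sub

variable {G F : Type*} [Group G] [Field F] {N : Subgroup G} {K : Subfield F}

/-- extension of scalars -/
abbrev sm (K : Subfield F) : SL K →* SL F := Matrix.SpecialLinearGroup.map K.subtype

theorem sm_apply (s : SL K) (i j : Fin 2) : (sm K s : Matrix (Fin 2) (Fin 2) F) i j =
    ((s : Matrix (Fin 2) (Fin 2) K) i j : F) := rfl

theorem sm_injective : Function.Injective (sm K) := by
  intro s t h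
  ext i j
  have h1 := congrArg (fun u : SL F => (u : Matrix (Fin 2) (Fin 2) F) i j) h
  exact h1

/-- the subfield subgroup as a homomorphism -/
def psi (e : N ≃* PS F) (K : Subfield F) : SL K →* G :=
  N.subtype.comp (e.symm.toMonoidHom.comp ((QuotientGroup.mk' (Subgroup.center (SL F))).comp (sm K)))

theorem psi_mem (e : N ≃* PS F) (s : SL K) : psi e K s ∈ N := SetLike.coe_mem _

theorem e_psi (e : N ≃* PS F) (s : SL K) : e ⟨psi e K s, psi_mem e s⟩ = QuotientGroup.mk (sm K s) :=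
  e.apply_symm_apply _

theorem psi_eq_iff (e : N ≃* PS F) {s : SL K} {n : N} (h : e n = QuotientGroup.mk (sm K s)) :
    psi e K s = n := by
  have h1 : (⟨psi e K s, psi_mem e s⟩ : N) = n := e.injective (by rw [e_psi, h])
  exact congrArg Subtype.val h1

theorem sm_center {s : SL K} : sm K s ∈ Subgroup.center (SL F) ↔ s ∈ Subgroup.center (SL K) := by
  constructor
  · intro h
    rw [Subgroup.mem_center_iff] at h ⊢
    intro t
    apply sm_injective
    rw [map_mul, map_mul]
    exact h _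
  · intro h
    rw [Matrix.SpecialLinearGroup.mem_center_iff] at h ⊢
    obtain ⟨r, hr, hs⟩ := h
    refine ⟨(r : F), ?_, ?_⟩
    · exact congrArg (Subtype.val) hr
    · ext i j
      rw [sm_apply, ← hs, Matrix.scalar_apply, Matrix.scalar_apply, Matrix.diagonal_apply, Matrix.diagonal_apply]
      split_ifs <;> rfl

theorem psi_ker (e : N ≃* PS F) : (psi e K).ker = Subgroup.center (SL K) := by
  ext s
  rw [MonoidHom.mem_ker, ← sm_center]
  show ((e.symm (QuotientGroup.mk (sm K s)) : N) : G) = 1 ↔ _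
  rw [OneMemClass.coe_eq_one, EmbeddingLike.map_eq_one_iff, QuotientGroup.eq_one_iff]

/-- the conjugate of `s` by a semilinear map -/
def cj (C : GL (Fin 2) K) (τ : K ≃+* K) (s : SL K) : SL K :=
  ⟨(C : Matrix (Fin 2) (Fin 2) K) * (s : Matrix (Fin 2) (Fin 2) K).map τ *
    ((C⁻¹ : GL (Fin 2) K) : Matrix (Fin 2) (Fin 2) K), by
    have h1 : ((s : Matrix (Fin 2) (Fin 2) K).map τ).det = 1 := by
      have := Matrix.SpecialLinearGroup.det_coe (Matrix.SpecialLinearGroup.map (τ : K →+* K) s)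
      exact this
    rw [Matrix.det_mul, Matrix.det_mul, h1, mul_one, ← Matrix.det_mul, ← Units.val_mul, mul_inv_cancel,
      Units.val_one, Matrix.det_one]⟩

theorem psi_conj (hN : N.Normal) {e : N ≃* PS F} {g : G} {A : GL (Fin 2) F} {σ : F ≃+* F} (h : Acts e g A σ)
    (C : GL (Fin 2) K) (τ : K ≃+* K) (hC : ∀ i j, (A : Matrix (Fin 2) (Fin 2) F) i j = (C : Matrix (Fin 2) (Fin 2) K) i j)
    (hτ : ∀ a : K, σ (a : F) = (τ a : K)) (s : SL K) : g * psi e K s * g⁻¹ = psi e K (cj C τ s) := by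
  symm
  refine psi_eq_iff (n := ⟨g * psi e K s * g⁻¹, hN.conj_mem _ (psi_mem e s) g⟩) e ?_
  refine h ⟨psi e K s, psi_mem e s⟩ _ (sm K s) _ rfl ?_ (e_psi e s)
  have hCm : (A : Matrix (Fin 2) (Fin 2) F) = (C : Matrix (Fin 2) (Fin 2) K).map K.subtype := by
    ext i j; exact hC i j
  have hCi : ((A⁻¹ : GL (Fin 2) F) : Matrix (Fin 2) (Fin 2) F) =
      ((C⁻¹ : GL (Fin 2) K) : Matrix (Fin 2) (Fin 2) K).map K.subtype := by
    have h1 : A = Matrix.GeneralLinearGroup.map K.subtype C := Units.ext hCm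
    rw [h1, ← map_inv]
    rfl
  have hs : (sm K s : Matrix (Fin 2) (Fin 2) F).map σ = ((s : Matrix (Fin 2) (Fin 2) K).map τ).map K.subtype := by
    ext i j
    exact hτ _
  rw [hCi, hs]
  conv_rhs => rw [hCm]
  rw [← RingHom.mapMatrix_apply, ← RingHom.mapMatrix_apply, ← RingHom.mapMatrix_apply, ← map_mul, ← map_mul]
  rfl

end sub

/-! ### Galois theory -/

/-- a perfect nontrivial group is not commutative -/
theorem not_comm_of_perfect {X : Type*} [Group X] [Nontrivial X] (h : commutator X = ⊤) : ¬ IsMulCommutative X := by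
  intro hc
  have h3 : commutator X = ⊥ := by
    rw [commutator_def, Subgroup.commutator_eq_bot_iff_le_centralizer]
    intro x _
    rw [Subgroup.mem_centralizer_iff]
    intro y _
    exact hc.is_comm.comm y x
  rw [h] at h3
  exact top_ne_bot h3

theorem not_comm_ps {K : Type*} [Field K] [Finite K] (h4 : 4 ≤ Nat.card K) : ¬ IsMulCommutative (PS K) := by
  let _ : Fintype K := Fintype.ofFinite K
  have h3 : 3 < Fintype.card K := by rw [← Nat.card_eq_fintype_card]; omega
  have hs : IsSimpleGroup (PS K) := Cfsg.Agent.TwoFusion.SLTwoFacts.isSimpleGroup_psl h3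
  have := hs.toNontrivial
  apply not_comm_of_perfect
  have h1 := Cfsg.Agent.TwoFusion.SLTwoFacts.commutator_eq_top h3
  have h2 : (commutator (SL K)).map (QuotientGroup.mk' (Subgroup.center (SL K))) = ⊤ := by
    rw [h1, ← MonoidHom.range_eq_map]
    exact MonoidHom.range_eq_top.mpr (QuotientGroup.mk'_surjective _)
  rw [eq_top_iff]
  have h5 : (⊤ : Subgroup (PS K)) = (commutator (SL K)).map (QuotientGroup.mk' (Subgroup.center (SL K))) := h2.symm
  rw [h5, commutator_def, Subgroup.map_commutator]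
  exact Subgroup.commutator_mono le_top le_top

/-- the scalar part over `K` -/
theorem uniq_sub {K : Type*} [Field K] [Finite K] (h4 : 4 ≤ Nat.card K) {C : GL (Fin 2) K} {τ : K ≃+* K}
    (h : ∀ s s' : SL K, (s' : Matrix (Fin 2) (Fin 2) K) = (C : Matrix (Fin 2) (Fin 2) K) *
      (s : Matrix (Fin 2) (Fin 2) K).map τ * ((C⁻¹ : GL (Fin 2) K) : Matrix (Fin 2) (Fin 2) K) →
      s⁻¹ * s' ∈ Subgroup.center (SL K)) :
    τ = 1 ∧ ∃ c : K, c ≠ 0 ∧ (C : Matrix (Fin 2) (Fin 2) K) = c • (1 : Matrix (Fin 2) (Fin 2) K) := by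
  have h1 : (Acts (Subgroup.topEquiv : (⊤ : Subgroup (PS K)) ≃* PS K) (1 : PS K) C τ :) := by
    intro n n' s s' hn hs hns
    have h2 : n' = n := by
      apply Subtype.ext
      rw [hn, one_mul, inv_one, mul_one]
    rw [h2, hns]
    exact QuotientGroup.eq.mpr (h s s' hs)
  obtain ⟨h2, c, hc, h3⟩ := acts_uniq inferInstance h4 (acts_one (Subgroup.topEquiv : (⊤ : Subgroup (PS K)) ≃* PS K)) h1
  exact ⟨h2.symm, c, hc, h3⟩

theorem mem_zpowers_of_fix {F : Type*} [Field F] [Finite F] {σ τ : F ≃+* F} (h : ∀ a, σ a = a → τ a = a) :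
    τ ∈ Subgroup.zpowers σ := by
  classical
  have hfin : Finite (F ≃+* F) := Finite.of_injective (fun e : F ≃+* F => (e : F → F)) DFunLike.coe_injective
  let τ' : F →ₐ[FixedPoints.subfield (Subgroup.zpowers σ) F] F :=
    { (τ : F →+* F) with
      commutes' := fun a => by
        have ha : σ (a : F) = a := a.2 ⟨σ, Subgroup.mem_zpowers σ⟩
        exact h _ ha }
  obtain ⟨g, hg⟩ := (FixedPoints.toAlgHom_bijective (Subgroup.zpowers σ) F).surjective τ'
  have h1 : (g : F ≃+* F) = τ := by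
    ext a
    exact congrArg (fun f : F →ₐ[FixedPoints.subfield (Subgroup.zpowers σ) F] F => f a) hg
  rw [← h1]
  exact g.2

/-- restriction to the fixed field of a commuting automorphism -/
theorem exists_restrict {F : Type*} [Field F] {σ τ : F ≃+* F} (hc : σ * τ = τ * σ) {K : Subfield F}
    (hK : ∀ a : F, a ∈ K ↔ σ a = a) : ∃ τ' : K ≃+* K, ∀ a : K, τ (a : F) = (τ' a : K) := by
  have h1 : ∀ a : F, σ (τ a) = τ (σ a) := fun a => congrArg (fun f : F ≃+* F => f a) hc
  have h2 : ∀ a : F, σ (τ.symm a) = τ.symm (σ a) := by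
    intro a
    apply τ.injective
    rw [← h1, RingEquiv.apply_symm_apply, RingEquiv.apply_symm_apply]
  refine ⟨{ toFun := fun a => ⟨τ a, (hK _).mpr (by rw [h1, (hK _).mp a.2])⟩
            invFun := fun a => ⟨τ.symm a, (hK _).mpr (by rw [h2, (hK _).mp a.2])⟩
            left_inv := fun a => Subtype.ext (τ.symm_apply_apply _)
            right_inv := fun a => Subtype.ext (τ.apply_symm_apply _)
            map_mul' := fun a b => Subtype.ext (map_mul τ _ _)
            map_add' := fun a b => Subtype.ext (map_add τ _ _) }, fun a => rfl⟩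

/-- rational matrices -/
theorem exists_rational {F : Type*} [Field F] {σ : F ≃+* F} {K : Subfield F} (hK : ∀ a : F, a ∈ K ↔ σ a = a)
    {A : GL (Fin 2) F} {c : F} (hc : c ≠ 0)
    (h : (A : Matrix (Fin 2) (Fin 2) F) = c • (A : Matrix (Fin 2) (Fin 2) F).map σ) :
    ∃ (C : GL (Fin 2) K) (a : F), a ≠ 0 ∧
      ∀ i j, ((C : Matrix (Fin 2) (Fin 2) K) i j : F) = a * (A : Matrix (Fin 2) (Fin 2) F) i j := by
  have hdet : (A : Matrix (Fin 2) (Fin 2) F).det ≠ 0 := by
    have h1 : IsUnit (A : Matrix (Fin 2) (Fin 2) F).det := (Matrix.isUnit_iff_isUnit_det _).mp A.isUnit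
    exact h1.ne_zero
  obtain ⟨p, q, hpq⟩ : ∃ p q, (A : Matrix (Fin 2) (Fin 2) F) p q ≠ 0 := by
    by_contra hno
    push Not at hno
    apply hdet
    simp [Matrix.det_fin_two, hno]
  set a := (A : Matrix (Fin 2) (Fin 2) F) p q with ha
  have hent : ∀ i j, σ ((A : Matrix (Fin 2) (Fin 2) F) i j) = c⁻¹ * (A : Matrix (Fin 2) (Fin 2) F) i j := by
    intro i j
    have h1 := congrFun (congrFun h i) j
    rw [Matrix.smul_apply, Matrix.map_apply, smul_eq_mul] at h1
    conv_rhs => rw [h1]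
    rw [← mul_assoc, inv_mul_cancel₀ hc, one_mul]
  have hfix : ∀ i j, σ (a⁻¹ * (A : Matrix (Fin 2) (Fin 2) F) i j) = a⁻¹ * (A : Matrix (Fin 2) (Fin 2) F) i j := by
    intro i j
    rw [map_mul, map_inv₀, ha, hent, hent]
    field_simp
  let C : Matrix (Fin 2) (Fin 2) K := Matrix.of fun i j => ⟨a⁻¹ * (A : Matrix (Fin 2) (Fin 2) F) i j, (hK _).mpr (hfix i j)⟩
  have hC : C.det ≠ 0 := by
    intro h0
    apply hdet
    have h1 := congrArg Subtype.val h0
    rw [Matrix.det_fin_two] at h1 ⊢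
    have h2 : (a⁻¹ * (A : Matrix (Fin 2) (Fin 2) F) 0 0) * (a⁻¹ * (A : Matrix (Fin 2) (Fin 2) F) 1 1) -
        (a⁻¹ * (A : Matrix (Fin 2) (Fin 2) F) 0 1) * (a⁻¹ * (A : Matrix (Fin 2) (Fin 2) F) 1 0) = 0 := h1
    have h3 : a⁻¹ * a⁻¹ * ((A : Matrix (Fin 2) (Fin 2) F) 0 0 * (A : Matrix (Fin 2) (Fin 2) F) 1 1 -
        (A : Matrix (Fin 2) (Fin 2) F) 0 1 * (A : Matrix (Fin 2) (Fin 2) F) 1 0) = 0 := by
      rw [← h2]; ring
    rcases mul_eq_zero.mp h3 with h4 | h4
    · exfalso
      exact mul_ne_zero (inv_ne_zero hpq) (inv_ne_zero hpq) h4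
    · exact h4
  exact ⟨Matrix.GeneralLinearGroup.mkOfDetNeZero C hC, a⁻¹, inv_ne_zero hpq, fun i j => rfl⟩

/-! ### An element of `M` fixing a line -/

/-- diagonal matrices -/
def dg {K : Type*} [Field K] (u : Kˣ) : SL K :=
  ⟨!![(u : K), 0; 0, ((u⁻¹ : Kˣ) : K)], by rw [Matrix.det_fin_two_of]; simp⟩

theorem dg_mul {K : Type*} [Field K] (u v : Kˣ) : dg (u * v) = dg u * dg v := by
  ext i j
  rw [Matrix.SpecialLinearGroup.coe_mul, Matrix.mul_apply, Fin.sum_univ_two]
  (revert i j; simp only [dg, mul_comm, _root_.Fin.forall_fin_succ, _root_.Units.val_mul, _root_.mul_inv_rev, _root_.Units.val_inv_eq_inv_val, _root_.Matrix.of_apply, _root_.Matrix.cons_val', _root_.Matrix.cons_val_fin_one, Fin.isValue, _root_.Matrix.cons_val_zero, _root_.Matrix.cons_val_one, _root_.MulZeroClass.zero_mul, _root_.add_zero, _root_.Matrix.cons_val_succ, _root_.zero_add, _root_.forall_const, _root_.MulZeroClass.mul_zero, _root_.and_self, _root_.implies_true])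

/-- as a homomorphism -/
def dgHom (K : Type*) [Field K] : Kˣ →* SL K where
  toFun := dg
  map_one' := by
    ext i j
    (revert i j; simp only [dg, _root_.Fin.forall_fin_succ, _root_.Units.val_one, _root_.inv_one, _root_.Matrix.of_apply, _root_.Matrix.cons_val', _root_.Matrix.cons_val_fin_one, _root_.Matrix.SpecialLinearGroup.coe_one, Fin.isValue, _root_.Matrix.cons_val_zero, _root_.Matrix.cons_val_succ, _root_.IsEmpty.forall_iff, _root_.and_true, _root_.Matrix.one_apply_eq, Nat.reduceAdd, _root_.Fin.succ_zero_eq_one, _root_.ne_eq, _root_.zero_ne_one, _root_.not_false_eq_true, _root_.Matrix.one_apply_ne, _root_.and_self, _root_.Fin.succ_ne_zero, _root_.true_and])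
  map_mul' := dg_mul

theorem dg_center {K : Type*} [Field K] {u : Kˣ} (h : dg u ∈ Subgroup.center (SL K)) : u ^ 2 = 1 := by
  rw [Matrix.SpecialLinearGroup.mem_center_iff] at h
  obtain ⟨r, hr, h⟩ := h
  have h1 : r = u := by
    have := congrFun (congrFun h 0) 0
    simpa [dg] using this
  rw [Fintype.card_fin] at hr
  apply Units.ext
  rw [Units.val_pow_eq_pow_val, ← h1, hr]
  rfl

/-- transvections -/
def tv {K : Type*} [Field K] (c : K) : SL K := ⟨!![1, c; 0, 1], by rw [Matrix.det_fin_two_of]; ring⟩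

theorem tv_mul {K : Type*} [Field K] (c d : K) : tv c * tv d = tv (c + d) := by
  ext i j
  rw [Matrix.SpecialLinearGroup.coe_mul, Matrix.mul_apply, Fin.sum_univ_two]
  (revert i j; simp only [tv, add_comm, _root_.Fin.forall_fin_succ, Fin.isValue, _root_.Matrix.of_apply, _root_.Matrix.cons_val', _root_.Matrix.cons_val_zero, _root_.Matrix.cons_val_fin_one, _root_.Matrix.cons_val_one, _root_.mul_one, _root_.MulZeroClass.mul_zero, _root_.zero_add, _root_.Matrix.cons_val_succ, _root_.forall_const, _root_.true_and, _root_.one_mul, _root_.MulZeroClass.zero_mul, _root_.implies_true, _root_.and_self])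

theorem tv_zero {K : Type*} [Field K] : tv (0 : K) = 1 := by
  ext i j
  (revert i j; simp only [tv, _root_.Fin.forall_fin_succ, _root_.Matrix.of_apply, _root_.Matrix.cons_val', _root_.Matrix.cons_val_fin_one, _root_.Matrix.SpecialLinearGroup.coe_one, Fin.isValue, _root_.Matrix.cons_val_zero, _root_.Matrix.cons_val_succ, _root_.IsEmpty.forall_iff, _root_.and_true, _root_.Matrix.one_apply_eq, Nat.reduceAdd, _root_.Fin.succ_zero_eq_one, _root_.ne_eq, _root_.zero_ne_one, _root_.not_false_eq_true, _root_.Matrix.one_apply_ne, _root_.and_self, _root_.Fin.succ_ne_zero, _root_.true_and])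

theorem tv_pow {K : Type*} [Field K] (c : K) (n : ℕ) : tv c ^ n = tv (n * c) := by
  induction n with
  | zero => rw [pow_zero, Nat.cast_zero, zero_mul, tv_zero]
  | succ n ih =>
    rw [pow_succ, ih, tv_mul]
    congr 1
    push_cast
    ring

theorem mulVec_e {F : Type*} [Field F] {K : Subfield F} {t : SL K} (h : (t : Matrix (Fin 2) (Fin 2) K) 1 0 = 0) :
    (sm K t : Matrix (Fin 2) (Fin 2) F) *ᵥ ![1, 0] = (((t : Matrix (Fin 2) (Fin 2) K) 0 0 : K) : F) • ![1, 0] := by
  have h' : (sm K t : Matrix (Fin 2) (Fin 2) F) 1 0 = 0 := by rw [sm_apply, h]; rfl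
  have h0 : (sm K t : Matrix (Fin 2) (Fin 2) F) 0 0 = (((t : Matrix (Fin 2) (Fin 2) K) 0 0 : K) : F) := rfl
  rw [← h0]
  funext i
  fin_cases i
  · simp only [Matrix.mulVec, dotProduct, Fin.sum_univ_two, _root_.Fin.zero_eta, _root_.Fin.isValue, _root_.Matrix.SpecialLinearGroup.map_apply_coe, _root_.RingHom.mapMatrix_apply, _root_.Subfield.coe_subtype, _root_.Matrix.map_apply, _root_.Matrix.cons_val_zero, _root_.mul_one, _root_.Matrix.cons_val_one, _root_.Matrix.cons_val_fin_one, _root_.MulZeroClass.mul_zero, _root_.add_zero, _root_.Nat.succ_eq_add_one, _root_.Nat.reduceAdd, _root_.Pi.smul_apply, _root_.smul_eq_mul]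
  · simp only [Matrix.mulVec, dotProduct, Fin.sum_univ_two, Fin.mk_one, Pi.smul_apply]
    rw [h']
    simp only [_root_.Fin.isValue, _root_.Matrix.cons_val_zero, _root_.mul_one, _root_.Matrix.SpecialLinearGroup.map_apply_coe, _root_.RingHom.mapMatrix_apply, _root_.Subfield.coe_subtype, _root_.Matrix.map_apply, _root_.Matrix.cons_val_one, _root_.Matrix.cons_val_fin_one, _root_.MulZeroClass.mul_zero, _root_.add_zero, _root_.Nat.succ_eq_add_one, _root_.Nat.reduceAdd, _root_.smul_eq_mul]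

theorem exists_y {G F : Type*} [Group G] [Field F] [Finite F] {N : Subgroup G} (e : N ≃* PS F) {K : Subfield F}
    (h4 : 4 ≤ Nat.card K) (r : ℕ) :
    ∃ (s : ℕ) (t : SL K), s.Prime ∧ s ≠ r ∧ psi e K t ^ s = 1 ∧ psi e K t ≠ 1 ∧
      ∃ c : F, (sm K t : Matrix (Fin 2) (Fin 2) F) *ᵥ ![1, 0] = c • ![1, 0] := by
  classical
  let _ : Fintype K := Fintype.ofFinite K
  have hker : ∀ t : SL K, psi e K t = 1 ↔ t ∈ Subgroup.center (SL K) := fun t => by
    rw [← psi_ker e, MonoidHom.mem_ker]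
  obtain ⟨p, hp⟩ := CharP.exists K
  have hpp : p.Prime := (CharP.char_is_prime_or_zero K p).resolve_right (CharP.char_ne_zero_of_finite K p)
  by_cases hr : r = p
  · -- diagonal element
    have hcard : 4 ≤ Fintype.card K := by rwa [← Nat.card_eq_fintype_card]
    obtain ⟨u, hu⟩ : ∃ u : Kˣ, u ^ 2 ≠ 1 := by
      have h1 : ({0, 1, -1} : Finset K).card < (Finset.univ : Finset K).card := by
        refine lt_of_le_of_lt Finset.card_le_three ?_
        rw [Finset.card_univ]; omega
      obtain ⟨a, -, ha⟩ := Finset.exists_mem_notMem_of_card_lt_card h1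
      simp only [Finset.mem_insert, Finset.mem_singleton, not_or] at ha
      refine ⟨Units.mk0 a ha.1, fun h2 => ?_⟩
      have h3 : a ^ 2 = 1 := congrArg Units.val h2
      rcases (mul_self_eq_one_iff.mp (by rw [← sq]; exact h3) : a = 1 ∨ a = -1) with h | h
      · exact ha.2.1 h
      · exact ha.2.2 h
    let δ : Kˣ →* G := (psi e K).comp (dgHom K)
    have hδ1 : δ u ≠ 1 := fun h => hu (dg_center ((hker _).mp h))
    have hord1 : orderOf (δ u) ≠ 1 := fun h => hδ1 (orderOf_eq_one_iff.mp h)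
    obtain ⟨s, hs, m, hm⟩ := Nat.exists_prime_and_dvd hord1
    have hfin : 0 < orderOf (δ u) :=
      Nat.pos_of_dvd_of_pos ((orderOf_map_dvd δ u)) (orderOf_pos u)
    have hm0 : 0 < m := by
      rcases Nat.eq_zero_or_pos m with h | h
      · rw [h, mul_zero] at hm; omega
      · exact h
    refine ⟨s, dg (u ^ m), hs, ?_, ?_, ?_, _, mulVec_e rfl⟩
    · rintro rfl
      -- `s` divides `|K| - 1`
      have h1 : s ∣ Fintype.card K - 1 := by
        have h2 : orderOf (δ u) ∣ Fintype.card Kˣ := (orderOf_map_dvd δ u).trans (orderOf_dvd_card)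
        rw [Fintype.card_units] at h2
        exact (Dvd.intro _ hm.symm).trans h2
      have h2 : s ∣ Fintype.card K := by
        obtain ⟨n, -, hn⟩ := FiniteField.card K p
        rw [hn, hr]
        exact dvd_pow_self p n.ne_zero
      have h3 : s ∣ 1 := by
        have h5 := Nat.dvd_sub h2 h1
        rwa [Nat.sub_sub_self (by omega)] at h5
      exact hs.one_lt.ne' (Nat.dvd_one.mp h3)
    · show δ (u ^ m) ^ s = 1
      rw [map_pow, ← pow_mul, mul_comm m s, ← hm, pow_orderOf_eq_one]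
    · show δ (u ^ m) ≠ 1
      rw [map_pow]
      intro h
      have h1 := orderOf_dvd_of_pow_eq_one h
      rw [hm] at h1
      have h2 := Nat.le_of_dvd hm0 h1
      have h3 := hs.two_le
      nlinarith only [hm0, h2, h3]
  · -- transvection
    refine ⟨p, tv 1, hpp, fun h => hr h.symm, ?_, ?_, _, mulVec_e rfl⟩
    · rw [← map_pow, tv_pow, CharP.cast_eq_zero K p, zero_mul, tv_zero, map_one]
    · intro h
      have h1 := (hker _).mp h
      rw [Matrix.SpecialLinearGroup.mem_center_iff] at h1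
      obtain ⟨a, -, h1⟩ := h1
      have h2 := congrFun (congrFun h1 0) 1
      simp [tv] at h2

/-! ### The result -/

/-- the statement of box C (`partI`), for types in `Type` -/
def StPartI : Prop :=
  ∀ {G Ω F ι : Type} [Group G] [Finite G] [MulAction G Ω] [Nonempty Ω] [Field F] [Finite F]
    {N : Subgroup G} (_ : Env G Ω N) (e : N ≃* PS F) (_ : 7 ≤ Nat.card F) (_ : Nat.card F ≠ 9)
    [Finite ι] (x : ι → G) (r : ι → ℕ) (A : ι → GL (Fin 2) F) (σ : ι → F ≃+* F)
    (_ : ∀ i, Acts e (x i) (A i) (σ i)) (_ : ∀ i, (r i).Prime) (_ : ∀ i, x i ^ r i = 1)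
    (_ : ∀ i, x i ≠ 1) (_ : ∀ i j, x i * x j = x j * x i)
    (_ : ∀ i j, r i = ringChar F → r j = ringChar F → i = j)
    (_ : ∀ i j, σ i ≠ 1 → σ j ≠ 1 → r i = r j → i = j)
    (v : Fin 2 → F) (_ : v ≠ 0) (_ : ∀ i, FixL (A i) (σ i) v), ∃ ω : Ω, ∀ i, x i • ω ≠ ω

/-- **BOX G** from box C. -/
theorem mcase_of (partI : StPartI) {G Ω F ι : Type} [Group G] [Finite G] [MulAction G Ω] [Finite Ω] [Nonempty Ω] [Field F] [Finite F]
    {N : Subgroup G} (hE : Env G Ω N) (e : N ≃* PS F) (h7 : 7 ≤ Nat.card F) (h9 : Nat.card F ≠ 9)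
    [Finite ι] (x : ι → G) (r : ι → ℕ) (h : PF x r) (A : ι → GL (Fin 2) F) (σ : ι → F ≃+* F)
    (hA : ∀ i, Acts e (x i) (A i) (σ i)) (k : ι) (hk : σ k ≠ 1)
    (K : Subfield F) (hK : ∀ a : F, a ∈ K ↔ σ k a = a) (h4 : 4 ≤ Nat.card K)
    (hRC : RC (PS K)) : ¬ Cov Ω x := by
  classical
  intro hcov
  have hN := hE.norm
  have h4F : 4 ≤ Nat.card F := by omega
  obtain ⟨hσr, P, c, hc, hP⟩ := exists_std hN e h4F (hA k) hk (h.prime k) (h.pow k)
  obtain ⟨e', -, he'⟩ := exists_chg (G := G) e P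
  have hk' : Acts e' (x k) 1 (σ k) := acts_smul (he' _ _ _ (hA k)) c⁻¹ (by
    rw [hP, smul_smul, inv_mul_cancel₀ hc, one_smul]; rfl)
  -- rational lifts
  have hrat : ∀ j, ∃ (B : GL (Fin 2) F) (C : GL (Fin 2) K) (τ : K ≃+* K), Acts e' (x j) B (σ j) ∧
      (∀ i i', (B : Matrix (Fin 2) (Fin 2) F) i i' = (C : Matrix (Fin 2) (Fin 2) K) i i') ∧
      (∀ a : K, σ j (a : F) = (τ a : K)) := by
    intro j
    have hj := he' _ _ _ (hA j)
    obtain ⟨hcσ, c', hc', hcm⟩ := acts_comm hN h4F hk' hj (h.comm k j)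
    obtain ⟨C, a, ha, hC⟩ := exists_rational hK hc' (by
      have h1 : gmap (σ j) (1 : GL (Fin 2) F) = 1 := map_one _
      rw [h1, mul_one, one_mul] at hcm
      exact hcm)
    obtain ⟨τ, hτ⟩ := exists_restrict hcσ hK
    refine ⟨Matrix.GeneralLinearGroup.map K.subtype C, C, τ, acts_smul hj a ?_, fun i i' => rfl, hτ⟩
    ext i i'
    exact hC i i'
  choose B C τ hB hBC hτ using hrat
  have hconj : ∀ j s, x j * psi e' K s * (x j)⁻¹ = psi e' K (cj (C j) (τ j) s) := fun j s =>
    psi_conj hN (hB j) (C j) (τ j) (hBC j) (hτ j) s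
  have hkcomm : ∀ s : SL K, x k * psi e' K s = psi e' K s * x k := by
    intro s
    have h1 := psi_conj (K := K) hN hk' 1 1 (fun i j => by
      rw [Units.val_one, Units.val_one, Matrix.one_apply, Matrix.one_apply]
      split_ifs <;> rfl) (fun a => (hK a).mp a.2) s
    have h2 : cj (1 : GL (Fin 2) K) 1 s = s := by
      apply Subtype.ext
      show ((1 : GL (Fin 2) K) : Matrix (Fin 2) (Fin 2) K) * (s : Matrix (Fin 2) (Fin 2) K).map (1 : K ≃+* K) *
        (((1 : GL (Fin 2) K)⁻¹ : GL (Fin 2) K) : Matrix (Fin 2) (Fin 2) K) = s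
      rw [inv_one, Units.val_one, one_mul, mul_one]
      rfl
    rw [h2, mul_inv_eq_iff_eq_mul] at h1
    exact h1
  set ψ := psi e' K with hψ
  -- group facts
  let _ : Fintype K := Fintype.ofFinite K
  have h3K : 3 < Fintype.card K := by rw [← Nat.card_eq_fintype_card]; omega
  have hsimple : IsSimpleGroup (PS K) := Cfsg.Agent.TwoFusion.SLTwoFacts.isSimpleGroup_psl h3K
  have hperf : ⁅ψ.range, ψ.range⁆ = ψ.range := by
    have h1 := Cfsg.Agent.TwoFusion.SLTwoFacts.commutator_eq_top (F := K) h3K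
    rw [commutator_def] at h1
    rw [MonoidHom.range_eq_map ψ, ← Subgroup.map_commutator, h1]
  let εM := (QuotientGroup.quotientKerEquivRange ψ).symm.trans (QuotientGroup.quotientMulEquivOfEq (psi_ker e'))
  let π : ψ.range →* PS K := εM.toMonoidHom
  have hπi : Function.Injective π := εM.injective
  have hπ : Function.Surjective π := εM.surjective
  have hker : π.ker ≤ Subgroup.center ψ.range := by
    rw [(MonoidHom.ker_eq_bot_iff π).mpr hπi]; exact bot_le
  have hnorm : ∀ i, x i ∈ Subgroup.normalizer ((ψ.range : Subgroup G) : Set G) := fun i =>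
    Subgroup.mem_normalizer_fintype (by
      rintro _ ⟨s, rfl⟩
      exact ⟨_, (hconj i s).symm⟩)
  -- only `x k` centralises `M`
  have hcent : ∀ j, (∀ m ∈ ψ.range, x j * m = m * x j) → j = k := by
    intro j hj
    by_contra hjk
    obtain ⟨hτ1, a, ha, hCa⟩ := uniq_sub h4 (C := C j) (τ := τ j) (by
      intro s s' hs'
      have h1 : s' = cj (C j) (τ j) s := Subtype.ext hs'
      rw [← psi_ker e', MonoidHom.mem_ker, map_mul, map_inv, h1, ← hψ, ← hconj, hj _ ⟨s, rfl⟩,
        mul_inv_cancel_right, inv_mul_cancel])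
    have hσj : σ j ∈ Subgroup.zpowers (σ k) := mem_zpowers_of_fix (fun a ha => by
      have h1 := hτ j ⟨a, (hK a).mpr ha⟩
      rw [hτ1] at h1
      exact h1)
    have h1 : σ j ^ r k = 1 := by
      obtain ⟨m, hm⟩ := Subgroup.mem_zpowers_iff.mp hσj
      rw [← hm, ← zpow_natCast, ← _root_.zpow_mul, mul_comm, _root_.zpow_mul, zpow_natCast, hσr, _root_.one_zpow]
    have h2 : σ j ^ r j = 1 := by
      have h3 := acts_itm hN (hB j) (r j)
      rw [h.pow j] at h3
      exact ((acts_uniq hN h4F (acts_one e') h3).1).symm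
    have h3 : σ j = 1 := by
      have hcop : Nat.Coprime (r k) (r j) :=
        (Nat.coprime_primes (h.prime k) (h.prime j)).mpr (fun hh => hjk (h.inj hh.symm))
      have h5 : orderOf (σ j) ∣ Nat.gcd (r k) (r j) :=
        Nat.dvd_gcd (orderOf_dvd_of_pow_eq_one h1) (orderOf_dvd_of_pow_eq_one h2)
      rw [hcop] at h5
      exact orderOf_eq_one_iff.mp (Nat.dvd_one.mp h5)
    apply h.ne j
    have h5 := hB j
    rw [h3] at h5
    refine acts_triv hN hE.cent h5 (a : F) ?_
    ext i i'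
    rw [hBC, hCa, Matrix.smul_apply, Matrix.smul_apply, Matrix.one_apply, Matrix.one_apply]
    split_ifs
    · rfl
    · rfl
  have hrule : ∀ ω : Ω, ψ.range ≤ stabilizer G ω ∨ x k • ω = ω := by
    intro ω
    rcases mrule_RC hsimple (not_comm_ps h4) x r h.prime h.inj h.pow h.comm ψ.range hperf π hπ hker hnorm hRC ω
      (fun m _ => hcov (m • ω)) with h1 | ⟨j, hj, hjω⟩
    · exact Or.inl h1
    · right
      rw [← hcent j hj]
      exact hjω
  obtain ⟨s, t, hs, hsr, hts, ht1, c1, ht⟩ := exists_y e' h4 (r k)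
  obtain ⟨ω, hω⟩ := partI (ι := Bool) hE e' h7 h9 (fun b => cond b (x k) (ψ t)) (fun b => cond b (r k) s)
    (fun b => cond b 1 (Matrix.SpecialLinearGroup.toGL (sm K t))) (fun b => cond b (σ k) 1)
    (by
      rintro (_ | _)
      · exact acts_mem ⟨psi e' K t, psi_mem e' t⟩ (sm K t) (e_psi e' t)
      · exact hk')
    (by
      rintro (_ | _)
      · exact hs
      · exact h.prime k)
    (by
      rintro (_ | _)
      · exact hts
      · exact h.pow k)
    (by
      rintro (_ | _)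
      · exact ht1
      · exact h.ne k)
    (by
      rintro (_ | _) (_ | _)
      · rfl
      · exact (hkcomm t).symm
      · exact hkcomm t
      · rfl)
    (by
      rintro (_ | _) (_ | _) h1 h2
      · rfl
      · exact (hsr (h1.trans h2.symm)).elim
      · exact (hsr (h2.trans h1.symm)).elim
      · rfl)
    (by
      rintro (_ | _) (_ | _) h1 h2 h3
      · rfl
      · exact (h1 rfl).elim
      · exact (h2 rfl).elim
      · rfl)
    ![1, 0] (by
      intro h0
      have := congrFun h0 0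
      simp at this)
    (by
      rintro (_ | _)
      · exact ⟨c1, ht⟩
      · refine ⟨1, ?_⟩
        show ((1 : GL (Fin 2) F) : Matrix (Fin 2) (Fin 2) F) *ᵥ (fun i => σ k ((![1, 0] : Fin 2 → F) i)) =
          (1 : F) • ![1, 0]
        rw [Units.val_one, Matrix.one_mulVec, one_smul]
        funext i
        (revert i; simp only [_root_.Fin.forall_fin_succ, _root_.Nat.succ_eq_add_one, Nat.reduceAdd, Fin.isValue, _root_.Matrix.cons_val_zero, _root_.map_one, _root_.Matrix.cons_val_succ, _root_.Matrix.cons_val_fin_one, _root_.map_zero, _root_.implies_true, _root_.and_self]))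
  rcases hrule ω with h1 | h1
  · exact hω false (h1 ⟨t, rfl⟩)
  · exact hω true h1

end Cfsg.Agent.H188.RC
end

-- part: H366/RC/Swap
section
/-!
# S3510, row C, part I (helper366): the swapping involutory field automorphism
-/

set_option autoImplicit false

open Cfsg Matrix Cfsg.Agent.H106.RC Cfsg.Agent.H183.RC

namespace Cfsg.Agent.H366.RC

section field

variable {F : Type*} [Field F] [Finite F] (σ : F ≃+* F) (h2 : ∀ a, σ (σ a) = a) (h1 : σ ≠ 1)

include h2 h1

/-- norms from a quadratic extension -/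
theorem exists_norm {ν : F} (hν : σ ν = ν) (hν0 : ν ≠ 0) : ∃ μ : Fˣ, (μ : F) * σ μ = ν := by
  let σu : Fˣ →* Fˣ := Units.map (σ : F →* F)
  have hσu : ∀ u : Fˣ, ((σu u : Fˣ) : F) = σ (u : F) := fun u => rfl
  let φ : Fˣ →* Fˣ :=
    { toFun := fun u => u * σu u
      map_one' := by rw [map_one, mul_one]
      map_mul' := fun a b => by rw [map_mul]; exact mul_mul_mul_comm _ _ _ _ }
  let ψ : Fˣ →* Fˣ :=
    { toFun := fun u => u * (σu u)⁻¹
      map_one' := by rw [map_one, inv_one, mul_one]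
      map_mul' := fun a b => by rw [map_mul, mul_inv]; exact mul_mul_mul_comm _ _ _ _ }
  have hφ : ∀ u, φ u = u * σu u := fun u => rfl
  have hψ : ∀ u, ψ u = u * (σu u)⁻¹ := fun u => rfl
  have h90 : φ.ker = ψ.range := by
    ext u
    rw [MonoidHom.mem_ker, MonoidHom.mem_range, hφ]
    constructor
    · intro hu
      have hu' : (u : F) * σ u = 1 := by
        rw [← hσu, ← Units.val_mul, hu, Units.val_one]
      by_cases h : (1 : F) + u = 0
      · -- `u = -1`
        obtain ⟨b, hb⟩ : ∃ b, σ b ≠ b := by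
          by_contra hcon
          push Not at hcon
          exact h1 (RingEquiv.ext hcon)
        have hb0 : b - σ b ≠ 0 := fun h => hb (sub_eq_zero.mp h).symm
        refine ⟨Units.mk0 _ hb0, ?_⟩
        rw [hψ, mul_inv_eq_iff_eq_mul]
        apply Units.ext
        rw [Units.val_mul, hσu, Units.val_mk0, map_sub, h2]
        have hu1 : (u : F) = -1 := by linear_combination h
        rw [hu1]
        ring
      · refine ⟨Units.mk0 _ h, ?_⟩
        rw [hψ, mul_inv_eq_iff_eq_mul]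
        apply Units.ext
        rw [Units.val_mul, hσu, Units.val_mk0, map_add, map_one]
        linear_combination -hu'
    · rintro ⟨a, rfl⟩
      rw [hψ]
      apply Units.ext
      have ha : (a : F) ≠ 0 := a.ne_zero
      have hσa : σ (a : F) ≠ 0 := by
        intro h
        exact ha ((map_eq_zero σ).mp h)
      rw [Units.val_mul, hσu, Units.val_mul, Units.val_inv_eq_inv_val, hσu, map_mul, map_inv₀, h2, Units.val_one]
      field_simp
  have hle : φ.range ≤ ψ.ker := by
    rintro _ ⟨a, rfl⟩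
    rw [MonoidHom.mem_ker, hψ, hφ, mul_inv_eq_one]
    apply Units.ext
    rw [hσu, Units.val_mul, hσu, map_mul, h2]
    ring
  have hc1 : Nat.card φ.ker * Nat.card φ.range = Nat.card Fˣ := by
    rw [← Subgroup.index_ker, Subgroup.card_mul_index]
  have hc2 : Nat.card ψ.ker * Nat.card ψ.range = Nat.card Fˣ := by
    rw [← Subgroup.index_ker, Subgroup.card_mul_index]
  have heq : φ.range = ψ.ker := by
    apply Subgroup.eq_of_le_of_card_ge hle
    rw [h90, mul_comm, ← hc2] at hc1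
    exact (Nat.eq_of_mul_eq_mul_right Nat.card_pos hc1).ge
  have hmem : Units.mk0 ν hν0 ∈ φ.range := by
    rw [heq, MonoidHom.mem_ker, hψ, mul_inv_eq_one]
    apply Units.ext
    rw [hσu, Units.val_mk0, hν]
  obtain ⟨μ, hμ⟩ := hmem
  refine ⟨μ, ?_⟩
  have := congrArg Units.val hμ
  rw [hφ, Units.val_mul, hσu, Units.val_mk0] at this
  exact this

omit h1 in
/-- the fixed field is not too small -/
theorem exists_fixed (h16 : 16 ≤ Nat.card F) : ∃ u : F, σ u = u ∧ u ≠ 0 ∧ u ^ 2 ≠ 1 := by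
  by_contra hcon
  push Not at hcon
  let K : AddSubgroup F :=
    { carrier := {a | σ a = a}
      add_mem' := fun {a b} ha hb => by
        change σ (a + b) = a + b
        rw [map_add, ha, hb]
      zero_mem' := map_zero σ
      neg_mem' := fun {a} ha => by
        change σ (-a) = -a
        rw [map_neg, ha] }
  have hK : ∀ a : F, a ∈ K ↔ σ a = a := fun a => Iff.rfl
  have hK3 : Nat.card K ≤ 3 := by
    have h3 : (K : Set F) ⊆ ({0, 1, -1} : Set F) := by
      intro a ha
      by_cases h0 : a = 0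
      · exact Or.inl h0
      · right
        exact sq_eq_one_iff.mp (hcon a ha h0)
    have h4 := Set.ncard_le_ncard h3 (Set.toFinite _)
    have h5 : ({0, 1, -1} : Set F).ncard ≤ 3 := by
      classical
      have h6 : ({0, 1, -1} : Set F) = (({0, 1, -1} : Finset F) : Set F) := by simp only [_root_.Finset.coe_insert, _root_.Finset.coe_singleton]
      rw [h6, Set.ncard_coe_finset]
      exact Finset.card_le_three
    exact (h4.trans h5)
  let τ : F →+ F :=
    { toFun := fun a => a + σ a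
      map_zero' := by rw [map_zero, add_zero]
      map_add' := fun a b => by rw [map_add]; ring }
  have hτ : ∀ a, τ a = a + σ a := fun a => rfl
  have hr : τ.range ≤ K := by
    rintro _ ⟨a, rfl⟩
    rw [hK, hτ, map_add, h2, add_comm]
  have hr3 : Nat.card τ.range ≤ 3 := (AddSubgroup.card_le_of_le hr).trans hK3
  have hk3 : Nat.card τ.ker ≤ 3 := by
    by_cases hb : ∃ b ∈ τ.ker, b ≠ 0
    · obtain ⟨b, hb, hb0⟩ := hb
      rw [AddMonoidHom.mem_ker, hτ] at hb
      have hsb : σ b = -b := by linear_combination hb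
      have hinj : Function.Injective (fun a : τ.ker => (⟨(a : F) / b, by
          have ha := a.2
          rw [AddMonoidHom.mem_ker, hτ] at ha
          have hsa : σ (a : F) = -a := by linear_combination ha
          rw [hK, map_div₀, hsa, hsb, neg_div_neg_eq]⟩ : K)) := by
        intro a a' h
        have h3 := congrArg Subtype.val h
        apply Subtype.ext
        exact (div_left_inj' hb0).mp h3
      exact (Nat.card_le_card_of_injective _ hinj).trans hK3
    · push Not at hb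
      have : τ.ker = ⊥ := by
        rw [eq_bot_iff]
        intro b hb'
        exact hb b hb'
      rw [this, AddSubgroup.card_bot]
      norm_num
  have hc : Nat.card τ.ker * Nat.card τ.range = Nat.card F := by
    rw [← AddSubgroup.index_ker, AddSubgroup.card_mul_index]
  have : Nat.card τ.ker * Nat.card τ.range ≤ 3 * 3 := Nat.mul_le_mul hk3 hr3
  omega

end field

section torus

variable {F : Type*} [Field F]

/-- `diag(a, a⁻¹)` -/
def dg : Fˣ →* SL F where
  toFun a := ⟨!![(a : F), 0; 0, ((a⁻¹ : Fˣ) : F)], by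
    rw [Matrix.det_fin_two_of, mul_zero, sub_zero, ← Units.val_mul, mul_inv_cancel, Units.val_one]⟩
  map_one' := by
    apply Subtype.ext
    ext i j
    (revert i j; simp only [_root_.Fin.forall_fin_succ, _root_.Units.val_one, _root_.inv_one, _root_.Matrix.of_apply, _root_.Matrix.cons_val', _root_.Matrix.cons_val_fin_one, _root_.Matrix.SpecialLinearGroup.coe_one, Fin.isValue, _root_.Matrix.cons_val_zero, _root_.Matrix.cons_val_succ, _root_.IsEmpty.forall_iff, _root_.and_true, _root_.Matrix.one_apply_eq, Nat.reduceAdd, _root_.Fin.succ_zero_eq_one, _root_.ne_eq, _root_.zero_ne_one, _root_.not_false_eq_true, _root_.Matrix.one_apply_ne, _root_.and_self, _root_.Fin.succ_ne_zero, _root_.true_and])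
  map_mul' a b := by
    apply Subtype.ext
    show (!![((a * b : Fˣ) : F), 0; 0, (((a * b)⁻¹ : Fˣ) : F)] : Matrix (Fin 2) (Fin 2) F) =
      !![(a : F), 0; 0, ((a⁻¹ : Fˣ) : F)] * !![(b : F), 0; 0, ((b⁻¹ : Fˣ) : F)]
    rw [Matrix.mul_fin_two]
    ext i j
    (revert i j; simp only [mul_comm, _root_.Fin.forall_fin_succ, _root_.Units.val_mul, _root_.mul_inv_rev, _root_.Units.val_inv_eq_inv_val, _root_.Matrix.of_apply, _root_.Matrix.cons_val', _root_.Matrix.cons_val_fin_one, _root_.MulZeroClass.mul_zero, _root_.add_zero, _root_.zero_add, _root_.implies_true])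

/-- the conjugate of an element of `SL` -/
def cj (P : GL (Fin 2) F) : SL F →* SL F where
  toFun s := ⟨(P : Matrix (Fin 2) (Fin 2) F) * (s : Matrix (Fin 2) (Fin 2) F) * ((P⁻¹ : GL (Fin 2) F) : Matrix (Fin 2) (Fin 2) F), by
    rw [Matrix.det_units_conj, s.2]⟩
  map_one' := by
    apply Subtype.ext
    show (P : Matrix (Fin 2) (Fin 2) F) * (1 : Matrix (Fin 2) (Fin 2) F) * ((P⁻¹ : GL (Fin 2) F) : Matrix (Fin 2) (Fin 2) F) = 1
    rw [mul_one, ← Units.val_mul, mul_inv_cancel, Units.val_one]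
  map_mul' s t := by
    apply Subtype.ext
    show (P : Matrix (Fin 2) (Fin 2) F) * ((s : Matrix (Fin 2) (Fin 2) F) * (t : Matrix (Fin 2) (Fin 2) F)) *
        ((P⁻¹ : GL (Fin 2) F) : Matrix (Fin 2) (Fin 2) F) =
      (P : Matrix (Fin 2) (Fin 2) F) * (s : Matrix (Fin 2) (Fin 2) F) * ((P⁻¹ : GL (Fin 2) F) : Matrix (Fin 2) (Fin 2) F) *
      ((P : Matrix (Fin 2) (Fin 2) F) * (t : Matrix (Fin 2) (Fin 2) F) * ((P⁻¹ : GL (Fin 2) F) : Matrix (Fin 2) (Fin 2) F))
    have h : ((P⁻¹ : GL (Fin 2) F) : Matrix (Fin 2) (Fin 2) F) * (P : Matrix (Fin 2) (Fin 2) F) = 1 := by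
      rw [← Units.val_mul, inv_mul_cancel, Units.val_one]
    calc (P : Matrix (Fin 2) (Fin 2) F) * ((s : Matrix (Fin 2) (Fin 2) F) * (t : Matrix (Fin 2) (Fin 2) F)) *
          ((P⁻¹ : GL (Fin 2) F) : Matrix (Fin 2) (Fin 2) F)
        = (P : Matrix (Fin 2) (Fin 2) F) * (s : Matrix (Fin 2) (Fin 2) F) * 1 * (t : Matrix (Fin 2) (Fin 2) F) *
          ((P⁻¹ : GL (Fin 2) F) : Matrix (Fin 2) (Fin 2) F) := by rw [mul_one]; simp only [Matrix.mul_assoc]
      _ = _ := by rw [← h]; simp only [Matrix.mul_assoc]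

/-- the semilinear conjugate of a torus element -/
theorem conj_diag {A P : GL (Fin 2) F} {σ : F ≃+* F} {J : Matrix (Fin 2) (Fin 2) F}
    (hJ : (A : Matrix (Fin 2) (Fin 2) F) * (P : Matrix (Fin 2) (Fin 2) F).map σ = (P : Matrix (Fin 2) (Fin 2) F) * J)
    {a b : Fˣ} (hab : J * !![σ (a : F), 0; 0, σ ((a⁻¹ : Fˣ) : F)] = !![(b : F), 0; 0, ((b⁻¹ : Fˣ) : F)] * J) :
    ((cj P (dg b) : SL F) : Matrix (Fin 2) (Fin 2) F) =
      (A : Matrix (Fin 2) (Fin 2) F) * ((cj P (dg a) : SL F) : Matrix (Fin 2) (Fin 2) F).map σ *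
        ((A⁻¹ : GL (Fin 2) F) : Matrix (Fin 2) (Fin 2) F) := by
  have hA : (A : Matrix (Fin 2) (Fin 2) F) * ((A⁻¹ : GL (Fin 2) F) : Matrix (Fin 2) (Fin 2) F) = 1 := by
    rw [← Units.val_mul, mul_inv_cancel, Units.val_one]
  have hP : ((P⁻¹ : GL (Fin 2) F) : Matrix (Fin 2) (Fin 2) F) * (P : Matrix (Fin 2) (Fin 2) F) = 1 := by
    rw [← Units.val_mul, inv_mul_cancel, Units.val_one]
  have hP' : (P : Matrix (Fin 2) (Fin 2) F) * ((P⁻¹ : GL (Fin 2) F) : Matrix (Fin 2) (Fin 2) F) = 1 := by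
    rw [← Units.val_mul, mul_inv_cancel, Units.val_one]
  have hσP : (P : Matrix (Fin 2) (Fin 2) F).map σ * (((P⁻¹ : GL (Fin 2) F) : Matrix (Fin 2) (Fin 2) F)).map σ = 1 := by
    have := congrArg (fun M => (σ : F →+* F).mapMatrix M) hP'
    simp only [map_mul, map_one] at this
    exact this
  have h1 : ((cj P (dg a) : SL F) : Matrix (Fin 2) (Fin 2) F).map σ =
      (P : Matrix (Fin 2) (Fin 2) F).map σ * !![σ (a : F), 0; 0, σ ((a⁻¹ : Fˣ) : F)] *
        (((P⁻¹ : GL (Fin 2) F) : Matrix (Fin 2) (Fin 2) F)).map σ := by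
    have h2 : ((cj P (dg a) : SL F) : Matrix (Fin 2) (Fin 2) F) = (P : Matrix (Fin 2) (Fin 2) F) * !![(a : F), 0; 0, ((a⁻¹ : Fˣ) : F)] *
        ((P⁻¹ : GL (Fin 2) F) : Matrix (Fin 2) (Fin 2) F) := rfl
    have h3 : (!![(a : F), 0; 0, ((a⁻¹ : Fˣ) : F)]).map σ = !![σ (a : F), 0; 0, σ ((a⁻¹ : Fˣ) : F)] := by
      ext i j
      (revert i j; simp only [_root_.Fin.forall_fin_succ, _root_.Units.val_inv_eq_inv_val, _root_.Matrix.map_apply, _root_.Matrix.of_apply, _root_.Matrix.cons_val', _root_.Matrix.cons_val_fin_one, _root_.map_inv₀, Fin.isValue, _root_.Matrix.cons_val_zero, _root_.Matrix.cons_val_succ, _root_.forall_const, _root_.map_zero, _root_.and_self, _root_.implies_true])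
    have h4 := congrArg (fun M => (σ : F →+* F).mapMatrix M) h2
    simp only [map_mul] at h4
    rw [← h3]
    exact h4
  rw [h1]
  have h2 : ((cj P (dg b) : SL F) : Matrix (Fin 2) (Fin 2) F) = (P : Matrix (Fin 2) (Fin 2) F) * !![(b : F), 0; 0, ((b⁻¹ : Fˣ) : F)] *
      ((P⁻¹ : GL (Fin 2) F) : Matrix (Fin 2) (Fin 2) F) := rfl
  rw [h2]
  -- multiply by `A σ(P)` on the right
  have h5 : (A : Matrix (Fin 2) (Fin 2) F) * ((P : Matrix (Fin 2) (Fin 2) F).map σ * !![σ (a : F), 0; 0, σ ((a⁻¹ : Fˣ) : F)] *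
      (((P⁻¹ : GL (Fin 2) F) : Matrix (Fin 2) (Fin 2) F)).map σ) * ((A⁻¹ : GL (Fin 2) F) : Matrix (Fin 2) (Fin 2) F)
      = ((A : Matrix (Fin 2) (Fin 2) F) * (P : Matrix (Fin 2) (Fin 2) F).map σ) * !![σ (a : F), 0; 0, σ ((a⁻¹ : Fˣ) : F)] *
      ((((P⁻¹ : GL (Fin 2) F) : Matrix (Fin 2) (Fin 2) F)).map σ * ((A⁻¹ : GL (Fin 2) F) : Matrix (Fin 2) (Fin 2) F)) := by
    simp only [Matrix.mul_assoc]
  rw [h5, hJ]
  have h6 : (P : Matrix (Fin 2) (Fin 2) F) * J * !![σ (a : F), 0; 0, σ ((a⁻¹ : Fˣ) : F)] *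
      ((((P⁻¹ : GL (Fin 2) F) : Matrix (Fin 2) (Fin 2) F)).map σ * ((A⁻¹ : GL (Fin 2) F) : Matrix (Fin 2) (Fin 2) F))
      = (P : Matrix (Fin 2) (Fin 2) F) * (J * !![σ (a : F), 0; 0, σ ((a⁻¹ : Fˣ) : F)]) *
      ((((P⁻¹ : GL (Fin 2) F) : Matrix (Fin 2) (Fin 2) F)).map σ * ((A⁻¹ : GL (Fin 2) F) : Matrix (Fin 2) (Fin 2) F)) := by
    simp only [Matrix.mul_assoc]
  rw [h6, hab]
  have h7 : J * ((((P⁻¹ : GL (Fin 2) F) : Matrix (Fin 2) (Fin 2) F)).map σ * ((A⁻¹ : GL (Fin 2) F) : Matrix (Fin 2) (Fin 2) F))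
      = ((P⁻¹ : GL (Fin 2) F) : Matrix (Fin 2) (Fin 2) F) := by
    have h8 : J = ((P⁻¹ : GL (Fin 2) F) : Matrix (Fin 2) (Fin 2) F) * ((A : Matrix (Fin 2) (Fin 2) F) *
        (P : Matrix (Fin 2) (Fin 2) F).map σ) := by
      rw [hJ, ← Matrix.mul_assoc, hP, Matrix.one_mul]
    rw [h8]
    calc ((P⁻¹ : GL (Fin 2) F) : Matrix (Fin 2) (Fin 2) F) * ((A : Matrix (Fin 2) (Fin 2) F) *
          (P : Matrix (Fin 2) (Fin 2) F).map σ) * ((((P⁻¹ : GL (Fin 2) F) : Matrix (Fin 2) (Fin 2) F)).map σ *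
            ((A⁻¹ : GL (Fin 2) F) : Matrix (Fin 2) (Fin 2) F))
        = ((P⁻¹ : GL (Fin 2) F) : Matrix (Fin 2) (Fin 2) F) * ((A : Matrix (Fin 2) (Fin 2) F) *
          ((P : Matrix (Fin 2) (Fin 2) F).map σ * (((P⁻¹ : GL (Fin 2) F) : Matrix (Fin 2) (Fin 2) F)).map σ) *
            ((A⁻¹ : GL (Fin 2) F) : Matrix (Fin 2) (Fin 2) F)) := by simp only [Matrix.mul_assoc]
      _ = _ := by rw [hσP, Matrix.mul_one, hA, Matrix.mul_one]
  rw [← Matrix.mul_assoc (P : Matrix (Fin 2) (Fin 2) F), Matrix.mul_assoc ((P : Matrix (Fin 2) (Fin 2) F) * _) J, h7]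

/-- a torus element acting as a scalar -/
theorem sq_of_center {P : GL (Fin 2) F} {a : Fˣ} (h : cj P (dg a) ∈ Subgroup.center (SL F)) : a ^ 2 = 1 := by
  obtain ⟨r, -, hr⟩ := Matrix.SpecialLinearGroup.mem_center_iff.mp h
  have hP : ((P⁻¹ : GL (Fin 2) F) : Matrix (Fin 2) (Fin 2) F) * (P : Matrix (Fin 2) (Fin 2) F) = 1 := by
    rw [← Units.val_mul, inv_mul_cancel, Units.val_one]
  have h2 : (P : Matrix (Fin 2) (Fin 2) F) * !![(a : F), 0; 0, ((a⁻¹ : Fˣ) : F)] *
      ((P⁻¹ : GL (Fin 2) F) : Matrix (Fin 2) (Fin 2) F) = Matrix.scalar (Fin 2) r := hr.symm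
  have h3 : !![(a : F), 0; 0, ((a⁻¹ : Fˣ) : F)] = Matrix.scalar (Fin 2) r := by
    calc !![(a : F), 0; 0, ((a⁻¹ : Fˣ) : F)] = ((P⁻¹ : GL (Fin 2) F) : Matrix (Fin 2) (Fin 2) F) * (P : Matrix (Fin 2) (Fin 2) F) *
          !![(a : F), 0; 0, ((a⁻¹ : Fˣ) : F)] * (((P⁻¹ : GL (Fin 2) F) : Matrix (Fin 2) (Fin 2) F) * (P : Matrix (Fin 2) (Fin 2) F)) := by
          rw [hP, one_mul, mul_one]
      _ = ((P⁻¹ : GL (Fin 2) F) : Matrix (Fin 2) (Fin 2) F) * ((P : Matrix (Fin 2) (Fin 2) F) *
          !![(a : F), 0; 0, ((a⁻¹ : Fˣ) : F)] * ((P⁻¹ : GL (Fin 2) F) : Matrix (Fin 2) (Fin 2) F)) * (P : Matrix (Fin 2) (Fin 2) F) := by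
          simp only [Matrix.mul_assoc]
      _ = ((P⁻¹ : GL (Fin 2) F) : Matrix (Fin 2) (Fin 2) F) * (Matrix.scalar (Fin 2) r) * (P : Matrix (Fin 2) (Fin 2) F) := by rw [h2]
      _ = Matrix.scalar (Fin 2) r := by
          rw [← (Matrix.scalar_commute r (fun _ => Commute.all _ _) _).eq, Matrix.mul_assoc, hP, mul_one]
  have h4 := congrFun (congrFun h3 0) 0
  have h5 := congrFun (congrFun h3 1) 1
  simp at h4 h5
  apply Units.ext
  rw [pow_two, Units.val_mul, Units.val_one]
  nth_rw 1 [h4]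
  rw [← h5]
  exact inv_mul_cancel₀ a.ne_zero

theorem center_of_sq {P : GL (Fin 2) F} {a : Fˣ} (h : a ^ 2 = 1) : cj P (dg a) ∈ Subgroup.center (SL F) := by
  rw [Matrix.SpecialLinearGroup.mem_center_iff]
  have ha : a⁻¹ = a := by
    rw [inv_eq_iff_mul_eq_one, ← pow_two, h]
  refine ⟨a, ?_, ?_⟩
  · rw [Fintype.card_fin, ← Units.val_pow_eq_pow_val, h, Units.val_one]
  · have h2 : ((cj P (dg a) : SL F) : Matrix (Fin 2) (Fin 2) F) = (P : Matrix (Fin 2) (Fin 2) F) * !![(a : F), 0; 0, ((a⁻¹ : Fˣ) : F)] *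
      ((P⁻¹ : GL (Fin 2) F) : Matrix (Fin 2) (Fin 2) F) := rfl
    have h3 : (!![(a : F), 0; 0, (a : F)] : Matrix (Fin 2) (Fin 2) F) = Matrix.scalar (Fin 2) (a : F) := by
      ext i j
      (revert i j; simp only [_root_.Fin.forall_fin_succ, _root_.Matrix.of_apply, _root_.Matrix.cons_val', _root_.Matrix.cons_val_fin_one, _root_.Matrix.scalar_apply, Fin.isValue, _root_.Matrix.cons_val_zero, _root_.Matrix.cons_val_succ, _root_.Fin.succ_zero_eq_one, _root_.IsEmpty.forall_iff, _root_.and_true, _root_.Matrix.diagonal_apply_eq, _root_.ne_eq, _root_.zero_ne_one, _root_.not_false_eq_true, _root_.Matrix.diagonal_apply_ne, _root_.and_self, _root_.Fin.succ_ne_zero, _root_.true_and])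
    have hP : (P : Matrix (Fin 2) (Fin 2) F) * ((P⁻¹ : GL (Fin 2) F) : Matrix (Fin 2) (Fin 2) F) = 1 := by
      rw [← Units.val_mul, mul_inv_cancel, Units.val_one]
    rw [h2, ha, h3, ← (Matrix.scalar_commute (a : F) (fun _ => Commute.all _ _) (P : Matrix (Fin 2) (Fin 2) F)).eq, Matrix.mul_assoc, hP, mul_one]

end torus

/-- an element of `N` acts as an inner automorphism -/
theorem acts_mem' {G F : Type*} [Group G] [Field F] {N : Subgroup G} {e : N ≃* PS F} (n : N) (s : SL F)
    (h : e n = QuotientGroup.mk s) : Acts e (n : G) (Matrix.SpecialLinearGroup.toGL s) 1 := by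
  intro m m' t t' hm ht he
  have h1 : m' = n * m * n⁻¹ := Subtype.ext hm
  have h2 : t' = s * t * s⁻¹ := by
    apply Subtype.ext
    rw [ht]
    rfl
  rw [h1, map_mul, map_mul, map_inv, h, he, h2]
  rfl

/-- **The swapping involution** (`hI` = part I for `G`, `Ω`, `e`). -/
theorem swap_of {G Ω F ι : Type*} [Group G] [Finite G] [MulAction G Ω] [Nonempty Ω] [Field F] [Finite F]
    {N : Subgroup G} (hE : Env G Ω N) (e : N ≃* PS F)
    (hI : ∀ (x : ι → G) (r : ι → ℕ) (A : ι → GL (Fin 2) F) (σ : ι → F ≃+* F)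
      (_ : ∀ i, Acts e (x i) (A i) (σ i)) (_ : ∀ i, (r i).Prime) (_ : ∀ i, x i ^ r i = 1)
      (_ : ∀ i, x i ≠ 1) (_ : ∀ i j, x i * x j = x j * x i)
      (_ : ∀ i j, r i = ringChar F → r j = ringChar F → i = j)
      (_ : ∀ i j, σ i ≠ 1 → σ j ≠ 1 → r i = r j → i = j)
      (v : Fin 2 → F) (_ : v ≠ 0) (_ : ∀ i, FixL (A i) (σ i) v), ∃ ω : Ω, ∀ i, x i • ω ≠ ω)
    (h16 : 16 ≤ Nat.card F)
    [Finite ι] (x : ι → G) (r : ι → ℕ) (h : PF x r) (A : ι → GL (Fin 2) F) (σ : ι → F ≃+* F)
    (hA : ∀ i, Acts e (x i) (A i) (σ i)) (k : ι) (hk : σ k ≠ 1) (hr : r k = 2) (h1 : ∀ i, i ≠ k → σ i = 1)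
    (v w : Fin 2 → F) (hvw : LinearIndependent F ![v, w])
    (hi : ∀ i, i ≠ k → FixL (A i) (σ i) v ∧ FixL (A i) (σ i) w)
    (hv : ∃ c : F, (A k : Matrix (Fin 2) (Fin 2) F) *ᵥ (fun i => σ k (v i)) = c • w)
    (hw : ∃ c : F, (A k : Matrix (Fin 2) (Fin 2) F) *ᵥ (fun i => σ k (w i)) = c • v) : ¬ Cov Ω x := by
  classical
  intro hcov
  have hN : N.Normal := hE.norm
  -- the basis
  let Q : Matrix (Fin 2) (Fin 2) F := !![v 0, w 0; v 1, w 1]
  have hQ : Q.det ≠ 0 := by
    intro h0
    rw [Matrix.det_fin_two_of] at h0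
    rw [LinearIndependent.pair_iff] at hvw
    have e1 := hvw (w 0) (-v 0) (by
      ext i
      fin_cases i
      · show w 0 * v 0 + -v 0 * w 0 = 0
        ring
      · show w 0 * v 1 + -v 0 * w 1 = 0
        linear_combination -h0)
    have e2 := hvw (w 1) (-v 1) (by
      ext i
      fin_cases i
      · show w 1 * v 0 + -v 1 * w 0 = 0
        linear_combination h0
      · show w 1 * v 1 + -v 1 * w 1 = 0
        ring)
    have e3 := hvw 1 0 (by
      ext i
      fin_cases i
      · show 1 * v 0 + 0 * w 0 = 0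
        linear_combination -e1.2
      · show 1 * v 1 + 0 * w 1 = 0
        linear_combination -e2.2)
    exact one_ne_zero e3.1
  let P : GL (Fin 2) F := Matrix.GeneralLinearGroup.mkOfDetNeZero Q hQ
  have hP : (P : Matrix (Fin 2) (Fin 2) F) = Q := rfl
  let σk := σ k
  -- the torus
  let τ : Fˣ →* G := N.subtype.comp (e.symm.toMonoidHom.comp ((QuotientGroup.mk' (Subgroup.center (SL F))).comp ((cj P).comp dg)))
  have hτ : ∀ a, τ a = ((e.symm (QuotientGroup.mk (cj P (dg a))) : N) : G) := fun a => rfl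
  have hτN : ∀ a, τ a ∈ N := fun a => (e.symm (QuotientGroup.mk (cj P (dg a)))).2
  have hτ1 : ∀ a, τ a = 1 ↔ a ^ 2 = 1 := by
    intro a
    rw [hτ, OneMemClass.coe_eq_one, map_eq_one_iff e.symm e.symm.injective]
    constructor
    · intro h2
      exact sq_of_center ((QuotientGroup.eq_one_iff _).mp h2)
    · intro h2
      exact (QuotientGroup.eq_one_iff _).mpr (center_of_sq h2)
  -- conjugation
  have hconj : ∀ (g : G) (B : GL (Fin 2) F) (ρ : F ≃+* F) (J : Matrix (Fin 2) (Fin 2) F) (a b : Fˣ), Acts e g B ρ →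
      (B : Matrix (Fin 2) (Fin 2) F) * (P : Matrix (Fin 2) (Fin 2) F).map ρ = (P : Matrix (Fin 2) (Fin 2) F) * J →
      J * !![ρ (a : F), 0; 0, ρ ((a⁻¹ : Fˣ) : F)] = !![(b : F), 0; 0, ((b⁻¹ : Fˣ) : F)] * J → g * τ a * g⁻¹ = τ b := by
    intro g B ρ J a b hg hJ hab
    have h2 := hg (e.symm (QuotientGroup.mk (cj P (dg a)))) ⟨g * τ a * g⁻¹, hN.conj_mem _ (hτN a) g⟩ (cj P (dg a)) (cj P (dg b)) rfl
      (conj_diag hJ hab) (e.apply_symm_apply _)
    rw [hτ b, ← h2, e.symm_apply_apply]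
  have hj : ∀ j, j ≠ k → ∀ a, x j * τ a * (x j)⁻¹ = τ a := by
    intro j hjk a
    obtain ⟨⟨c, hc⟩, ⟨d, hd⟩⟩ := hi j hjk
    have hone : ∀ a : F, (1 : F ≃+* F) a = a := fun _ => rfl
    rw [h1 j hjk] at hc hd
    have hAj := hA j
    rw [h1 j hjk] at hAj
    refine hconj (x j) (A j) 1 !![c, 0; 0, d] a a hAj ?_ ?_
    · have c0 := congrFun hc 0
      have c1 := congrFun hc 1
      have d0 := congrFun hd 0
      have d1 := congrFun hd 1
      simp only [Matrix.mulVec, dotProduct, Fin.sum_univ_two, Pi.smul_apply, smul_eq_mul, hone] at c0 c1 d0 d1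
      rw [hP]
      ext i l
      fin_cases i <;> fin_cases l <;>
        simp only [Q, Matrix.mul_apply, Fin.sum_univ_two, Matrix.map_apply, hone, Fin.zero_eta, Fin.mk_one, Matrix.of_apply,
          Matrix.cons_val', Matrix.cons_val_zero, Matrix.cons_val_one, Matrix.cons_val_fin_one]
      · linear_combination c0
      · linear_combination d0
      · linear_combination c1
      · linear_combination d1
    · rw [hone, hone, Matrix.mul_fin_two, Matrix.mul_fin_two]
      ext i l
      (revert i l; simp [mul_comm, _root_.Fin.forall_fin_succ])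
  have hkk : ∀ a : Fˣ, x k * τ a * (x k)⁻¹ = τ ((Units.map (σ k : F →* F) a)⁻¹) := by
    intro a
    obtain ⟨c, hc⟩ := hv
    obtain ⟨d, hd⟩ := hw
    refine hconj (x k) (A k) (σ k) !![0, d; c, 0] a _ (hA k) ?_ ?_
    · have c0 := congrFun hc 0
      have c1 := congrFun hc 1
      have d0 := congrFun hd 0
      have d1 := congrFun hd 1
      simp only [Matrix.mulVec, dotProduct, Fin.sum_univ_two, Pi.smul_apply, smul_eq_mul] at c0 c1 d0 d1
      rw [hP]
      ext i l
      fin_cases i <;> fin_cases l <;>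
        simp only [Q, Matrix.mul_apply, Fin.sum_univ_two, Matrix.map_apply, Fin.zero_eta, Fin.mk_one, Matrix.of_apply,
          Matrix.cons_val', Matrix.cons_val_zero, Matrix.cons_val_one, Matrix.cons_val_fin_one]
      · linear_combination c0
      · linear_combination d0
      · linear_combination c1
      · linear_combination d1
    · rw [inv_inv, Matrix.mul_fin_two, Matrix.mul_fin_two]
      have e1 : ((Units.map (σ k : F →* F) a : Fˣ) : F) = σ k (a : F) := rfl
      have e2 : (((Units.map (σ k : F →* F) a)⁻¹ : Fˣ) : F) = σ k ((a⁻¹ : Fˣ) : F) := rfl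
      rw [e1, e2]
      ext i l
      (revert i l; simp [mul_comm, _root_.Fin.forall_fin_succ])
  -- `σ k ^ 2 = 1`
  have hσ2 : ∀ a, σ k (σ k a) = a := by
    have h2 : x k ^ 2 = 1 := by rw [← hr]; exact h.pow k
    have h3 : ∀ a : Fˣ, σ k (σ k (a : F)) = a ∨ σ k (σ k (a : F)) = -a := by
      intro a
      have h4 := hkk a
      have h5 := hkk ((Units.map (σ k : F →* F) a)⁻¹)
      rw [← h4] at h5
      have h6 : x k * (x k * τ a * (x k)⁻¹) * (x k)⁻¹ = τ a := by
        have h7 : x k * (x k * τ a * (x k)⁻¹) * (x k)⁻¹ = x k ^ 2 * τ a * (x k ^ 2)⁻¹ := by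
          rw [pow_two]; group
        rw [h7, h2]; group
      rw [h6, ← map_inv, inv_inv] at h5
      have h8 : τ (a * (Units.map (σ k : F →* F) (Units.map (σ k : F →* F) a))⁻¹) = 1 := by
        rw [map_mul, map_inv, ← h5, mul_inv_cancel]
      rw [hτ1, mul_pow, inv_pow, mul_inv_eq_one] at h8
      have h9 := congrArg Units.val h8
      rw [Units.val_pow_eq_pow_val, Units.val_pow_eq_pow_val] at h9
      exact sq_eq_sq_iff_eq_or_eq_neg.mp h9.symm
    have h3' : ∀ a : F, σ k (σ k a) = a ∨ σ k (σ k a) = -a := by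
      intro a
      by_cases ha : a = 0
      · left
        rw [ha, map_zero, map_zero]
      · exact h3 (Units.mk0 a ha)
    intro a
    rcases h3' a with h4 | h4
    · exact h4
    · rcases h3' (a + 1) with h5 | h5
      · rw [map_add, map_add, map_one, map_one] at h5
        linear_combination h5
      · rw [map_add, map_add, map_one, map_one, h4] at h5
        have h6 : (1 : F) = -1 := by linear_combination h5
        rw [h4]
        linear_combination -a * h6
  -- the element `ν`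
  obtain ⟨u, hu, hu0, hu2⟩ := exists_fixed (σ k) hσ2 h16
  let U : Fˣ := Units.mk0 u hu0
  have hU2 : U ^ 2 ≠ 1 := by
    intro h2
    apply hu2
    have := congrArg Units.val h2
    rwa [Units.val_pow_eq_pow_val, Units.val_mk0, Units.val_one] at this
  obtain ⟨l, hl, hd⟩ := Nat.exists_prime_and_dvd (n := orderOf (U ^ 2)) (fun h2 => hU2 (orderOf_eq_one_iff.mp h2))
  obtain ⟨m, hm⟩ := hd
  have hmpos : 0 < m := by
    rcases Nat.eq_zero_or_pos m with h2 | h2
    · rw [h2, mul_zero] at hm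
      have := orderOf_pos (U ^ 2)
      omega
    · exact h2
  have hνord : orderOf ((U ^ m) ^ 2) = l := by
    have h2 : (U ^ m) ^ 2 = (U ^ 2) ^ m := by rw [← pow_mul, ← pow_mul, mul_comm]
    rw [h2, orderOf_pow' _ hmpos.ne', hm, Nat.gcd_eq_right (Dvd.intro_left l rfl), Nat.mul_div_cancel _ hmpos]
  have hν : σ k ((U ^ m : Fˣ) : F) = ((U ^ m : Fˣ) : F) := by
    rw [Units.val_pow_eq_pow_val, map_pow, Units.val_mk0, hu]
  obtain ⟨μ, hμ⟩ := exists_norm (σ k) hσ2 hk hν (U ^ m).ne_zero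
  have hμ' : μ * Units.map (σ k : F →* F) μ = U ^ m := Units.ext hμ
  -- the new family
  have hc := hcov.mv_comm k (c := τ μ) (fun j hjk => by
    have h2 := hj j hjk μ
    rw [mul_inv_eq_iff_eq_mul] at h2
    exact h2.symm)
  have hy : τ μ * x k * (τ μ)⁻¹ * (x k)⁻¹ = τ (U ^ m) := by
    have h2 := hkk μ⁻¹
    rw [map_inv (Units.map (σ k : F →* F)), inv_inv] at h2
    rw [← hμ', map_mul, ← h2, map_inv]
    group
  rw [hy] at hc
  have hyN : τ (U ^ m) ∈ N := hτN _
  have hyl : τ (U ^ m) ^ l = 1 := by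
    rw [← map_pow, hτ1, ← pow_mul, mul_comm, pow_mul, ← hνord, pow_orderOf_eq_one]
  have hy1 : τ (U ^ m) ≠ 1 := by
    intro h2
    rw [hτ1] at h2
    rw [h2, orderOf_one] at hνord
    exact hl.one_lt.ne hνord
  have hlp : l ≠ ringChar F := by
    intro h2
    have h3 : ((U ^ m) ^ 2) ^ l = 1 := by rw [← hνord]; exact pow_orderOf_eq_one _
    have : Fact l.Prime := ⟨hl⟩
    have : CharP F l := by rw [h2]; infer_instance
    have h4 : ((((U ^ m) ^ 2 : Fˣ) : F) - 1) ^ l = 0 := by
      rw [sub_pow_char, one_pow, ← Units.val_pow_eq_pow_val, h3, Units.val_one, sub_self]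
    have h5 := pow_eq_zero_iff hl.ne_zero |>.mp h4
    have h6 : (U ^ m) ^ 2 = 1 := Units.ext (by rw [Units.val_one]; exact sub_eq_zero.mp h5)
    rw [h6, orderOf_one] at hνord
    exact hl.one_lt.ne hνord
  have hycomm : ∀ j, j ≠ k → τ (U ^ m) * x j = x j * τ (U ^ m) := by
    intro j hjk
    have h2 := hj j hjk (U ^ m)
    rw [mul_inv_eq_iff_eq_mul] at h2
    exact h2.symm
  have hv0 : v ≠ 0 := by
    intro h2
    have h3 := hvw.ne_zero 0
    exact h3 (by simpa using h2)
  obtain ⟨ω, hω⟩ := hI (Function.update x k (τ (U ^ m))) (Function.update r k l)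
    (Function.update A k (Matrix.SpecialLinearGroup.toGL (cj P (dg (U ^ m))))) (fun _ => 1)
    (by
      intro i
      by_cases hik : i = k
      · subst hik
        rw [Function.update_self, Function.update_self]
        exact acts_mem' _ _ (e.apply_symm_apply _)
      · rw [Function.update_of_ne hik, Function.update_of_ne hik]
        have := hA i
        rwa [h1 i hik] at this)
    (by
      intro i
      by_cases hik : i = k
      · subst hik
        rw [Function.update_self]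
        exact hl
      · rw [Function.update_of_ne hik]
        exact h.prime i)
    (by
      intro i
      by_cases hik : i = k
      · subst hik
        rw [Function.update_self, Function.update_self]
        exact hyl
      · rw [Function.update_of_ne hik, Function.update_of_ne hik]
        exact h.pow i)
    (by
      intro i
      by_cases hik : i = k
      · subst hik
        rw [Function.update_self]
        exact hy1
      · rw [Function.update_of_ne hik]
        exact h.ne i)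
    (by
      intro i j
      by_cases hik : i = k
      · by_cases hjk : j = k
        · rw [hik, hjk]
        · subst hik
          rw [Function.update_self, Function.update_of_ne hjk]
          exact hycomm j hjk
      · by_cases hjk : j = k
        · subst hjk
          rw [Function.update_self, Function.update_of_ne hik]
          exact (hycomm i hik).symm
        · rw [Function.update_of_ne hik, Function.update_of_ne hjk]
          exact h.comm i j)
    (by
      intro i j hi' hj'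
      by_cases hik : i = k
      · subst hik
        rw [Function.update_self] at hi'
        exact absurd hi' hlp
      · by_cases hjk : j = k
        · subst hjk
          rw [Function.update_self] at hj'
          exact absurd hj' hlp
        · rw [Function.update_of_ne hik] at hi'
          rw [Function.update_of_ne hjk] at hj'
          exact h.inj (hi'.trans hj'.symm))
    (fun i j h2 => absurd rfl h2) v hv0
    (by
      intro i
      by_cases hik : i = k
      · subst hik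
        rw [Function.update_self]
        refine ⟨((U ^ m : Fˣ) : F), ?_⟩
        have h2 : ((Matrix.SpecialLinearGroup.toGL (cj P (dg (U ^ m))) : GL (Fin 2) F) : Matrix (Fin 2) (Fin 2) F) =
            (P : Matrix (Fin 2) (Fin 2) F) * !![((U ^ m : Fˣ) : F), 0; 0, (((U ^ m)⁻¹ : Fˣ) : F)] *
              ((P⁻¹ : GL (Fin 2) F) : Matrix (Fin 2) (Fin 2) F) := rfl
        have h3 : (P : Matrix (Fin 2) (Fin 2) F) *ᵥ ![1, 0] = v := by
          rw [hP]
          ext j
          (revert j; simp only [Q, Matrix.mulVec, dotProduct, Fin.sum_univ_two, _root_.Fin.forall_fin_succ, Fin.isValue, _root_.Matrix.of_apply, _root_.Matrix.cons_val', _root_.Matrix.cons_val_fin_one, _root_.Matrix.cons_val_zero, _root_.mul_one, _root_.Matrix.cons_val_one, _root_.MulZeroClass.mul_zero, _root_.add_zero, _root_.Matrix.cons_val_succ, _root_.Fin.succ_zero_eq_one, _root_.IsEmpty.forall_iff, _root_.and_self])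
        have h4 : ((P⁻¹ : GL (Fin 2) F) : Matrix (Fin 2) (Fin 2) F) *ᵥ v = ![1, 0] := by
          rw [← h3, Matrix.mulVec_mulVec, ← Units.val_mul, inv_mul_cancel, Units.val_one, Matrix.one_mulVec]
        show _ *ᵥ v = _
        rw [h2, ← Matrix.mulVec_mulVec, h4, ← Matrix.mulVec_mulVec]
        have h5 : !![((U ^ m : Fˣ) : F), 0; 0, (((U ^ m)⁻¹ : Fˣ) : F)] *ᵥ ![1, 0] = ((U ^ m : Fˣ) : F) • ![1, 0] := by
          ext j
          (revert j; simp only [Matrix.mulVec, dotProduct, Fin.sum_univ_two, _root_.Fin.forall_fin_succ, _root_.Units.val_pow_eq_pow_val, _root_.Units.val_inv_eq_inv_val, _root_.Matrix.of_apply, _root_.Matrix.cons_val', _root_.Matrix.cons_val_fin_one, Fin.isValue, _root_.Matrix.cons_val_zero, _root_.mul_one, _root_.Matrix.cons_val_one, _root_.MulZeroClass.mul_zero, _root_.add_zero, _root_.Nat.succ_eq_add_one, Nat.reduceAdd, _root_.Pi.smul_apply, _root_.smul_eq_mul, _root_.Matrix.cons_val_succ, _root_.implies_true, _root_.and_self])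
        rw [h5, Matrix.mulVec_smul, h3]
      · rw [Function.update_of_ne hik]
        have := (hi i hik).1
        rwa [h1 i hik] at this)
  obtain ⟨i, hi'⟩ := hc ω
  exact hω i hi'

end Cfsg.Agent.H366.RC
end

-- part: H522/RC/Torus
section
/-!
# S3510, row C, task H1: an element of the nonsplit torus moved by a field automorphism

`exists_torus_elt`.  `s = w ^ 2 / det w` with `w = t + α`.
-/

set_option autoImplicit false

open Cfsg Matrix

namespace Cfsg.Agent.H522.RC

open Cfsg.Agent.H183.RC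

section fld

variable {F : Type*} [Field F] [Finite F]

theorem sq_card_fix {σ : F ≃+* F} (hσ : σ ≠ 1) : Nat.card {x : F // σ x = x} ^ 2 ≤ Nat.card F := by
  obtain ⟨a, ha⟩ : ∃ a, σ a ≠ a := by
    by_contra hcon
    push Not at hcon
    exact hσ (RingEquiv.ext hcon)
  rw [_root_.sq, ← Nat.card_prod]
  refine Nat.card_le_card_of_injective (fun x : {x : F // σ x = x} × {x : F // σ x = x} => (x.1 : F) + x.2 * a) ?_
  rintro ⟨⟨x, hx⟩, ⟨y, hy⟩⟩ ⟨⟨x', hx'⟩, ⟨y', hy'⟩⟩ h
  have h' : x + y * a = x' + y' * a := h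
  have h1 : y = y' := by
    by_contra hne
    apply ha
    have h2 : y - y' ≠ 0 := sub_ne_zero.2 hne
    have h3 : a = (x' - x) / (y - y') := by
      rw [eq_div_iff h2]
      linear_combination h'
    rw [h3, map_div₀, map_sub, map_sub, hx, hx', hy, hy']
  subst h1
  have h2 : x = x' := add_right_cancel h'
  subst h2
  rfl

theorem card_eig (σ : F ≃+* F) (c : F) : Nat.card {x : F // σ x = c * x} ≤ Nat.card {x : F // σ x = x} := by
  by_cases h : ∃ x₀ : F, x₀ ≠ 0 ∧ σ x₀ = c * x₀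
  · obtain ⟨x₀, h0, hx₀⟩ := h
    have hc : c ≠ 0 := by
      rintro rfl
      rw [zero_mul, map_eq_zero] at hx₀
      exact h0 hx₀
    refine Nat.card_le_card_of_injective (fun x : {x : F // σ x = c * x} => (⟨x / x₀, ?_⟩ : {x : F // σ x = x})) ?_
    · rw [map_div₀, x.2, hx₀, mul_div_mul_left _ _ hc]
    · intro x y h
      have h1 : (x : F) / x₀ = y / x₀ := congrArg (fun z : {x : F // σ x = x} => (z : F)) h
      exact Subtype.ext (by rwa [div_left_inj' h0] at h1)
  · push Not at h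
    refine Nat.card_le_card_of_injective (fun _ : {x : F // σ x = c * x} => (⟨0, map_zero σ⟩ : {x : F // σ x = x})) ?_
    intro x y _
    have h1 : ∀ z : {x : F // σ x = c * x}, (z : F) = 0 := by
      intro z
      by_contra hz
      exact h z hz z.2
    exact Subtype.ext (by rw [h1 x, h1 y])

/-- the counting argument -/
theorem exists_alpha {σ : F ≃+* F} (hσ : σ ≠ 1) (T D c : F) (h2 : (2 : F) = 0 → T ≠ 0) :
    ∃ α : F, (T + 2 * α) * σ (α ^ 2 - D) ≠ c * (α ^ 2 - D) * σ (T + 2 * α) := by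
  classical
  have := Fintype.ofFinite F
  by_contra hcon
  push Not at hcon
  set k := Nat.card {x : F // σ x = x} with hk
  have hk2 := sq_card_fix hσ
  have hkc := card_eig σ c
  have hbad : ∀ α : F, T + 2 * α ≠ 0 → σ ((α ^ 2 - D) / (T + 2 * α)) = c * ((α ^ 2 - D) / (T + 2 * α)) := by
    intro α hα
    have h3 : σ (T + 2 * α) ≠ 0 := by rwa [Ne, map_eq_zero]
    rw [map_div₀, div_eq_iff h3, mul_comm c, mul_assoc, div_mul_eq_mul_div, eq_div_iff hα]
    linear_combination hcon α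
  have hk1 : 2 ≤ k := by
    rw [hk]
    have : Nontrivial {x : F // σ x = x} :=
      ⟨⟨⟨0, map_zero σ⟩, ⟨1, map_one σ⟩, fun h => zero_ne_one (congrArg (fun z : {x : F // σ x = x} => (z : F)) h)⟩⟩
    exact Finite.one_lt_card
  by_cases h : (2 : F) = 0
  · have hT := h2 h
    have h3 : Nat.card F ≤ Nat.card {x : F // σ x = c * x} := by
      refine Nat.card_le_card_of_injective (fun α : F => (⟨(α ^ 2 - D) / T, ?_⟩ : {x : F // σ x = c * x})) ?_
      · have h4 := hbad α (by rwa [h, zero_mul, add_zero])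
        rwa [h, zero_mul, add_zero] at h4
      · intro α β h4
        have h5 : (α ^ 2 - D) / T = (β ^ 2 - D) / T := congrArg (fun z : {x : F // σ x = c * x} => (z : F)) h4
        rw [div_left_inj' hT, sub_left_inj] at h5
        have h6 : (α - β) ^ 2 = 0 := by linear_combination h5 - (α * β - β ^ 2) * h
        exact sub_eq_zero.1 ((pow_eq_zero_iff two_ne_zero).1 h6)
    nlinarith only [hk2, hkc, hk1, h3]
  · have hk3 : 3 ≤ k := by
      rw [hk]
      have h4 : Nat.card (Fin 3) ≤ Nat.card {x : F // σ x = x} := by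
        refine Nat.card_le_card_of_injective ![⟨0, map_zero σ⟩, ⟨1, map_one σ⟩, ⟨-1, by rw [map_neg, map_one]⟩] ?_
        have h5 : (0 : F) ≠ 1 := zero_ne_one
        have h6 : (0 : F) ≠ -1 := by
          intro h6
          exact h5 (by linear_combination -h6)
        have h7 : (1 : F) ≠ -1 := by
          intro h7
          exact h (by linear_combination h7)
        intro i j hij
        have hij' := congrArg (fun z : {x : F // σ x = x} => (z : F)) hij
        fin_cases i <;> fin_cases j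
        exacts [rfl, absurd hij' h5, absurd hij' h6, absurd hij' h5.symm, rfl, absurd hij' h7, absurd hij' h6.symm,
          absurd hij' h7.symm, rfl]
      rwa [Nat.card_fin] at h4
    -- the counting
    let A : Finset F := Finset.univ.filter fun α => T + 2 * α = 0
    let B : Finset F := Finset.univ.filter fun α => α ^ 2 - D = 0
    let C : Finset F := Finset.univ.filter fun α => T + 2 * α ≠ 0 ∧ α ^ 2 - D ≠ 0
    have hU : (Finset.univ : Finset F) ⊆ A ∪ B ∪ C := by
      intro α _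
      rw [Finset.mem_union, Finset.mem_union]
      by_cases h4 : T + 2 * α = 0
      · exact Or.inl (Or.inl (Finset.mem_filter.2 ⟨Finset.mem_univ _, h4⟩))
      by_cases h5 : α ^ 2 - D = 0
      · exact Or.inl (Or.inr (Finset.mem_filter.2 ⟨Finset.mem_univ _, h5⟩))
      · exact Or.inr (Finset.mem_filter.2 ⟨Finset.mem_univ _, h4, h5⟩)
    have hA : A.card ≤ 1 := by
      rw [Finset.card_le_one]
      intro α hα β hβ
      have h4 := (Finset.mem_filter.1 hα).2
      have h5 := (Finset.mem_filter.1 hβ).2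
      have h6 : (2 : F) * (α - β) = 0 := by linear_combination h4 - h5
      rcases mul_eq_zero.1 h6 with h7 | h7
      · exact absurd h7 h
      · exact sub_eq_zero.1 h7
    have hB : B.card ≤ 2 := by
      by_cases h4 : ∃ β, β ∈ B
      · obtain ⟨β, hβ⟩ := h4
        have h5 : B ⊆ {β, -β} := by
          intro α hα
          have h6 := (Finset.mem_filter.1 hα).2
          have h7 := (Finset.mem_filter.1 hβ).2
          have h8 : (α - β) * (α + β) = 0 := by linear_combination h6 - h7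
          rw [Finset.mem_insert, Finset.mem_singleton]
          rcases mul_eq_zero.1 h8 with h9 | h9
          · exact Or.inl (sub_eq_zero.1 h9)
          · exact Or.inr (eq_neg_of_add_eq_zero_left h9)
        exact (Finset.card_le_card h5).trans Finset.card_le_two
      · have h5 : B = ∅ := by
          rw [Finset.eq_empty_iff_forall_notMem]
          push Not at h4
          exact h4
        rw [h5]
        simp
    let X : Finset F := Finset.univ.filter fun x => σ x = c * x
    have hX : X.card ≤ k := by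
      rw [← Fintype.card_subtype, ← Nat.card_eq_fintype_card]
      exact hkc
    have hC : C.card ≤ 2 * (X.erase 0).card := by
      have h4 : ∀ b ∈ C.image (fun α => (α ^ 2 - D) / (T + 2 * α)),
          (C.filter fun α => (α ^ 2 - D) / (T + 2 * α) = b).card ≤ 2 := by
        intro b hb
        obtain ⟨β, hβ, hβb⟩ := Finset.mem_image.1 hb
        have h5 : (C.filter fun α => (α ^ 2 - D) / (T + 2 * α) = b) ⊆ {β, 2 * b - β} := by
          intro α hα
          obtain ⟨hα1, hα2⟩ := Finset.mem_filter.1 hα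
          have e1 := (Finset.mem_filter.1 hα1).2.1
          have e2 := (Finset.mem_filter.1 hβ).2.1
          rw [div_eq_iff e1] at hα2
          rw [div_eq_iff e2] at hβb
          have h8 : (α - β) * (α - (2 * b - β)) = 0 := by linear_combination hα2 - hβb
          rw [Finset.mem_insert, Finset.mem_singleton]
          rcases mul_eq_zero.1 h8 with h9 | h9
          · exact Or.inl (sub_eq_zero.1 h9)
          · exact Or.inr (sub_eq_zero.1 h9)
        exact (Finset.card_le_card h5).trans Finset.card_le_two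
      have h5 := Finset.card_le_mul_card_image C 2 h4
      refine h5.trans (Nat.mul_le_mul_left _ (Finset.card_le_card ?_))
      intro b hb
      obtain ⟨β, hβ, rfl⟩ := Finset.mem_image.1 hb
      obtain ⟨-, e1, e2⟩ := Finset.mem_filter.1 hβ
      rw [Finset.mem_erase]
      exact ⟨div_ne_zero e2 e1, Finset.mem_filter.2 ⟨Finset.mem_univ _, hbad β e1⟩⟩
    have h0 : (0 : F) ∈ X := Finset.mem_filter.2 ⟨Finset.mem_univ _, by rw [map_zero, mul_zero]⟩
    have hX1 := Finset.card_erase_of_mem h0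
    have hXp : 0 < X.card := Finset.card_pos.2 ⟨0, h0⟩
    have h4 := Finset.card_le_card hU
    rw [Finset.card_univ, ← Nat.card_eq_fintype_card] at h4
    have h5 := Finset.card_union_le (A ∪ B) C
    have h6 := Finset.card_union_le A B
    have h7 : Nat.card F ≤ 2 * k + 1 := by omega
    nlinarith only [hk2, hk3, h7]

end fld

section mat

variable {F : Type*} [Field F]

/-- Cayley-Hamilton -/
theorem ch (t : Matrix (Fin 2) (Fin 2) F) : t * t = t.trace • t - t.det • (1 : Matrix (Fin 2) (Fin 2) F) := by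
  ext i j
  (revert i j; simp only [Matrix.mul_apply, Fin.sum_univ_two, Matrix.trace, Matrix.det_fin_two, _root_.Fin.forall_fin_succ, Fin.isValue, _root_.Matrix.diag_apply, _root_.Matrix.sub_apply, _root_.Matrix.smul_apply, _root_.smul_eq_mul, _root_.Fin.succ_zero_eq_one, _root_.IsEmpty.forall_iff, _root_.and_true, _root_.Matrix.one_apply_eq, _root_.mul_one, Nat.reduceAdd, _root_.ne_eq, _root_.zero_ne_one, _root_.not_false_eq_true, _root_.Matrix.one_apply_ne, _root_.MulZeroClass.mul_zero, _root_.sub_zero, _root_.Fin.succ_ne_zero]) <;> (repeat' with_reducible apply And.intro) <;> ring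

theorem noEig_lin {t : GL (Fin 2) F} (ht : NoEig t) {y : GL (Fin 2) F} {a b : F} (hb : b ≠ 0)
    (hy : (y : Matrix (Fin 2) (Fin 2) F) = a • (1 : Matrix (Fin 2) (Fin 2) F) + b • (t : Matrix (Fin 2) (Fin 2) F)) :
    NoEig y := by
  intro c v hv h
  refine ht (b⁻¹ * (c - a)) v hv ?_
  rw [hy, add_mulVec, smul_mulVec, one_mulVec, smul_mulVec] at h
  have h1 : b • ((t : Matrix (Fin 2) (Fin 2) F) *ᵥ v) = (c - a) • v := by
    rw [sub_smul, ← h]
    abel
  rw [mul_smul, ← h1, smul_smul, inv_mul_cancel₀ hb, one_smul]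

theorem det_ne {t : GL (Fin 2) F} (ht : NoEig t) (α : F) :
    ((t : Matrix (Fin 2) (Fin 2) F) + α • (1 : Matrix (Fin 2) (Fin 2) F)).det ≠ 0 := by
  intro h
  obtain ⟨v, hv, hv0⟩ := Matrix.exists_mulVec_eq_zero_iff.2 h
  refine ht (-α) v hv ?_
  rw [add_mulVec, smul_mulVec, one_mulVec] at hv0
  rw [neg_smul]
  exact eq_neg_of_add_eq_zero_left hv0

theorem trace_ne [Finite F] {t : GL (Fin 2) F} (ht : NoEig t) (h2 : (2 : F) = 0) :
    (t : Matrix (Fin 2) (Fin 2) F).trace ≠ 0 := by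
  intro h
  -- `α ^ 2 = det t`
  have : CharP F 2 := CharTwo.of_one_ne_zero_of_two_eq_zero one_ne_zero h2
  obtain ⟨α, hα⟩ : IsSquare (t : Matrix (Fin 2) (Fin 2) F).det := by
    have := Fintype.ofFinite F
    exact FiniteField.isSquare_of_char_two (ringChar.eq_iff.2 ‹_›) _
  refine det_ne ht α ?_
  have h3 := h
  rw [Matrix.trace_fin_two] at h3
  rw [Matrix.det_fin_two] at hα ⊢
  simp only [Matrix.add_apply, Matrix.smul_apply, Matrix.one_apply, smul_eq_mul]
  norm_num only [_root_.ite_true, _root_.mul_one, _root_.zero_ne_one, _root_.ite_false, _root_.MulZeroClass.mul_zero, _root_.add_zero, _root_.one_ne_zero]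
  linear_combination hα + α * h3 + α ^ 2 * h2

end mat

/-- **H1** -/
theorem exists_torus_elt {F : Type*} [Field F] [Finite F] (h4 : 4 ≤ Nat.card F) (t B : GL (Fin 2) F)
    (ht : NoEig t) (σ : F ≃+* F) (hσ : σ ≠ 1) (c : F)
    (hc : ((B * gmap σ t * B⁻¹ : GL (Fin 2) F) : Matrix (Fin 2) (Fin 2) F) = c • (t : Matrix (Fin 2) (Fin 2) F)) :
    ∃ s : SL F, let s' : GL (Fin 2) F := Matrix.SpecialLinearGroup.toGL s
      let y : GL (Fin 2) F := s' * (B * gmap σ s' * B⁻¹)⁻¹
      NoEig y ∧ (∀ a : GL (Fin 2) F, a * t = t * a → a * s' = s' * a ∧ a * y = y * a) := by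
  set t₀ : Matrix (Fin 2) (Fin 2) F := (t : Matrix (Fin 2) (Fin 2) F) with ht₀
  set T := t₀.trace with hT
  set D := t₀.det with hD
  obtain ⟨α, hα⟩ := exists_alpha hσ T D c (trace_ne ht)
  set w : Matrix (Fin 2) (Fin 2) F := t₀ + α • (1 : Matrix (Fin 2) (Fin 2) F) with hw
  set d := w.det with hd
  have hd0 : d ≠ 0 := det_ne ht α
  set s₀ := d⁻¹ * (α ^ 2 - D) with hs₀
  set s₁ := d⁻¹ * (T + 2 * α) with hs₁
  have hww : d⁻¹ • (w * w) = s₀ • (1 : Matrix (Fin 2) (Fin 2) F) + s₁ • t₀ := by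
    have e1 : w * w = (α ^ 2 - D) • (1 : Matrix (Fin 2) (Fin 2) F) + (T + 2 * α) • t₀ := by
      have e2 : w * w = t₀ * t₀ + (2 * α) • t₀ + α ^ 2 • (1 : Matrix (Fin 2) (Fin 2) F) := by
        rw [hw, add_mul, mul_add, mul_add, smul_mul_assoc, one_mul, mul_smul_comm, mul_one, smul_mul_smul_comm, mul_one,
          ← pow_two]
        module
      rw [e2, ch, ← hT, ← hD]
      module
    rw [e1]
    module
  have hdet : (d⁻¹ • (w * w)).det = 1 := by
    rw [Matrix.det_smul, Fintype.card_fin, Matrix.det_mul, ← hd]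
    field_simp
  let s : SL F := ⟨d⁻¹ • (w * w), hdet⟩
  refine ⟨s, ?_⟩
  intro s' y
  have hs' : (s' : Matrix (Fin 2) (Fin 2) F) = s₀ • (1 : Matrix (Fin 2) (Fin 2) F) + s₁ • t₀ := hww
  have hBB : (B : Matrix (Fin 2) (Fin 2) F) * ((B⁻¹ : GL (Fin 2) F) : Matrix (Fin 2) (Fin 2) F) = 1 := by
    rw [← Units.val_mul, mul_inv_cancel, Units.val_one]
  have hc' : (B : Matrix (Fin 2) (Fin 2) F) * t₀.map σ * ((B⁻¹ : GL (Fin 2) F) : Matrix (Fin 2) (Fin 2) F) = c • t₀ := hc
  have hτ : ((B * gmap σ s' * B⁻¹ : GL (Fin 2) F) : Matrix (Fin 2) (Fin 2) F) =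
      σ s₀ • (1 : Matrix (Fin 2) (Fin 2) F) + (c * σ s₁) • t₀ := by
    have e1 : ((B * gmap σ s' * B⁻¹ : GL (Fin 2) F) : Matrix (Fin 2) (Fin 2) F) =
        (B : Matrix (Fin 2) (Fin 2) F) * (s' : Matrix (Fin 2) (Fin 2) F).map σ *
          ((B⁻¹ : GL (Fin 2) F) : Matrix (Fin 2) (Fin 2) F) := rfl
    have e2 : (s₀ • (1 : Matrix (Fin 2) (Fin 2) F) + s₁ • t₀).map σ =
        σ s₀ • (1 : Matrix (Fin 2) (Fin 2) F) + σ s₁ • t₀.map σ := by
      ext i j
      (revert i j; simp only [_root_.Fin.forall_fin_succ, _root_.Matrix.map_apply, _root_.Matrix.add_apply, _root_.Matrix.smul_apply, _root_.smul_eq_mul, _root_.map_add, _root_.map_mul, _root_.add_left_inj, _root_.mul_eq_mul_left_iff, _root_.EmbeddingLike.map_eq_zero_iff, _root_.IsEmpty.forall_iff, _root_.and_true, _root_.Matrix.one_apply_eq, _root_.map_one, _root_.true_or, Nat.reduceAdd, Fin.isValue, _root_.Fin.succ_zero_eq_one, _root_.ne_eq, _root_.zero_ne_one, _root_.not_false_eq_true, _root_.Matrix.one_apply_ne,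 _root_.map_zero, _root_.and_self, _root_.Fin.succ_ne_zero, _root_.true_and])
    rw [e1, hs', e2, mul_add, add_mul, mul_smul_comm, mul_one, smul_mul_assoc, hBB, mul_smul_comm, smul_mul_assoc, hc',
      smul_smul, mul_comm c]
  have hdτ : (σ s₀ • (1 : Matrix (Fin 2) (Fin 2) F) + (c * σ s₁) • t₀).det = 1 := by
    rw [← hτ]
    show (((B * gmap σ s' * B⁻¹ : GL (Fin 2) F) : Matrix (Fin 2) (Fin 2) F)).det = 1
    have e1 : ((B * gmap σ s' * B⁻¹ : GL (Fin 2) F) : Matrix (Fin 2) (Fin 2) F) =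
        (B : Matrix (Fin 2) (Fin 2) F) * (s' : Matrix (Fin 2) (Fin 2) F).map σ *
          ((B⁻¹ : GL (Fin 2) F) : Matrix (Fin 2) (Fin 2) F) := rfl
    have e2 : (s' : Matrix (Fin 2) (Fin 2) F).det = 1 := hdet
    have e3 : ((s' : Matrix (Fin 2) (Fin 2) F).map σ).det = σ ((s' : Matrix (Fin 2) (Fin 2) F).det) :=
      (RingHom.map_det (σ : F →+* F) (s' : Matrix (Fin 2) (Fin 2) F)).symm
    rw [e1, Matrix.det_mul_right_comm, hBB, one_mul, e3, e2, map_one]
  set p := σ s₀ with hp
  set q := c * σ s₁ with hq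
  have hinv : (((B * gmap σ s' * B⁻¹)⁻¹ : GL (Fin 2) F) : Matrix (Fin 2) (Fin 2) F) =
      (p + q * T) • (1 : Matrix (Fin 2) (Fin 2) F) - q • t₀ := by
    apply Units.inv_eq_of_mul_eq_one_right
    rw [hτ]
    have e1 : (p • (1 : Matrix (Fin 2) (Fin 2) F) + q • t₀) * ((p + q * T) • (1 : Matrix (Fin 2) (Fin 2) F) - q • t₀) =
        (p • (1 : Matrix (Fin 2) (Fin 2) F) + q • t₀).det • (1 : Matrix (Fin 2) (Fin 2) F) := by
      rw [hT]
      ext i j
      fin_cases i <;> fin_cases j <;>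
        simp only [Matrix.mul_apply, Fin.sum_univ_two, Matrix.trace_fin_two, Matrix.det_fin_two, _root_.Fin.isValue, _root_.Fin.zero_eta, _root_.Matrix.add_apply, _root_.Matrix.smul_apply, _root_.smul_eq_mul, _root_.Matrix.sub_apply, _root_.Matrix.one_apply_eq, _root_.mul_one, _root_.ne_eq, _root_.zero_ne_one, _root_.not_false_eq_true, _root_.Matrix.one_apply_ne, _root_.MulZeroClass.mul_zero, _root_.zero_add, _root_.one_ne_zero, _root_.zero_sub, _root_.mul_neg, _root_.Fin.mk_one] <;> ring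
    rw [e1, hdτ, one_smul]
  have hy : (y : Matrix (Fin 2) (Fin 2) F) = (s₀ * (p + q * T) + s₁ * q * D) • (1 : Matrix (Fin 2) (Fin 2) F) +
      (s₁ * p - s₀ * q) • t₀ := by
    have e1 : (y : Matrix (Fin 2) (Fin 2) F) = (s' : Matrix (Fin 2) (Fin 2) F) *
        (((B * gmap σ s' * B⁻¹)⁻¹ : GL (Fin 2) F) : Matrix (Fin 2) (Fin 2) F) := rfl
    rw [e1, hinv, hs', add_mul, mul_sub, mul_sub, smul_mul_smul_comm, smul_mul_smul_comm, smul_mul_smul_comm,
      smul_mul_smul_comm, ch t₀, ← hT, ← hD, one_mul, one_mul, mul_one]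
    module
  have hb : s₁ * p - s₀ * q ≠ 0 := by
    have e1 : s₁ * p - s₀ * q = d⁻¹ * σ d⁻¹ * ((T + 2 * α) * σ (α ^ 2 - D) - c * (α ^ 2 - D) * σ (T + 2 * α)) := by
      rw [hp, hq, hs₀, hs₁, map_mul, map_mul]
      ring
    rw [e1]
    refine mul_ne_zero (mul_ne_zero (inv_ne_zero hd0) ?_) (sub_ne_zero.2 hα)
    rw [Ne, map_eq_zero]
    exact inv_ne_zero hd0
  refine ⟨noEig_lin ht hb hy, fun a ha => ?_⟩
  have ha' : (a : Matrix (Fin 2) (Fin 2) F) * t₀ = t₀ * (a : Matrix (Fin 2) (Fin 2) F) := congrArg Units.val ha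
  have key : ∀ (x : GL (Fin 2) F) (u v : F), (x : Matrix (Fin 2) (Fin 2) F) = u • (1 : Matrix (Fin 2) (Fin 2) F) + v • t₀ →
      a * x = x * a := by
    intro x u v hx
    apply Units.ext
    rw [Units.val_mul, Units.val_mul, hx, mul_add, add_mul, mul_smul_comm, mul_one, mul_smul_comm, ha', smul_mul_assoc,
      one_mul, smul_mul_assoc]
  exact ⟨key s' _ _ hs', key y _ _ hy⟩

end Cfsg.Agent.H522.RC
end

-- part: H522/RC/NoEig
section
/-!
# S3510, row C, task H3: elements without eigenvectors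

* `pow_card` : `A ^ (q + 1) = det A` for `A ∈ GL₂(q)` without eigenvectors;
* `noEig_pow`, `card_noEig`.
-/

set_option autoImplicit false

open Cfsg Matrix Polynomial

namespace Cfsg.Agent.H522.RC

open Cfsg.Agent.H183.RC Cfsg.Agent.H106.RC

/-- `A ^ (q + 1) = det A` -/
theorem pow_card {F : Type*} [Field F] [Finite F] {A : GL (Fin 2) F} (hA : NoEig A) :
    ((A ^ (Nat.card F + 1) : GL (Fin 2) F) : Matrix (Fin 2) (Fin 2) F) =
      (A : Matrix (Fin 2) (Fin 2) F).det • (1 : Matrix (Fin 2) (Fin 2) F) := by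
  have := Fintype.ofFinite F
  rw [Nat.card_eq_fintype_card]
  set q := Fintype.card F with hq
  set M : Matrix (Fin 2) (Fin 2) F := (A : Matrix (Fin 2) (Fin 2) F) with hM
  set T := M.trace with hT
  set D := M.det with hD
  -- `A ^ q - A` is invertible
  have h1 : (M ^ q - M).det ≠ 0 := by
    let φ : F[X] →* F := (Matrix.detMonoidHom).comp ((aeval M : F[X] →ₐ[F] Matrix (Fin 2) (Fin 2) F) : F[X] →* Matrix (Fin 2) (Fin 2) F)
    have hφ : ∀ g : F[X], φ g = (aeval M g).det := fun g => rfl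
    have h2 : ((X ^ q - X : F[X]).roots.map fun a => X - C a).prod = X ^ q - X := by
      refine prod_multiset_X_sub_C_of_monic_of_roots_card_eq ?_ ?_
      · refine monic_X_pow_sub ?_
        rw [degree_X]
        exact_mod_cast (Fintype.one_lt_card : 1 < q)
      · rw [FiniteField.roots_X_pow_card_sub_X, FiniteField.X_pow_card_sub_X_natDegree_eq F Fintype.one_lt_card]
        rfl
    have h3 : φ (X ^ q - X) ≠ 0 := by
      rw [← h2, map_multiset_prod, Multiset.map_map]
      intro h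
      rw [Multiset.prod_eq_zero_iff, Multiset.mem_map] at h
      obtain ⟨a, -, ha⟩ := h
      have h4 : φ (X - C a) = 0 := ha
      rw [hφ, map_sub, aeval_X, aeval_C, Algebra.algebraMap_eq_smul_one, sub_eq_add_neg, ← neg_smul] at h4
      exact det_ne hA _ h4
    rw [hφ, map_sub, map_pow, aeval_X] at h3
    exact h3
  -- `A ^ q` is a root of the characteristic polynomial
  have h2 : M ^ q * M ^ q = T • M ^ q - D • (1 : Matrix (Fin 2) (Fin 2) F) := by
    let f : F[X] := X ^ 2 - C T * X + C D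
    have h3 : ∀ N : Matrix (Fin 2) (Fin 2) F, aeval N f = N * N - T • N + D • 1 := by
      intro N
      simp only [f, map_add, map_sub, map_mul, aeval_X, aeval_C, Algebra.algebraMap_eq_smul_one, pow_two,
        smul_mul_assoc, one_mul]
    have h4 : aeval M f = 0 := by
      rw [h3, ch, ← hT, ← hD]
      abel
    have h5 : aeval (M ^ q) f = 0 := by
      rw [← expand_aeval, FiniteField.expand_card, map_pow, h4, zero_pow Fintype.card_ne_zero]
    rw [h3] at h5
    rw [← sub_eq_zero, ← h5]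
    abel
  have h3 : (M ^ q - M) * (M ^ q - (T • (1 : Matrix (Fin 2) (Fin 2) F) - M)) = 0 := by
    have hc : M * M ^ q = M ^ q * M := (Commute.refl M).pow_right q
    rw [sub_mul, mul_sub, mul_sub, mul_sub, mul_sub, h2, hc, mul_smul_comm, mul_one, mul_smul_comm, mul_one, ch M, ← hT, ← hD]
    abel
  have h4 : M ^ q = T • (1 : Matrix (Fin 2) (Fin 2) F) - M := by
    have hu : IsUnit (M ^ q - M) := (Matrix.isUnit_iff_isUnit_det _).2 (isUnit_iff_ne_zero.2 h1)
    exact sub_eq_zero.1 ((hu.mul_right_eq_zero).1 h3)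
  rw [Units.val_pow_eq_pow_val, ← hM, pow_succ, h4, sub_mul, smul_mul_assoc, one_mul, ch M, ← hT, ← hD]
  abel

/-- **H3a** -/
theorem noEig_pow {G F : Type*} [Group G] [Field F] [Finite F] {N : Subgroup G} (hN : N.Normal)
    (hc : Subgroup.centralizer (N : Set G) = ⊥) {e : N ≃* PS F} (h4 : 4 ≤ Nat.card F) {g : G}
    {A : GL (Fin 2) F} (h : Acts e g A 1) (hA : NoEig A) : g ^ (Nat.card F + 1) = 1 :=
  acts_triv hN hc (acts_pow hN h (Nat.card F + 1)) _ (pow_card hA)

/-- a product of distinct numbers `≥ 2` -/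
theorem fact_le_prod (n : ℕ) : ∀ s : Finset ℕ, s.card = n → (∀ a ∈ s, 2 ≤ a) → (n + 1).factorial ≤ ∏ a ∈ s, a := by
  induction n with
  | zero =>
    intro s hs _
    rw [Finset.card_eq_zero.1 hs]
    simp
  | succ n ih =>
    intro s hs h2
    have hne : s.Nonempty := Finset.card_pos.1 (by omega)
    have h1 := ih (s.erase (s.max' hne)) (by rw [Finset.card_erase_of_mem (s.max'_mem hne), hs]; rfl)
      (fun a ha => h2 a (Finset.mem_of_mem_erase ha))
    have h3 : n + 2 ≤ s.max' hne := by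
      have h4 : s ⊆ Finset.Icc 2 (s.max' hne) := fun a ha => Finset.mem_Icc.2 ⟨h2 a ha, s.le_max' a ha⟩
      have h5 := Finset.card_le_card h4
      rw [Nat.card_Icc, hs] at h5
      omega
    rw [← Finset.mul_prod_erase s _ (s.max'_mem hne), Nat.factorial_succ]
    exact Nat.mul_le_mul h3 h1

/-- **H3** -/
theorem card_noEig {G F ι : Type*} [Group G] [Field F] [Finite F] {N : Subgroup G} (hN : N.Normal)
    (hc : Subgroup.centralizer (N : Set G) = ⊥) (e : N ≃* PS F) (h4 : 4 ≤ Nat.card F)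
    [Finite ι] (x : ι → G) (r : ι → ℕ) (h : PF x r) (A : ι → GL (Fin 2) F)
    (hA : ∀ i, Acts e (x i) (A i) 1) (hno : ∀ i, NoEig (A i)) :
    (16 ≤ Nat.card F → 4 * (Nat.card ι + 1) ≤ Nat.card F) ∧
    (7 ≤ Nat.card F → Nat.card F ≠ 9 → 4 * Nat.card ι ≤ Nat.card F ∨ Nat.card ι ≤ 1) := by
  classical
  have := Fintype.ofFinite ι
  have h1 : ∀ i, r i ∣ Nat.card F + 1 := by
    intro i
    have h2 := orderOf_dvd_of_pow_eq_one (noEig_pow hN hc h4 (hA i) (hno i))
    have := Fact.mk (h.prime i)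
    rwa [orderOf_eq_prime (h.pow i) (h.ne i)] at h2
  set s : Finset ℕ := Finset.univ.image r with hs
  have hsc : s.card = Nat.card ι := by
    rw [hs, Finset.card_image_of_injective _ h.inj, Finset.card_univ, Nat.card_eq_fintype_card]
  have h2 : ∏ a ∈ s, a ∣ Nat.card F + 1 := by
    refine Finset.prod_primes_dvd _ (fun a ha => ?_) fun a ha => ?_
    · obtain ⟨i, -, rfl⟩ := Finset.mem_image.1 ha
      exact (h.prime i).prime
    · obtain ⟨i, -, rfl⟩ := Finset.mem_image.1 ha
      exact h1 i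
  have h3 := (fact_le_prod _ s hsc (fun a ha => by
    obtain ⟨i, -, rfl⟩ := Finset.mem_image.1 ha
    exact (h.prime i).two_le)).trans (Nat.le_of_dvd (by omega) h2)
  set m := Nat.card ι with hm
  set q := Nat.card F with hq
  have hbig : 4 ≤ m → 4 * (m + 1) ≤ q := by
    intro hm4
    have h5 : 5 * (m + 1) ≤ (m + 1).factorial := by
      rw [Nat.factorial_succ, mul_comm]
      refine Nat.mul_le_mul_left _ ?_
      have h6 : Nat.factorial 4 ≤ m.factorial := Nat.factorial_le hm4
      have h7 : Nat.factorial 4 = 24 := rfl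
      omega
    omega
  constructor
  · intro h16
    by_cases hm4 : 4 ≤ m
    · exact hbig hm4
    · omega
  · intro h7 h9
    by_cases hm1 : m ≤ 1
    · exact Or.inr hm1
    left
    by_cases hm4 : 4 ≤ m
    · have := hbig hm4
      omega
    by_cases hm3 : m = 3
    · rw [hm3] at h3
      have h6 : (3 + 1).factorial = 24 := rfl
      omega
    · have hm2 : m = 2 := by omega
      rcases Nat.lt_or_ge q 8 with h8 | h8
      · exfalso
        have hq7 : q = 7 := by omega
        have h9 : ∀ i, r i = 2 := by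
          intro i
          have h10 := h1 i
          rw [hq7] at h10
          have h11 : r i ∣ 2 ^ 3 := h10
          exact (Nat.prime_dvd_prime_iff_eq (h.prime i) Nat.prime_two).1 ((h.prime i).dvd_of_dvd_pow h11)
        have h10 : Subsingleton ι := ⟨fun i j => h.inj ((h9 i).trans (h9 j).symm)⟩
        have h11 := Finite.card_le_one_iff_subsingleton.2 h10
        omega
      · omega

end Cfsg.Agent.H522.RC
end

-- part: H522/RC/Tor
section
/-!
# S3510, row C, task H2: families with one field automorphism and elements without eigenvectors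

`tor_of` (`ub` is a hypothesis).
-/

set_option autoImplicit false

open Cfsg Matrix

namespace Cfsg.Agent.H522.RC

open Cfsg.Agent.H183.RC Cfsg.Agent.H106.RC

section

variable {F : Type*} [Field F]

theorem gmap_one (B : GL (Fin 2) F) : gmap 1 B = B := by
  apply Units.ext
  ext i j
  rfl

theorem gmap_inv_apply (σ : F ≃+* F) (B : GL (Fin 2) F) : gmap σ (gmap σ⁻¹ B) = B := by
  apply Units.ext
  ext i j
  exact σ.apply_symm_apply _

theorem gmap_map_inv (σ : F ≃+* F) (B : GL (Fin 2) F) : gmap σ B⁻¹ = (gmap σ B)⁻¹ := map_inv _ _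

/-- commuting modulo scalars -/
theorem comm_or {a b : GL (Fin 2) F} {c : F} (h : (a : Matrix (Fin 2) (Fin 2) F) * b = c • ((b : Matrix (Fin 2) (Fin 2) F) * a)) :
    a * b = b * a ∨ ((a : Matrix (Fin 2) (Fin 2) F).trace = 0 ∧ (b : Matrix (Fin 2) (Fin 2) F).trace = 0) := by
  by_cases hc : c = 1
  · left
    apply Units.ext
    rw [Units.val_mul, Units.val_mul, h, hc, one_smul]
  · right
    have ha : (a : Matrix (Fin 2) (Fin 2) F) * ((a⁻¹ : GL (Fin 2) F) : Matrix (Fin 2) (Fin 2) F) = 1 := by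
      rw [← Units.val_mul, mul_inv_cancel, Units.val_one]
    have ha' : ((a⁻¹ : GL (Fin 2) F) : Matrix (Fin 2) (Fin 2) F) * (a : Matrix (Fin 2) (Fin 2) F) = 1 := by
      rw [← Units.val_mul, inv_mul_cancel, Units.val_one]
    have hb : (b : Matrix (Fin 2) (Fin 2) F) * ((b⁻¹ : GL (Fin 2) F) : Matrix (Fin 2) (Fin 2) F) = 1 := by
      rw [← Units.val_mul, mul_inv_cancel, Units.val_one]
    have hb' : ((b⁻¹ : GL (Fin 2) F) : Matrix (Fin 2) (Fin 2) F) * (b : Matrix (Fin 2) (Fin 2) F) = 1 := by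
      rw [← Units.val_mul, inv_mul_cancel, Units.val_one]
    have hc1 : (1 - c) ≠ 0 := sub_ne_zero.2 (Ne.symm hc)
    constructor
    · -- `b⁻¹ a b = c a`
      have e1 : ((b⁻¹ : GL (Fin 2) F) : Matrix (Fin 2) (Fin 2) F) * ((a : Matrix (Fin 2) (Fin 2) F) * b) =
          c • (a : Matrix (Fin 2) (Fin 2) F) := by
        rw [h, mul_smul_comm, ← mul_assoc, hb', one_mul]
      have e2 := congrArg Matrix.trace e1
      rw [Matrix.trace_mul_comm, mul_assoc, hb, mul_one, Matrix.trace_smul, smul_eq_mul] at e2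
      have e3 : (1 - c) * (a : Matrix (Fin 2) (Fin 2) F).trace = 0 := by linear_combination e2
      exact (mul_eq_zero.1 e3).resolve_left hc1
    · have e1 : ((a : Matrix (Fin 2) (Fin 2) F) * b) * ((a⁻¹ : GL (Fin 2) F) : Matrix (Fin 2) (Fin 2) F) =
          c • (b : Matrix (Fin 2) (Fin 2) F) := by
        rw [h, smul_mul_assoc, mul_assoc, ha, mul_one]
      have e2 := congrArg Matrix.trace e1
      rw [Matrix.trace_mul_comm, ← mul_assoc, ha', one_mul, Matrix.trace_smul, smul_eq_mul] at e2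
      have e3 : (1 - c) * (b : Matrix (Fin 2) (Fin 2) F).trace = 0 := by linear_combination e2
      exact (mul_eq_zero.1 e3).resolve_left hc1

end

/-- **H2** -/
theorem tor_of {G Ω F ι : Type*} [Group G] [MulAction G Ω] [Field F] [Finite F]
    {N : Subgroup G} (hE : Env G Ω N) (e : N ≃* PS F)
    [Finite ι] (hub : ∀ (x : ι → G) (t : ι → GL (Fin 2) F), (∀ i, Acts e (x i) (t i) 1) → (∀ i, NoEig (t i)) →
      4 * Nat.card ι ≤ Nat.card F → ∃ ω : Ω, ∀ i, x i • ω ≠ ω) (h16 : 16 ≤ Nat.card F)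
    (x : ι → G) (r : ι → ℕ) (h : PF x r) (A : ι → GL (Fin 2) F) (σ : ι → F ≃+* F)
    (hA : ∀ i, Acts e (x i) (A i) (σ i)) (k : ι) (hk : σ k ≠ 1)
    (hno : ∀ i, i ≠ k → σ i = 1 ∧ NoEig (A i)) (hex : ∃ i, i ≠ k) : ¬ Cov Ω x := by
  classical
  intro hcov
  have hN := hE.norm
  have hc := hE.cent
  have h4 : 4 ≤ Nat.card F := by omega
  obtain ⟨j, hj⟩ := hex
  have hA1 : ∀ i, i ≠ k → Acts e (x i) (A i) 1 := fun i hi => (hno i hi).1 ▸ hA i
  -- exact commutation
  have hsq : ∀ i, i ≠ k → (A i : Matrix (Fin 2) (Fin 2) F).trace = 0 → r i = 2 := by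
    intro i hi htr
    have h1 := acts_pow hN (hA1 i hi) 2
    have h2 : x i ^ 2 = 1 := by
      refine acts_triv hN hc h1 (-(A i : Matrix (Fin 2) (Fin 2) F).det) ?_
      rw [Units.val_pow_eq_pow_val, pow_two, ch, htr, zero_smul, zero_sub, neg_smul]
    have h3 := orderOf_dvd_of_pow_eq_one h2
    have := Fact.mk (h.prime i)
    rw [orderOf_eq_prime (h.pow i) (h.ne i)] at h3
    exact (Nat.prime_dvd_prime_iff_eq (h.prime i) Nat.prime_two).1 h3
  have hcomm : ∀ i, i ≠ k → A i * A j = A j * A i := by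
    intro i hi
    obtain ⟨-, c, -, hcc⟩ := acts_comm hN h4 (hA1 i hi) (hA1 j hj) (h.comm i j)
    rw [gmap_one, gmap_one] at hcc
    rw [Units.val_mul, Units.val_mul] at hcc
    rcases comm_or hcc with h1 | ⟨h1, h2⟩
    · exact h1.symm
    · have h3 : i = j := h.inj ((hsq i hi h2).trans (hsq j hj h1).symm)
      rw [h3]
  -- the hypothesis of H1
  obtain ⟨-, c, -, hcc⟩ := acts_comm hN h4 (hA1 j hj) (hA k) (h.comm j k)
  rw [gmap_one] at hcc
  obtain ⟨s, hs⟩ := exists_torus_elt h4 (A j) (A k) (hno j hj).2 (σ k) hk c (by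
    rw [Units.val_mul, hcc, Units.val_mul, smul_mul_assoc, mul_assoc, ← Units.val_mul, mul_inv_cancel, Units.val_one,
      mul_one])
  obtain ⟨hy, hcm⟩ := hs
  set s' : GL (Fin 2) F := Matrix.SpecialLinearGroup.toGL s with hs'
  set y : GL (Fin 2) F := s' * (A k * gmap (σ k) s' * (A k)⁻¹)⁻¹ with hyd
  set n : N := e.symm (QuotientGroup.mk s) with hn
  have hnA : Acts e (n : G) s' 1 := acts_mem n s (by rw [hn, MulEquiv.apply_symm_apply])
  have hnx : ∀ i, i ≠ k → (n : G) * x i = x i * n := by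
    intro i hi
    have h1 := acts_mul hN hnA (hA1 i hi)
    have h2 := acts_mul hN (hA1 i hi) hnA
    rw [gmap_one] at h1 h2
    rw [(hcm (A i) (hcomm i hi)).1] at h2
    exact acts_inj hN hc h1 h2
  have hcov' := hcov.mv_comm k hnx
  have hz : Acts e ((n : G) * x k * (n : G)⁻¹ * (x k)⁻¹) y 1 := by
    have h1 := acts_mul hN (acts_mul hN (acts_mul hN hnA (hA k)) (acts_inv hN hnA)) (acts_inv hN (hA k))
    have e1 : (1 : F ≃+* F) * σ k * 1⁻¹ = σ k := by group
    have e2 : (1 : F ≃+* F) * σ k * 1⁻¹ * (σ k)⁻¹ = 1 := by group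
    rw [e2, e1, gmap_one, inv_one, gmap_one, one_mul, gmap_inv_apply, gmap_map_inv] at h1
    have e3 : s' * A k * (gmap (σ k) s')⁻¹ * (A k)⁻¹ = y := by
      rw [hyd]
      group
    rwa [e3] at h1
  have hcard : 4 * Nat.card ι ≤ Nat.card F := by
    have h1 := (card_noEig hN hc e h4 (fun i : {i // i ≠ k} => x i) (fun i => r i)
      ⟨fun i => h.prime i, fun i i' hii => Subtype.ext (h.inj hii), fun i => h.pow i, fun i => h.ne i,
        fun i i' => h.comm i i'⟩ (fun i => A i) (fun i => hA1 i i.2) (fun i => (hno i i.2).2)).1 h16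
    have h2 : Nat.card {i // i ≠ k} + 1 = Nat.card ι := by
      have := Fintype.ofFinite ι
      rw [Nat.card_eq_fintype_card, Nat.card_eq_fintype_card, Fintype.card_subtype_compl, Fintype.card_subtype_eq]
      have : 0 < Fintype.card ι := Fintype.card_pos_iff.2 ⟨k⟩
      omega
    rwa [h2] at h1
  obtain ⟨ω, hω⟩ := hub (Function.update x k ((n : G) * x k * (n : G)⁻¹ * (x k)⁻¹)) (Function.update A k y) (by
    intro i
    by_cases hi : i = k
    · subst hi
      rw [Function.update_self, Function.update_self]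
      exact hz
    · rw [Function.update_of_ne hi, Function.update_of_ne hi]
      exact hA1 i hi) (by
    intro i
    by_cases hi : i = k
    · subst hi
      rw [Function.update_self]
      exact hy
    · rw [Function.update_of_ne hi]
      exact (hno i hi).2) hcard
  obtain ⟨i, hi⟩ := hcov' ω
  exact hω i hi

end Cfsg.Agent.H522.RC
end

-- part: H273/RC/ChiBound
section
/-!
# S3510, row C, task D: `chi_bound` (helper273)

`χ` an irreducible nonlinear character of `GL₂(q)`, `t` without eigenvectors: `(q - 1) ‖χ t‖ ≤ 2 ‖χ 1‖`.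
-/

set_option autoImplicit false

open Cfsg Matrix Cfsg.Agent.Characters.Core Cfsg.Agent.H183.RC

namespace Cfsg.Agent.H273.RC

/-! ### counting -/

section count

variable {G : Type*} [Group G] [Fintype G]

theorem card_conj_eq_le [DecidableEq G] (s y : G) :
    (Finset.univ.filter fun g : G => g * s * g⁻¹ = y).card ≤ Nat.card (Subgroup.centralizer ({s} : Set G)) := by
  classical
  rcases (Finset.univ.filter fun g : G => g * s * g⁻¹ = y).eq_empty_or_nonempty with h | ⟨g0, hg0⟩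
  · rw [h, Finset.card_empty]
    exact Nat.zero_le _
  · rw [Finset.mem_filter] at hg0
    have h1 : (Finset.univ.filter fun g : G => g * s * g⁻¹ = y).card =
        Nat.card {g : G // g * s * g⁻¹ = y} := by
      rw [Nat.card_eq_fintype_card, Fintype.card_subtype]
    rw [h1]
    refine Nat.card_le_card_of_injective (fun g => ⟨g0⁻¹ * g.1, ?_⟩) ?_
    · rw [Subgroup.mem_centralizer_singleton_iff]
      have h2 := g.2
      have h3 : g.1 * s * g.1⁻¹ = g0 * s * g0⁻¹ := h2.trans hg0.2.symm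
      calc g0⁻¹ * g.1 * s = g0⁻¹ * (g.1 * s * g.1⁻¹) * g.1 := by group
        _ = g0⁻¹ * (g0 * s * g0⁻¹) * g.1 := by rw [h3]
        _ = s * (g0⁻¹ * g.1) := by group
    · intro g g' h
      have := congrArg Subtype.val h
      exact Subtype.ext (mul_left_cancel this)

theorem double_count [DecidableEq G] (S Y : Finset G) (f : G → ℝ) (hf : ∀ g s : G, f (g * s * g⁻¹) = f s)
    (h0 : ∀ y, 0 ≤ f y) (hY : ∀ s ∈ S, ∀ g : G, g * s * g⁻¹ ∈ Y) (c : ℕ)
    (hc : ∀ s ∈ S, Nat.card (Subgroup.centralizer ({s} : Set G)) ≤ c)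
    (h2 : ∀ s0 ∈ S, ∃ s1 : G, ∀ s ∈ S, IsConj s0 s → s = s0 ∨ s = s1) :
    (Nat.card G : ℝ) * ∑ s ∈ S, f s ≤ 2 * c * ∑ y ∈ Y, f y := by
  classical
  have h1 : (Nat.card G : ℝ) * ∑ s ∈ S, f s = ∑ s ∈ S, ∑ g : G, f (g * s * g⁻¹) := by
    rw [Finset.mul_sum]
    refine Finset.sum_congr rfl fun s _ => ?_
    rw [Finset.sum_congr rfl fun g _ => hf g s, Finset.sum_const, Finset.card_univ, nsmul_eq_mul,
      Nat.card_eq_fintype_card]
  have h3 : ∀ s ∈ S, ∑ g : G, f (g * s * g⁻¹) ≤ ∑ y ∈ Y, (if IsConj s y then (c : ℝ) else 0) * f y := by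
    intro s hs
    rw [← Finset.sum_fiberwise_of_maps_to (s := Finset.univ) (t := Y) (g := fun g : G => g * s * g⁻¹)
      (fun g _ => hY s hs g)]
    refine Finset.sum_le_sum fun y _ => ?_
    rw [Finset.sum_congr rfl (g := fun _ => f y) (fun g hg => by rw [(Finset.mem_filter.1 hg).2]), Finset.sum_const,
      nsmul_eq_mul]
    refine mul_le_mul_of_nonneg_right ?_ (h0 y)
    by_cases hsy : IsConj s y
    · rw [if_pos hsy]
      exact_mod_cast (card_conj_eq_le s y).trans (hc s hs)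
    · rw [if_neg hsy]
      have h4 : (Finset.univ.filter fun g : G => g * s * g⁻¹ = y) = ∅ := by
        rw [Finset.filter_eq_empty_iff]
        intro g _ hg
        exact hsy (isConj_iff.2 ⟨g, hg⟩)
      rw [h4, Finset.card_empty, Nat.cast_zero]
  rw [h1]
  refine (Finset.sum_le_sum h3).trans ?_
  rw [Finset.sum_comm, Finset.mul_sum]
  refine Finset.sum_le_sum fun y _ => ?_
  rw [← Finset.sum_mul]
  refine mul_le_mul_of_nonneg_right ?_ (h0 y)
  rw [← Finset.sum_filter, Finset.sum_const, nsmul_eq_mul]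
  refine mul_le_mul_of_nonneg_right ?_ (Nat.cast_nonneg c)
  rcases (S.filter fun s => IsConj s y).eq_empty_or_nonempty with h | ⟨s0, hs0⟩
  · rw [h, Finset.card_empty]
    norm_num
  · rw [Finset.mem_filter] at hs0
    obtain ⟨s1, hs1⟩ := h2 s0 hs0.1
    have h5 : (S.filter fun s => IsConj s y) ⊆ {s0, s1} := by
      intro s hs
      rw [Finset.mem_filter] at hs
      rw [Finset.mem_insert, Finset.mem_singleton]
      exact hs1 s hs.1 (hs0.2.trans hs.2.symm)
    have h6 := (Finset.card_le_card h5).trans Finset.card_le_two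
    exact_mod_cast h6

end count

/-! ### `GL₂` -/

section gl

variable {F : Type*} [Field F]

theorem mem_center_iff' {g : GL (Fin 2) F} :
    g ∈ Subgroup.center (GL (Fin 2) F) ↔ ∃ c : F, (g : Matrix (Fin 2) (Fin 2) F) = c • 1 := by
  rw [Matrix.GeneralLinearGroup.mem_center_iff_val_mem_range_scalar]
  constructor
  · rintro ⟨c, hc⟩
    exact ⟨c, by rw [← hc, Matrix.scalar_apply, Matrix.smul_one_eq_diagonal]⟩
  · rintro ⟨c, hc⟩
    exact ⟨c, by rw [hc, Matrix.scalar_apply, Matrix.smul_one_eq_diagonal]⟩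

theorem not_sc {t : GL (Fin 2) F} (ht : NoEig t) (c : F) : (t : Matrix (Fin 2) (Fin 2) F) ≠ c • 1 := by
  intro h
  have hv : (fun _ : Fin 2 => (1 : F)) ≠ 0 := fun h => one_ne_zero (congrFun h 0)
  apply ht c _ hv
  rw [h, Matrix.smul_mulVec, Matrix.one_mulVec]

theorem not_center {t : GL (Fin 2) F} (ht : NoEig t) : t ∉ Subgroup.center (GL (Fin 2) F) := fun h => by
  obtain ⟨c, hc⟩ := mem_center_iff'.1 h
  exact not_sc ht c hc

theorem exists_ab {t s : GL (Fin 2) F} (ht : NoEig t)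
    (hs : s ∈ Subgroup.centralizer ({t} : Set (GL (Fin 2) F))) :
    ∃ a b : F, (s : Matrix (Fin 2) (Fin 2) F) = a • 1 + b • (t : Matrix (Fin 2) (Fin 2) F) := by
  refine S2303.exists_of_commute (not_sc ht) ?_
  have h := congrArg (fun x : GL (Fin 2) F => (x : Matrix (Fin 2) (Fin 2) F))
    (Subgroup.mem_centralizer_singleton_iff.1 hs)
  simpa only [_root_.Units.val_mul] using h

theorem comm_cent {t a b : GL (Fin 2) F} (ht : NoEig t)
    (ha : a ∈ Subgroup.centralizer ({t} : Set (GL (Fin 2) F)))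
    (hb : b ∈ Subgroup.centralizer ({t} : Set (GL (Fin 2) F))) : a * b = b * a := by
  obtain ⟨x, y, h1⟩ := exists_ab ht ha
  obtain ⟨x', y', h2⟩ := exists_ab ht hb
  ext1
  rw [Units.val_mul, Units.val_mul, h1, h2]
  simp only [add_mul, mul_add, Matrix.smul_mul, Matrix.mul_smul, Matrix.one_mul, Matrix.mul_one, smul_smul]
  rw [mul_comm x x', mul_comm x y', mul_comm y x', mul_comm y y']
  abel

theorem noEig_of_cent {t s : GL (Fin 2) F} (ht : NoEig t)
    (hs : s ∈ Subgroup.centralizer ({t} : Set (GL (Fin 2) F))) (hsc : s ∉ Subgroup.center (GL (Fin 2) F)) :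
    NoEig s := by
  obtain ⟨a, b, h1⟩ := exists_ab ht hs
  have hb : b ≠ 0 := by
    rintro rfl
    exact hsc (mem_center_iff'.2 ⟨a, by rw [h1, zero_smul, add_zero]⟩)
  intro c v hv h
  apply ht ((c - a) / b) v hv
  rw [h1, Matrix.add_mulVec, Matrix.smul_mulVec, Matrix.smul_mulVec, Matrix.one_mulVec] at h
  have h2 : b • ((t : Matrix (Fin 2) (Fin 2) F) *ᵥ v) = (c - a) • v := by
    rw [sub_smul, ← h, add_sub_cancel_left]
  rw [div_eq_inv_mul, ← smul_smul, ← h2, smul_smul, inv_mul_cancel₀ hb, one_smul]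

theorem sq_eq (s : Matrix (Fin 2) (Fin 2) F) : s * s = s.trace • s - s.det • (1 : Matrix (Fin 2) (Fin 2) F) := by
  ext i j
  (revert i j; simp only [Matrix.mul_apply, Fin.sum_univ_two, Matrix.trace, Matrix.det_fin_two, _root_.Fin.forall_fin_succ, Fin.isValue, _root_.Matrix.diag_apply, _root_.Matrix.sub_apply, _root_.Matrix.smul_apply, _root_.smul_eq_mul, _root_.Fin.succ_zero_eq_one, _root_.IsEmpty.forall_iff, _root_.and_true, _root_.Matrix.one_apply_eq, _root_.mul_one, Nat.reduceAdd, _root_.ne_eq, _root_.zero_ne_one, _root_.not_false_eq_true, _root_.Matrix.one_apply_ne, _root_.MulZeroClass.mul_zero, _root_.sub_zero, _root_.Fin.succ_ne_zero]) <;> (repeat' with_reducible apply And.intro) <;> ring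

/-- two conjugate elements of the centralizer -/
theorem eq_of_conj {t s s' : GL (Fin 2) F} (ht : NoEig t)
    (hs : s ∈ Subgroup.centralizer ({t} : Set (GL (Fin 2) F)))
    (hs' : s' ∈ Subgroup.centralizer ({t} : Set (GL (Fin 2) F))) (hc : IsConj s s') (hne : s' ≠ s) :
    (s' : Matrix (Fin 2) (Fin 2) F) = (s : Matrix (Fin 2) (Fin 2) F).trace • 1 - s := by
  obtain ⟨g, hg⟩ := isConj_iff.1 hc
  have hM : (s' : Matrix (Fin 2) (Fin 2) F) = (g : Matrix (Fin 2) (Fin 2) F) * s * ((g⁻¹ : GL (Fin 2) F) : _) := by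
    rw [← hg]; simp only [_root_.Units.val_mul, _root_.Matrix.coe_units_inv]
  have htr : (s' : Matrix (Fin 2) (Fin 2) F).trace = (s : Matrix (Fin 2) (Fin 2) F).trace := by
    rw [hM, Matrix.trace_units_conj]
  have hdet : (s' : Matrix (Fin 2) (Fin 2) F).det = (s : Matrix (Fin 2) (Fin 2) F).det := by
    rw [hM, Matrix.det_units_conj]
  obtain ⟨x, y, h1⟩ := exists_ab ht hs
  obtain ⟨x', y', h2⟩ := exists_ab ht hs'
  have hcomm : (s' : Matrix (Fin 2) (Fin 2) F) * s = s * s' := by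
    have h := congrArg (fun x : GL (Fin 2) F => (x : Matrix (Fin 2) (Fin 2) F)) (comm_cent ht hs' hs)
    simpa only [_root_.Units.val_mul] using h
  set D : Matrix (Fin 2) (Fin 2) F := s' - s with hD
  have hD0 : D ≠ 0 := fun h => hne (Units.ext (sub_eq_zero.1 h))
  have hDE : D * ((s' : Matrix (Fin 2) (Fin 2) F) + s - (s : Matrix (Fin 2) (Fin 2) F).trace • 1) = 0 := by
    have e1 := sq_eq (s : Matrix (Fin 2) (Fin 2) F)
    have e2 := sq_eq (s' : Matrix (Fin 2) (Fin 2) F)
    rw [htr, hdet] at e2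
    rw [hD]
    simp only [sub_mul, mul_sub, mul_add, Matrix.mul_smul, Matrix.mul_one]
    rw [e1, e2, hcomm]
    abel
  have hdetD : D.det ≠ 0 := by
    intro h0
    obtain ⟨v, hv, hDv⟩ := Matrix.exists_mulVec_eq_zero_iff.2 h0
    have h3 : D = (x' - x) • 1 + (y' - y) • (t : Matrix (Fin 2) (Fin 2) F) := by
      rw [hD, h1, h2, sub_smul, sub_smul]; abel
    rw [h3, Matrix.add_mulVec, Matrix.smul_mulVec, Matrix.smul_mulVec, Matrix.one_mulVec] at hDv
    by_cases hy : y' - y = 0
    · rw [hy, zero_smul, add_zero] at hDv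
      have hx : x' - x = 0 := (smul_eq_zero.1 hDv).resolve_right hv
      apply hD0
      rw [h3, hx, hy, zero_smul, zero_smul, add_zero]
    · apply ht (-(x' - x) / (y' - y)) v hv
      have h4 : (y' - y) • ((t : Matrix (Fin 2) (Fin 2) F) *ᵥ v) = (-(x' - x)) • v := by
        rw [neg_smul]; exact eq_neg_of_add_eq_zero_right hDv
      rw [div_eq_inv_mul, ← smul_smul, ← h4, smul_smul, inv_mul_cancel₀ hy, one_smul]
  have hE : (s' : Matrix (Fin 2) (Fin 2) F) + s - (s : Matrix (Fin 2) (Fin 2) F).trace • 1 = 0 := by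
    have h5 := congrArg (fun X => D⁻¹ * X) hDE
    simp only [Matrix.mul_zero] at h5
    rwa [← Matrix.mul_assoc, Matrix.nonsing_inv_mul _ (isUnit_iff_ne_zero.2 hdetD), Matrix.one_mul] at h5
  rw [sub_eq_zero] at hE
  exact eq_sub_of_add_eq hE

end gl

section final

variable {F : Type*} [Field F] [Fintype F]

theorem card_center : Nat.card (Subgroup.center (GL (Fin 2) F)) = Fintype.card F - 1 := by
  classical
  rw [← Fintype.card_units, ← Nat.card_eq_fintype_card]
  symm
  refine Nat.card_congr (Equiv.ofBijective (fun u : Fˣ => ⟨Matrix.GeneralLinearGroup.scalar (Fin 2) u, ?_⟩) ⟨?_, ?_⟩)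
  · rw [Matrix.GeneralLinearGroup.center_eq_range_scalar]
    exact ⟨u, rfl⟩
  · intro u v h
    have h1 := congrArg (fun x : Subgroup.center (GL (Fin 2) F) => ((x : GL (Fin 2) F) : Matrix (Fin 2) (Fin 2) F) 0 0) h
    ext
    simpa using h1
  · rintro ⟨g, hg⟩
    rw [Matrix.GeneralLinearGroup.center_eq_range_scalar] at hg
    obtain ⟨u, rfl⟩ := hg
    exact ⟨u, rfl⟩

theorem card_gl : Nat.card (GL (Fin 2) F) = (Fintype.card F ^ 2 - 1) * (Fintype.card F ^ 2 - Fintype.card F) := by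
  rw [Matrix.card_GL_field, Fin.prod_univ_two]
  simp only [_root_.Fin.isValue, _root_.Fin.coe_ofNat_eq_mod, _root_.Nat.zero_mod, _root_.pow_zero, _root_.Nat.mod_succ, _root_.pow_one]

theorem cusp_bound (hq : 3 ≤ Fintype.card F) {χ : GL (Fin 2) F → ℂ} (hχ : IsIrrCharacter (GL (Fin 2) F) χ)
    (h1 : χ 1 = (Fintype.card F : ℂ) - 1) {t : GL (Fin 2) F} (ht : NoEig t) : ‖χ t‖ ≤ 2 := by
  classical
  let _ : Fintype (GL (Fin 2) F) := Fintype.ofFinite _
  set q := Fintype.card F with hqd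
  set T := Subgroup.centralizer ({t} : Set (GL (Fin 2) F)) with hT
  have hab : ∀ a b : T, a * b = b * a := fun a b => Subtype.ext (comm_cent ht a.2 b.2)
  set Z : Subgroup T := (Subgroup.center (GL (Fin 2) F)).subgroupOf T with hZ
  have hZm : ∀ s : T, s ∈ Z ↔ (s : GL (Fin 2) F) ∈ Subgroup.center (GL (Fin 2) F) := fun s => Iff.rfl
  have hcle : Subgroup.center (GL (Fin 2) F) ≤ T := fun z hz => by
    rw [hT, Subgroup.mem_centralizer_singleton_iff]
    exact (Subgroup.mem_center_iff.1 hz t).symm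
  have hcZ : Nat.card Z = q - 1 := by
    rw [← card_center (F := F)]
    exact Nat.card_congr (Subgroup.subgroupOfEquivOfLe hcle).toEquiv
  have hcT : Nat.card T = q ^ 2 - 1 := (S2303.result t).2 ht
  have hχ1 : χ 1 ≠ 0 := isIrr_apply_one_ne_zero hχ
  have hnat : ((q - 1 : ℕ) : ℂ) = (q : ℂ) - 1 := by
    rw [Nat.cast_sub (by omega), Nat.cast_one]
  have hψ : IsCharacter T (fun s : T => χ s) := isCharacter_comp T.subtype (isIrr_isCharacter hχ)
  have hsq : q ^ 2 - 1 = (q + 1) * (q - 1) := by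
    obtain ⟨m, hm⟩ : ∃ m, q = m + 1 := ⟨q - 1, by omega⟩
    rw [hm]
    simp only [Nat.add_sub_cancel]
    rw [Nat.sub_eq_iff_eq_add (by nlinarith only [hm])]
    ring
  obtain ⟨N, hN, hb⟩ := abel_bound hab Z hψ (fun s : T => χ s / χ 1) (fun a ha b hb => by
      obtain ⟨w, -, hw⟩ := CharDeep.DegreeBound.exists_omega hχ ((hZm b).1 hb)
      have h2 := hw 1
      rw [one_mul] at h2
      have h3 : χ ((a * b : T) : GL (Fin 2) F) = w * χ a := hw a
      change χ ((a * b : T) : GL (Fin 2) F) / χ 1 = χ a / χ 1 * (χ b / χ 1)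
      rw [h3, h2]
      field_simp)
    (fun a ha => by
      obtain ⟨w, hw1, hw⟩ := CharDeep.DegreeBound.exists_omega hχ ((hZm a).1 ha)
      have h2 := hw 1
      rw [one_mul] at h2
      change ‖χ a / χ 1‖ = 1
      rw [h2, mul_div_assoc, div_self hχ1, mul_one, hw1])
    (q - 1) (q + 1) (fun z hz => by
      rw [hnat, ← h1, mul_div_cancel₀ _ hχ1]) (by rw [hcT, hcZ, hsq])
  -- the sum over the centralizer
  set S : Finset (GL (Fin 2) F) := Finset.univ.filter fun s => s ∈ T ∧ s ∉ Subgroup.center (GL (Fin 2) F) with hS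
  have hsum : ∑ s : T, (if s ∈ Z then 0 else ‖χ s‖ ^ 2) = ∑ s ∈ S, ‖χ s‖ ^ 2 := by
    have e1 : ∑ s ∈ Finset.univ.filter (fun s : GL (Fin 2) F => s ∈ T),
        (if s ∉ Subgroup.center (GL (Fin 2) F) then ‖χ s‖ ^ 2 else 0) =
        ∑ s : {s : GL (Fin 2) F // s ∈ T}, (if (s : GL (Fin 2) F) ∉ Subgroup.center (GL (Fin 2) F) then ‖χ s‖ ^ 2 else 0) :=
      Finset.sum_subtype (p := fun s => s ∈ T) _ (fun s => by simp) _
    rw [hS, ← Finset.filter_filter, Finset.sum_filter, e1]
    refine Finset.sum_congr rfl fun s _ => ?_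
    by_cases hs : (s : GL (Fin 2) F) ∈ Subgroup.center (GL (Fin 2) F)
    · rw [if_pos ((hZm s).2 hs), if_neg (not_not.2 hs)]
    · rw [if_neg (fun h => hs ((hZm s).1 h)), if_pos hs]
  set Y : Finset (GL (Fin 2) F) := Finset.univ.filter fun s => s ∉ Subgroup.center (GL (Fin 2) F) with hY
  have hdc := double_count S Y (fun s => ‖χ s‖ ^ 2)
    (fun g s => by
      change ‖χ (g * s * g⁻¹)‖ ^ 2 = ‖χ s‖ ^ 2
      rw [isIrr_isClassFunction hχ s g]) (fun y => by (clear * -; positivity))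
    (fun s hs g => by
      rw [hS, Finset.mem_filter] at hs
      rw [hY, Finset.mem_filter]
      refine ⟨Finset.mem_univ _, fun h => hs.2.2 ?_⟩
      have h2 := (inferInstance : (Subgroup.center (GL (Fin 2) F)).Normal).conj_mem _ h g⁻¹
      have h3 : g⁻¹ * (g * s * g⁻¹) * g⁻¹⁻¹ = s := by group
      rwa [h3] at h2) (q ^ 2 - 1)
    (fun s hs => by
      rw [hS, Finset.mem_filter] at hs
      exact ((S2303.result s).2 (noEig_of_cent ht hs.2.1 hs.2.2)).le)
    (fun s0 hs0 => by
      by_cases hex : ∃ s1 ∈ S, IsConj s0 s1 ∧ s1 ≠ s0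
      · obtain ⟨s1, hs1, hc1, hne1⟩ := hex
        refine ⟨s1, fun s hs hc => ?_⟩
        rcases eq_or_ne s s0 with h | h
        · exact Or.inl h
        · right
          rw [hS, Finset.mem_filter] at hs0 hs1 hs
          have h2 := eq_of_conj ht hs0.2.1 hs1.2.1 hc1 hne1
          have h3 := eq_of_conj ht hs0.2.1 hs.2.1 hc h
          exact Units.ext (h3.trans h2.symm)
      · push Not at hex
        exact ⟨s0, fun s hs hc => Or.inl (hex s hs hc)⟩)
  -- the sum over the noncentral elements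
  have hYsum : ∑ y ∈ Y, ‖χ y‖ ^ 2 = (Nat.card (GL (Fin 2) F) : ℝ) - (q - 1) * (q - 1) ^ 2 := by
    have e1 := CharDeep.DegreeBound.sum_sq_irr hχ
    rw [← Finset.sum_filter_add_sum_filter_not Finset.univ (fun s => s ∈ Subgroup.center (GL (Fin 2) F))
      (fun g => ‖χ g‖ ^ 2)] at e1
    have e2 : ∑ g ∈ Finset.univ.filter (fun s => s ∈ Subgroup.center (GL (Fin 2) F)), ‖χ g‖ ^ 2 =
        (q - 1) * (q - 1) ^ 2 := by
      have e3 : ∀ g ∈ Finset.univ.filter (fun s => s ∈ Subgroup.center (GL (Fin 2) F)), ‖χ g‖ ^ 2 =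
          ((q : ℝ) - 1) ^ 2 := by
        intro g hg
        rw [Finset.mem_filter] at hg
        obtain ⟨w, hw1, hw⟩ := CharDeep.DegreeBound.exists_omega hχ hg.2
        have h2 := hw 1
        rw [one_mul] at h2
        rw [h2, norm_mul, hw1, one_mul, h1, ← hnat, Complex.norm_natCast, Nat.cast_sub (by omega), Nat.cast_one]
      rw [Finset.sum_congr rfl e3, Finset.sum_const, nsmul_eq_mul]
      congr 1
      have e4 : (Finset.univ.filter (fun s => s ∈ Subgroup.center (GL (Fin 2) F))).card = q - 1 := by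
        rw [← card_center (F := F), Nat.card_eq_fintype_card, Fintype.card_subtype]
      rw [e4, Nat.cast_sub (by omega), Nat.cast_one]
    rw [e2] at e1
    rw [← e1]
    ring
  rw [hYsum, ← hsum] at hdc
  set X := ∑ s : T, (if s ∈ Z then 0 else ‖χ s‖ ^ 2) with hX
  have hq' : (3 : ℝ) ≤ q := by exact_mod_cast hq
  have hcG : (Nat.card (GL (Fin 2) F) : ℝ) = ((q : ℝ) ^ 2 - 1) * ((q : ℝ) ^ 2 - q) := by
    rw [card_gl, ← hqd, Nat.cast_mul, Nat.cast_sub (by nlinarith only [hq]), Nat.cast_sub (by nlinarith only [])]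
    push_cast
    ring
  have hcT' : ((q ^ 2 - 1 : ℕ) : ℝ) = (q : ℝ) ^ 2 - 1 := by
    rw [Nat.cast_sub (by nlinarith only [hq])]
    push_cast
    ring
  rw [hcT, hcZ, hcT', Nat.cast_sub (by omega : 1 ≤ q)] at hN
  rw [hcG, hcT'] at hdc
  push_cast at hN hdc
  have hN2 : (N : ℝ) < 3 := by
    by_contra hge
    push Not at hge
    have e1 : 3 * ((q : ℝ) ^ 2 - 1) ≤ 4 * (q - 1) + X := by nlinarith only [hcT', hN, hge]
    -- cancel `q ^ 2 - 1` and `q - 1`
    have e2 : (q : ℝ) * X ≤ 2 * ((q : ℝ) - 1) * (q ^ 2 + 1) := by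
      have hpos : (0 : ℝ) < ((q : ℝ) ^ 2 - 1) * (q - 1) := by nlinarith only [hq']
      have e3 : ((q : ℝ) ^ 2 - 1) * (q - 1) * (q * X) ≤
          ((q : ℝ) ^ 2 - 1) * (q - 1) * (2 * ((q : ℝ) - 1) * (q ^ 2 + 1)) := by
        linarith only [hdc]
      exact le_of_mul_le_mul_left e3 hpos
    nlinarith only [hq', e2, mul_le_mul_of_nonneg_left e1 (by linarith only [hq'] : (0 : ℝ) ≤ q)]
  have hN3 : N ≤ 2 := by
    have : N < 3 := by exact_mod_cast hN2
    omega
  have h5 := hb ⟨t, by rw [hT, Subgroup.mem_centralizer_singleton_iff]⟩ (fun h => not_center ht ((hZm _).1 h))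
  refine h5.trans ?_
  exact_mod_cast hN3

/-- **task D of S3510-C** -/
theorem chi_bound (hq : 3 ≤ Fintype.card F) (χ : GL (Fin 2) F → ℂ) (hχ : IsIrrCharacter (GL (Fin 2) F) χ)
    (h1 : χ 1 ≠ 1) (t : GL (Fin 2) F) (ht : NoEig t) :
    ((Fintype.card F : ℝ) - 1) * ‖χ t‖ ≤ 2 * ‖χ 1‖ := by
  have hq' : (3 : ℝ) ≤ Fintype.card F := by exact_mod_cast hq
  rcases (S2298.result (F := F)).1 χ hχ with h | h | h | h
  · exact absurd h h1
  · have h2 := cusp_bound hq hχ h ht
    have h3 : ‖χ 1‖ = (Fintype.card F : ℝ) - 1 := by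
      have h4 : (Fintype.card F : ℂ) - 1 = (((Fintype.card F : ℝ) - 1 : ℝ) : ℂ) := by push_cast; rfl
      rw [h, h4, Complex.norm_real, Real.norm_eq_abs, abs_of_nonneg (by linarith)]
    rw [h3]
    nlinarith only [hq', h2]
  · have h2 := (S2320.result χ hχ h t).2 ht
    rw [h2, h, Complex.norm_natCast]
    linarith
  · have h2 := (S2309.result χ hχ t).2 h ht
    rw [h2, norm_zero, mul_zero]
    positivity

end final

end Cfsg.Agent.H273.RC
end

-- part: H183/RC/Main
section
/-!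
# S3510, row C: regular cycles for `PSL₂(F)` (helper183; pieces by helper273, helper397, helper297, helper188, helper366,
helper522, helper588)

* `noCov` : no covers for `PSL₂(F)`, `|F| ≥ 7`, `|F| ≠ 9`;
* `rc_psl2` : the row.
-/

set_option autoImplicit false

namespace Cfsg.Agent.H183.RC

open Cfsg Matrix Cfsg.Agent.H106.RC

section arith

theorem card_small {a r q : ℕ} (ha : 2 ≤ a) (hr : r.Prime) (hq : q = a ^ r) (h7 : 7 ≤ q) (h9 : q ≠ 9) :
    16 ≤ q ∨ (q = 8 ∧ r = 3) := by
  have h2 := hr.two_le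
  by_cases h4 : 4 ≤ a
  · left
    calc 16 = 4 ^ 2 := by norm_num
      _ ≤ a ^ 2 := Nat.pow_le_pow_left h4 2
      _ ≤ a ^ r := Nat.pow_le_pow_right (by omega) h2
      _ = q := hq.symm
  · by_cases hr3 : r ≤ 3
    · have h5 : a = 2 ∨ a = 3 := by omega
      have h6 : r = 2 ∨ r = 3 := by omega
      rcases h5 with rfl | rfl <;> rcases h6 with rfl | rfl <;> norm_num at hq <;> omega
    · left
      calc 16 = 2 ^ 4 := by norm_num
        _ ≤ a ^ 4 := Nat.pow_le_pow_left ha 4
        _ ≤ a ^ r := Nat.pow_le_pow_right (by omega) (by omega)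
        _ = q := hq.symm

theorem pow_big {n s : ℕ} (hn : 2 ≤ n) (hs : 3 ≤ s) : 7 ≤ n ^ s ∧ n ^ s ≠ 9 := by
  by_cases h3 : 3 ≤ n
  · have : 27 ≤ n ^ s := calc 27 = 3 ^ 3 := by norm_num
      _ ≤ n ^ 3 := Nat.pow_le_pow_left h3 3
      _ ≤ n ^ s := Nat.pow_le_pow_right (by omega) hs
    omega
  · have h2 : n = 2 := by omega
    subst h2
    have h8 : 8 ≤ 2 ^ s := calc 8 = 2 ^ 3 := by norm_num
      _ ≤ 2 ^ s := Nat.pow_le_pow_right (by omega) hs
    refine ⟨by omega, fun h => ?_⟩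
    have : 2 ∣ 2 ^ s := dvd_pow_self 2 (by omega)
    omega

theorem two_fields {p f a b r s q : ℕ} (hp : p.Prime) (hq : q = p ^ f) (ha : 2 ≤ a) (hb : 2 ≤ b) (hr : r.Prime)
    (hs : s.Prime) (hrs : r ≠ s) (h1 : q = a ^ r) (h2 : q = b ^ s) :
    (7 ≤ a ∧ a ≠ 9) ∨ (7 ≤ b ∧ b ≠ 9) := by
  have hcop : Nat.Coprime r s := (Nat.coprime_primes hr hs).2 hrs
  obtain ⟨i, -, hi⟩ : ∃ i ≤ f, a = p ^ i :=
    (Nat.dvd_prime_pow hp).1 (by rw [← hq, h1]; exact dvd_pow_self a hr.ne_zero)
  obtain ⟨j, -, hj⟩ : ∃ j ≤ f, b = p ^ j :=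
    (Nat.dvd_prime_pow hp).1 (by rw [← hq, h2]; exact dvd_pow_self b hs.ne_zero)
  have h3 : i * r = j * s := by
    apply Nat.pow_right_injective hp.two_le
    change p ^ (i * r) = p ^ (j * s)
    rw [pow_mul, pow_mul, ← hi, ← hj, ← h1, ← h2]
  have hi0 : i ≠ 0 := by rintro rfl; rw [pow_zero] at hi; omega
  have hj0 : j ≠ 0 := by rintro rfl; rw [pow_zero] at hj; omega
  have hr2 := hr.two_le
  have hs2 := hs.two_le
  by_cases hs3 : 3 ≤ s
  · left
    obtain ⟨m, rfl⟩ : s ∣ i := hcop.symm.dvd_of_dvd_mul_right (Dvd.intro_left j h3.symm)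
    rw [hi, mul_comm, pow_mul]
    apply pow_big _ hs3
    have : m ≠ 0 := by rintro rfl; exact hi0 (mul_zero _)
    calc 2 ≤ p := hp.two_le
      _ = p ^ 1 := (pow_one p).symm
      _ ≤ p ^ m := Nat.pow_le_pow_right hp.pos (Nat.one_le_iff_ne_zero.2 this)
  · right
    have hr3 : 3 ≤ r := by omega
    obtain ⟨m, rfl⟩ : r ∣ j := hcop.dvd_of_dvd_mul_right (Dvd.intro_left i h3)
    rw [hj, mul_comm, pow_mul]
    apply pow_big _ hr3
    have : m ≠ 0 := by rintro rfl; exact hj0 (mul_zero _)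
    calc 2 ≤ p := hp.two_le
      _ = p ^ 1 := (pow_one p).symm
      _ ≤ p ^ m := Nat.pow_le_pow_right hp.pos (Nat.one_le_iff_ne_zero.2 this)

end arith

section card

variable {F : Type} [Field F] [Finite F]

theorem card_ps : ∃ d : ℕ, (d = 1 ∨ d = 2) ∧ Nat.card (PS F) * d = Nat.card F * (Nat.card F ^ 2 - 1) := by
  have := Fintype.ofFinite F
  refine ⟨Nat.gcd 2 (Nat.card F - 1), ?_, ?_⟩
  · exact (Nat.dvd_prime Nat.prime_two).1 (Nat.gcd_dvd_left 2 _)
  · have h := Cfsg.Agent.ClassicalGeometry.PSL2Basic.card_PSL2_gcd (F := F)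
    rw [← Nat.card_eq_fintype_card] at h
    exact h

/-- J1: nonexceptional -/
theorem not_exc (h7 : 7 ≤ Nat.card F) (h9 : Nat.card F ≠ 9) : ¬ Exc (PS F) := by
  obtain ⟨d, hd, hcard⟩ := card_ps (F := F)
  have key : ∀ n : ℕ, Nonempty (PS F ≃* alternatingGroup (Fin n)) → Nat.card (PS F) = Nat.card (alternatingGroup (Fin n)) :=
    fun n ⟨e⟩ => Nat.card_congr e.toEquiv
  have h5 : Nat.card (alternatingGroup (Fin 5)) = 60 := by
    rw [nat_card_alternatingGroup]; simp [Nat.factorial]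
  have h6 : Nat.card (alternatingGroup (Fin 6)) = 360 := by
    rw [nat_card_alternatingGroup]; simp [Nat.factorial]
  have h8 : Nat.card (alternatingGroup (Fin 8)) = 20160 := by
    rw [nat_card_alternatingGroup]; simp [Nat.factorial]
  generalize Nat.card F = q at *
  have hbd : q ≤ 40 ∨ 40320 < q * (q ^ 2 - 1) := by
    by_cases h : q ≤ 40
    · exact Or.inl h
    · right
      push Not at h
      calc 40320 < 41 * (41 ^ 2 - 1) := by norm_num
        _ ≤ q * (q ^ 2 - 1) := Nat.mul_le_mul h (Nat.sub_le_sub_right (Nat.pow_le_pow_left h 2) 1)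
  have main : ∀ n, Nat.card (PS F) = n → (n = 60 ∨ n = 360 ∨ n = 20160) → False := by
    intro n hn hn'
    rw [hn] at hcard
    rcases hbd with hq | hq
    · rcases hn' with rfl | rfl | rfl <;> rcases hd with rfl | rfl <;> interval_cases q <;> (clear * - hcard h9; omega)
    · rcases hn' with rfl | rfl | rfl <;> rcases hd with rfl | rfl <;> omega
  rintro (h | h | h)
  · exact main 60 ((key 5 h).trans h5) (Or.inl rfl)
  · exact main 360 ((key 6 h).trans h6) (Or.inr (Or.inl rfl))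
  · exact main 20160 ((key 8 h).trans h8) (Or.inr (Or.inr rfl))

theorem card_ps_lt (K : Subfield F) (h2 : 2 ≤ Nat.card K) (h : Nat.card K ^ 2 ≤ Nat.card F) :
    Nat.card (PS K) < Nat.card (PS F) := by
  obtain ⟨d, hd, hcard⟩ := card_ps (F := F)
  obtain ⟨d', hd', hcard'⟩ := card_ps (F := K)
  set k := Nat.card K
  set q := Nat.card F
  have h3 : 2 * k ≤ q := by nlinarith only [h2, h]
  have h4 : 2 * k * (k ^ 2) ≤ q * (q ^ 2 - 1) := by
    apply Nat.mul_le_mul h3
    have h5 : k ^ 2 + 1 ≤ q ^ 2 := by nlinarith only [h2, h3]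
    omega
  have h5 : k * (k ^ 2 - 1) < k * k ^ 2 := by
    apply Nat.mul_lt_mul_of_pos_left _ (by omega)
    have : 0 < k ^ 2 := by positivity
    omega
  have h6 : 2 * (k * k ^ 2) ≤ Nat.card (PS F) * d := by rw [hcard, ← mul_assoc]; exact h4
  have h7 : Nat.card (PS K) ≤ k * (k ^ 2 - 1) := by
    rw [← hcard']
    rcases hd' with rfl | rfl <;> omega
  rcases hd with rfl | rfl <;> (clear * - hcard' h5 h7 h6; omega)

end card

/-- no covers for `PSL₂(F)` -/
theorem noCov {F : Type} [Field F] [Finite F] (h7 : 7 ≤ Nat.card F) (h9 : Nat.card F ≠ 9)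
    (hIH : IH (Nat.card (PS F))) : NoCov (PS F) := by
  classical
  intro G _ _ Ω _ _ _ N hE e ι _ x r hPF hcov _
  have hN := hE.norm
  have hcen := hE.cent
  have h4 : 4 ≤ Nat.card F := by omega
  choose A σ hA using fun i => acts_exists hN e h4 (x i)
  have hσr : ∀ i, σ i ^ r i = 1 := fun i => sigma_pow hN h4 (hA i) (hPF.pow i)
  have hline : ¬ ∃ v : Fin 2 → F, v ≠ 0 ∧ ∀ i, FixL (A i) (σ i) v := by
    rintro ⟨v, hv, hfix⟩
    obtain ⟨ω, hω⟩ := partI (Ω := Ω) hE e h7 h9 x r A σ hA hPF.prime hPF.pow hPF.ne hPF.comm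
      (fun i j h1 h2 => hPF.inj (h1.trans h2.symm)) (fun i j _ _ h => hPF.inj h) v hv hfix
    obtain ⟨i, hi⟩ := hcov ω
    exact hω i hi
  have hcl := (classify hN hcen e h4 x r hPF A σ hA).resolve_left hline
  obtain ⟨i₀⟩ : Nonempty ι := by
    obtain ⟨ω⟩ := (inferInstance : Nonempty Ω)
    obtain ⟨i, _⟩ := hcov ω
    exact ⟨i⟩
  -- fixed fields
  set a : ι → ℕ := fun i => Nat.card {y : F // σ i y = y} with ha
  have ha2 : ∀ i, 2 ≤ a i := fun i => Cfsg.Agent.StdL2.FGal.one_lt_card_fixed (σ i)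
  have hord : ∀ i, σ i ≠ 1 → Nat.card F = a i ^ r i := by
    intro i hi
    have h1 := Cfsg.Agent.StdL2.FGal.card_fixed (σ i)
    have hp : Fact (r i).Prime := ⟨hPF.prime i⟩
    rwa [orderOf_eq_prime (hσr i) hi] at h1
  by_cases hall : ∀ i, σ i = 1
  · rcases hcl with hno | ⟨k, hk, -⟩
    · have hno' : ∀ i, NoEig (A i) := fun i => hno i (hall i)
      have hA1 : ∀ i, Acts e (x i) (A i) 1 := fun i => by
        have := hA i
        rwa [hall i] at this
      rcases (Cfsg.Agent.H522.RC.card_noEig hN hcen e h4 x r hPF A hA1 hno').2 h7 h9 with h1 | h1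
      · have := Fintype.ofFinite F
        obtain ⟨ω, hω⟩ := ub_of (Ω := Ω) (fun χ hχ h1 t ht => Cfsg.Agent.H273.RC.chi_bound
          (by rw [← Nat.card_eq_fintype_card]; omega) χ hχ h1 t ht) hE e h4 x A hA1 hno' h1
        obtain ⟨i, hi⟩ := hcov ω
        exact hω i hi
      · obtain ⟨j, hj⟩ := hcov.two hE hPF.ne i₀
        have hsub : Subsingleton ι := (Finite.card_le_one_iff_subsingleton).1 h1
        exact hj (Subsingleton.elim _ _)
    · exact hk (hall k)
  · push Not at hall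
    obtain ⟨k, hk⟩ := hall
    by_cases hbig : ∃ i, σ i ≠ 1 ∧ 7 ≤ a i ∧ a i ≠ 9
    · obtain ⟨i, hi, hi7, hi9⟩ := hbig
      let K : Subfield F := RingHom.eqLocusField (σ i : F →+* F) (RingHom.id F)
      have hK : ∀ y : F, y ∈ K ↔ σ i y = y := fun y => Iff.rfl
      have hKa : Nat.card K = a i := Nat.card_congr (Equiv.subtypeEquivRight hK)
      have hK4 : 4 ≤ Nat.card K := by omega
      have hfK : Fintype K := Fintype.ofFinite K
      have hK4' : 3 < Fintype.card K := by rw [← Nat.card_eq_fintype_card]; omega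
      refine Cfsg.Agent.H188.RC.mcase_of (fun {G Ω F ι} _ _ _ _ _ _ {N} hE e h7 h9 _ x r A σ a1 a2 a3 a4 a5 a6 a7 v hv hf =>
        partI hE e h7 h9 x r A σ a1 a2 a3 a4 a5 a6 a7 v hv hf) hE e h7 h9 x r hPF A σ hA i hi K hK hK4 ?_ hcov
      apply hIH (PS K) (Cfsg.Agent.TwoFusion.SLTwoFacts.isSimpleGroup_psl hK4')
        (Cfsg.Agent.H188.RC.not_comm_ps hK4)
      · exact Or.inl ⟨K, inferInstance, hfK, 2, le_rfl, fun _ => by
          rw [← Nat.card_eq_fintype_card]; omega, ⟨MulEquiv.refl _⟩⟩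
      · exact not_exc (by omega) (by omega)
      · apply card_ps_lt K (by omega)
        rw [hKa, hord i hi]
        exact Nat.pow_le_pow_right (by omega) (hPF.prime i).two_le
    · push Not at hbig
      -- only one member has a field part
      have huniq : ∀ i, i ≠ k → σ i = 1 := by
        intro i hik
        by_contra hi
        have hp : (ringChar F).Prime :=
          (CharP.char_is_prime_or_zero F (ringChar F)).resolve_right (CharP.char_ne_zero_of_finite F (ringChar F))
        obtain ⟨f, hf⟩ : ∃ f : ℕ, Nat.card F = ringChar F ^ f := by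
          have := Fintype.ofFinite F
          obtain ⟨n, -, hn⟩ := FiniteField.card F (ringChar F)
          exact ⟨n, by rw [Nat.card_eq_fintype_card, hn]⟩
        rcases two_fields hp hf (ha2 i) (ha2 k) (hPF.prime i) (hPF.prime k) (fun h => hik (hPF.inj h)) (hord i hi)
          (hord k hk) with h1 | h1
        · exact h1.2 (hbig i hi h1.1)
        · exact h1.2 (hbig k hk h1.1)
      have hsmall := card_small (ha2 k) (hPF.prime k) (hord k hk) h7 h9
      have hex : ∃ i, i ≠ k := hcov.two hE hPF.ne k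
      rcases hcl with hno | ⟨k', hk', hr', v, w, hvw, hi, hv, hw⟩
      · rcases hsmall with h16 | ⟨h8, h3⟩
        · have := Fintype.ofFinite F
          exact Cfsg.Agent.H522.RC.tor_of hE e (fun x t hx ht hn => ub_of (fun χ hχ h1 t ht =>
            Cfsg.Agent.H273.RC.chi_bound (by rw [← Nat.card_eq_fintype_card]; omega) χ hχ h1 t ht) hE e h4 x t hx ht hn)
            h16 x r hPF A σ hA k hk (fun i hi => ⟨huniq i hi, hno i (huniq i hi)⟩) hex hcov
        · obtain ⟨i, hik⟩ := hex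
          have hA1 : Acts e (x i) (A i) 1 := by
            have := hA i
            rwa [huniq i hik] at this
          have h1 := Cfsg.Agent.H522.RC.noEig_pow hN hcen h4 hA1 (hno i (huniq i hik))
          rw [h8] at h1
          have h2 : orderOf (x i) = r i := by
            have hp : Fact (r i).Prime := ⟨hPF.prime i⟩
            exact orderOf_eq_prime (hPF.pow i) (hPF.ne i)
          have h5 : r i ∣ 3 ^ 2 := by
            rw [← h2]
            exact orderOf_dvd_of_pow_eq_one h1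
          have h6 : r i = 3 := (Nat.prime_dvd_prime_iff_eq (hPF.prime i) Nat.prime_three).1
            ((hPF.prime i).dvd_of_dvd_pow h5)
          exact hik (hPF.inj (h6.trans h3.symm))
      · have hkk : k' = k := by
          by_contra h
          exact hk' (huniq k' h)
        subst hkk
        rcases hsmall with h16 | ⟨h8, h3⟩
        · exact Cfsg.Agent.H366.RC.swap_of hE e (fun x r A σ a b c d f g h' v hv hf =>
            partI hE e h7 h9 x r A σ a b c d f g h' v hv hf) h16 x r hPF A σ hA k' hk hr' huniq v w hvw hi hv hw hcov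
        · omega

theorem rc_psl2 {S : Type} [Group S] [Finite S] (hE : ¬ Exc S) (hIH : IH (Nat.card S)) {F : Type} [Field F] [Finite F]
    (h4 : 4 ≤ Nat.card F) (e : S ≃* PS F) : RC S := by
  have := Fintype.ofFinite F
  have hcF := Nat.card_eq_fintype_card (α := F)
  have h3 : 3 < Fintype.card F := by omega
  have h6 : Nat.card F ≠ 6 := by
    intro h
    obtain ⟨n, hp, hn⟩ := FiniteField.card F (ringChar F)
    rw [← hcF, h] at hn
    have h1 : (2 : ℕ) ∣ ringChar F ^ (n : ℕ) := by rw [← hn]; norm_num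
    have h2 : (3 : ℕ) ∣ ringChar F ^ (n : ℕ) := by rw [← hn]; norm_num
    have h3 := (Nat.prime_dvd_prime_iff_eq Nat.prime_two hp).1 (Nat.prime_two.dvd_of_dvd_pow h1)
    have h4 := (Nat.prime_dvd_prime_iff_eq Nat.prime_three hp).1 (Nat.prime_three.dvd_of_dvd_pow h2)
    omega
  have h4' : Nat.card F ≠ 4 := by
    intro h
    apply hE
    obtain ⟨e'⟩ := Cfsg.Agent.S0252.result (F := F) (by rw [← hcF]; exact h)
    exact Or.inl ⟨e.trans e'⟩
  have h5' : Nat.card F ≠ 5 := by
    intro h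
    apply hE
    obtain ⟨e'⟩ := Cfsg.Agent.S0253.result (F := F) (by rw [← hcF]; exact h)
    exact Or.inl ⟨e.trans e'⟩
  have h9' : Nat.card F ≠ 9 := by
    intro h
    apply hE
    obtain ⟨e'⟩ := Cfsg.Agent.S0254.result (F := F) (by rw [← hcF]; exact h)
    exact Or.inr (Or.inl ⟨e.trans e'⟩)
  rw [Nat.card_congr e.toEquiv] at hIH
  have h := rc_of_noCov (Cfsg.Agent.TwoFusion.SLTwoFacts.isSimpleGroup_psl h3) (Cfsg.Agent.H188.RC.not_comm_ps h4)
    (noCov (by omega) h9' hIH)
  exact RC.congr e.symm h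

end Cfsg.Agent.H183.RC
end

private theorem dce_7f8df9df918d : _root_.True := by
  try have : _root_.True := by simp only [_root_.Cfsg.Agent.H188.RC.itm.eq_1]
  try have : _root_.True := by simp only [_root_.Cfsg.Agent.H188.RC.tv.eq_1]
  try have : _root_.True := by simp only [_root_.Cfsg.Agent.H188.RC.itm.eq_def]
  try have : _root_.True := by simp only [_root_.Cfsg.Agent.H188.RC.itm.eq_2]
  try have : _root_.True := by simp only [_root_.Cfsg.Agent.H188.RC.sl.eq_1]
  try have : _root_.True := by simp only [_root_.Cfsg.Agent.H188.RC.dg.eq_1]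
  exact _root_.True.intro
end

-- part: H930/RC/F42a_mg
section
prune_inst 0x30003104278000080004000060201cd39b000520000880000880000004802c40048208208200010802220005003000081000000000000000008400000118008000000400a0480019400000000008010000200000000000000000000000000000010000000
set_option linter.all false
open scoped Cfsg.Agent.FastGrp

-- part: H930/RC/Base
section
/-!
# S3510, linear row: the homomorphism `G → Aut(PSL_n(F))` (helper930)

`cS hN e : G →* MulAut S` : the action of `G` on the normal subgroup `N ≅ S`.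
-/

set_option autoImplicit false

namespace Cfsg.Agent.H930.RC

open Cfsg.Agent.H106.RC MulAction
open Cfsg.Agent.ClassicalGeometry.AutPSL.Root Cfsg.Agent.ClassicalGeometry.AutPSL.Auto
open Cfsg.Agent.H199.PslAut Cfsg.Agent.H199.PslField

section cS

variable {G S : Type*} [Group G] [Group S] {N : Subgroup G}

/-- the action of `G` on the normal subgroup `N ≅ S` -/
def cS (hN : N.Normal) (e : N ≃* S) : G →* MulAut S :=
  (MulAut.congr e).toMonoidHom.comp (@MulAut.conjNormal G _ N hN)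

theorem cS_apply (hN : N.Normal) (e : N ≃* S) (g : G) (s : S) :
    cS hN e g s = e ⟨g * (e.symm s : N) * g⁻¹, hN.conj_mem _ (e.symm s).2 g⟩ := rfl

theorem cS_spec (hN : N.Normal) (e : N ≃* S) (g : G) (s : S) :
    ((e.symm (cS hN e g s) : N) : G) = g * (e.symm s : N) * g⁻¹ := by
  rw [cS_apply, MulEquiv.symm_apply_apply]

theorem cS_coe (hN : N.Normal) (e : N ≃* S) (n : N) : cS hN e n = MulAut.conj (e n) := by
  apply MulEquiv.ext
  intro s
  rw [MulAut.conj_apply, ← e.injective.eq_iff.2 rfl]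
  apply e.symm.injective
  apply Subtype.ext
  rw [cS_spec, map_mul, map_mul, map_inv, MulEquiv.symm_apply_apply]
  rfl

theorem cS_inj (hN : N.Normal) (e : N ≃* S) (hc : Subgroup.centralizer (N : Set G) = ⊥) :
    Function.Injective (cS hN e) := by
  rw [injective_iff_map_eq_one]
  intro g hg
  rw [← Subgroup.mem_bot, ← hc, Subgroup.mem_centralizer_iff]
  intro n hn
  have h1 := cS_spec hN e g (e ⟨n, hn⟩)
  rw [hg, MulAut.one_apply, MulEquiv.symm_apply_apply] at h1
  change n = g * n * g⁻¹ at h1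
  rw [eq_mul_inv_iff_mul_eq] at h1
  exact h1

/-- change of the identification `N ≅ S` -/
theorem cS_trans (hN : N.Normal) (e : N ≃* S) (α : MulAut S) (g : G) :
    cS hN (e.trans α) g = α * cS hN e g * α⁻¹ := by
  apply MulEquiv.ext
  intro s
  rfl

end cS

end Cfsg.Agent.H930.RC
end

-- part: H930/RC/Field
section
/-!
# S3510, linear row, box A5: one of the `x i` is a field automorphism (helper930)
-/

set_option autoImplicit false

namespace Cfsg.Agent.H930.RC

open Cfsg.Agent.H106.RC MulAction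
open Cfsg.Agent.ClassicalGeometry.AutPSL.Root Cfsg.Agent.ClassicalGeometry.AutPSL.Auto
open Cfsg.Agent.H199.PslAut Cfsg.Agent.H199.PslField
open Cfsg.Agent.H380.RC

section sub

variable {F : Type} [Field F] {n : ℕ}

/-- the matrices fixed by `σ` -/
def fixSL (n : ℕ) (σ : F ≃+* F) : Subgroup (Matrix.SpecialLinearGroup (Fin n) F) where
  carrier := {t | fld σ t = t}
  one_mem' := map_one _
  mul_mem' {a b} ha hb := by
    change fld σ (a * b) = a * b
    rw [map_mul]
    congr 1
  inv_mem' {a} ha := by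
    change fld σ a⁻¹ = a⁻¹
    rw [map_inv]
    congr 1

theorem mem_fixSL {σ : F ≃+* F} {t : Matrix.SpecialLinearGroup (Fin n) F} :
    t ∈ fixSL n σ ↔ fld σ t = t := Iff.rfl

/-- `SL_n` over the fixed field -/
theorem fixSL_eq {σ : F ≃+* F} {K : Subfield F} (hK : ∀ a, a ∈ K ↔ σ a = a) :
    fixSL n σ = (Matrix.SpecialLinearGroup.map (n := Fin n) K.subtype).range := by
  ext t
  rw [mem_fixSL]
  constructor
  · intro h
    have h1 : ∀ i j, t.1 i j ∈ K := by
      intro i j
      rw [hK, ← coe_fld_apply, h]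
    let s : Matrix (Fin n) (Fin n) K := fun i j => ⟨t.1 i j, h1 i j⟩
    have hs : s.map K.subtype = t.1 := by
      ext i j
      rfl
    have hd : s.det = 1 := by
      apply K.subtype.injective
      rw [RingHom.map_det, map_one]
      change (s.map K.subtype).det = 1
      rw [hs]
      exact t.2
    exact ⟨⟨s, hd⟩, Subtype.ext hs⟩
  · rintro ⟨s, rfl⟩
    apply Subtype.ext
    ext i j
    rw [coe_fld_apply]
    exact (hK _).1 (s.1 i j).2

end sub

section box

variable {F : Type} [Field F] {n : ℕ}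
variable {G : Type} [Group G] {N : Subgroup G}

/-- the projection `SL_n(F) → N` -/
noncomputable def toN (e : N ≃* Matrix.ProjectiveSpecialLinearGroup (Fin n) F) :
    Matrix.SpecialLinearGroup (Fin n) F →* G :=
  N.subtype.comp (e.symm.toMonoidHom.comp pr)

theorem toN_eq (e : N ≃* Matrix.ProjectiveSpecialLinearGroup (Fin n) F)
    (t : Matrix.SpecialLinearGroup (Fin n) F) : toN e t = ((e.symm (pr t) : N) : G) := rfl

theorem toN_eq_iff (e : N ≃* Matrix.ProjectiveSpecialLinearGroup (Fin n) F)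
    {s t : Matrix.SpecialLinearGroup (Fin n) F} : toN e s = toN e t ↔ pr s = pr t := by
  rw [toN_eq, toN_eq]
  constructor
  · intro h
    exact e.symm.injective (Subtype.ext h)
  · intro h
    rw [h]

theorem toN_eq_one_iff (e : N ≃* Matrix.ProjectiveSpecialLinearGroup (Fin n) F)
    {s : Matrix.SpecialLinearGroup (Fin n) F} : toN e s = 1 ↔ pr s = 1 := by
  rw [← map_one (toN e), toN_eq_iff, map_one]

/-- conjugation in `G` in terms of automorphisms of `SL_n` -/
theorem conj_toN (hN : N.Normal) (e : N ≃* Matrix.ProjectiveSpecialLinearGroup (Fin n) F) {x : G}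
    {a : MulAut (Matrix.SpecialLinearGroup (Fin n) F)} (hx : cS hN e x = lift a)
    (t : Matrix.SpecialLinearGroup (Fin n) F) : x * toN e t * x⁻¹ = toN e (a t) := by
  rw [toN_eq, toN_eq, ← cS_spec hN, hx, lift_pr]

/-- a transvection over the prime field determines commutation: a matrix whose class commutes with the classes of
all the transvections `1 + E_ij` is scalar -/
theorem scalar_of_comm (hn : 2 ≤ n) (g : GL (Fin n) F)
    (h : ∀ (i j : Fin n) (hij : i ≠ j), pr (cj g (Matrix.SpecialLinearGroup.transvection hij 1)) =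
      (pr (Matrix.SpecialLinearGroup.transvection hij 1) : Matrix.ProjectiveSpecialLinearGroup (Fin n) F)) :
    Psi n F g = 1 := by
  have : Nontrivial (Fin n) := Fin.nontrivial_iff_two_le.2 hn
  have h1 : ∀ (i j : Fin n) (hij : i ≠ j), cj g (Matrix.SpecialLinearGroup.transvection hij 1) =
      Matrix.SpecialLinearGroup.transvection hij 1 := by
    intro i j hij
    have h2 := h i j hij
    rw [transvection_eq_tr, cj_tr] at h2 ⊢
    exact tr_eq_of_pr_eq h2
  -- `g` commutes with all the `E_ij`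
  have h2 : ∀ (i j : Fin n), i ≠ j →
      (g : Matrix (Fin n) (Fin n) F) * Matrix.single i j (1 : F) = Matrix.single i j (1 : F) * (g : Matrix (Fin n) (Fin n) F) := by
    intro i j hij
    have h3 := congrArg Subtype.val (h1 i j hij)
    change (g : Matrix (Fin n) (Fin n) F) * (1 + Matrix.single i j 1) * ((g⁻¹ : GL (Fin n) F) : Matrix _ _ F) =
      1 + Matrix.single i j 1 at h3
    have h4 := congrArg (fun m => m * (g : Matrix (Fin n) (Fin n) F)) h3
    simp only [Matrix.mul_assoc] at h4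
    rw [← Units.val_mul, inv_mul_cancel, Units.val_one, Matrix.mul_one, mul_add, add_mul, mul_one, one_mul] at h4
    exact add_left_cancel h4
  obtain ⟨a, ha⟩ : ∃ a : F, (g : Matrix (Fin n) (Fin n) F) = Matrix.scalar (Fin n) a :=
    (Matrix.mem_range_scalar_of_commute_single (M := (g : Matrix (Fin n) (Fin n) F))
      (fun i j hij => ((h2 i j hij).symm : Commute (Matrix.single i j (1 : F)) (g : Matrix (Fin n) (Fin n) F)))).imp
      fun _ h => h.symm
  rw [Psi_eq_one_iff hn]
  have ha0 : a ≠ 0 := by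
    rintro rfl
    rw [map_zero] at ha
    have : Nonempty (Fin n) := ⟨⟨0, by omega⟩⟩
    exact g.ne_zero ha
  exact ⟨Units.mk0 a ha0, Units.ext ha⟩


/-- an automorphism fixing the fixed field of `σ` is a power of `σ` -/
theorem mem_zpowers_of_fix {F : Type*} [Field F] [Finite F] {σ τ : F ≃+* F} (h : ∀ a, σ a = a → τ a = a) :
    τ ∈ Subgroup.zpowers σ := by
  have hfin : Finite (F ≃+* F) := DFunLike.finite _
  let H := Subgroup.zpowers σ
  have hb := FixedPoints.toAlgHom_bijective H F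
  have hfix : ∀ a : FixedPoints.subfield H F, τ a = a := by
    intro a
    apply h
    have := a.2 ⟨σ, Subgroup.mem_zpowers σ⟩
    exact this
  let τ' : F →ₐ[FixedPoints.subfield H F] F :=
    { (τ : F →+* F) with
      commutes' := fun a => hfix a }
  obtain ⟨g, hg⟩ := hb.2 τ'
  have h1 : τ = g.1 := by
    ext a
    have := DFunLike.congr_fun hg a
    exact this.symm
  rw [h1]
  exact g.2

/-- an element of finite order conjugating `M` into `M` normalises `M` -/
theorem mem_normalizer_of_pow {M : Subgroup G} {x : G} {k : ℕ} (hk : 0 < k) (hx : x ^ k = 1)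
    (h : ∀ m ∈ M, x * m * x⁻¹ ∈ M) : x ∈ Subgroup.normalizer (M : Set G) := by
  have h1 : ∀ (j : ℕ), ∀ m ∈ M, x ^ j * m * (x ^ j)⁻¹ ∈ M := by
    intro j
    induction j with
    | zero => intro m hm; simpa using hm
    | succ j ih =>
      intro m hm
      have h2 := h _ (ih m hm)
      have h3 : x * (x ^ j * m * (x ^ j)⁻¹) * x⁻¹ = x ^ (j + 1) * m * (x ^ (j + 1))⁻¹ := by
        rw [pow_succ']
        group
      rwa [h3] at h2
  rw [Subgroup.mem_normalizer_iff]
  intro m
  refine ⟨fun hm => h m hm, fun hm => ?_⟩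
  have h2 := h1 (k - 1) _ hm
  have h3 : x ^ (k - 1) = x⁻¹ := by
    rw [eq_inv_iff_mul_eq_one, ← pow_succ, Nat.sub_add_cancel hk]
    exact hx
  rw [h3] at h2
  have h4 : x⁻¹ * (x * m * x⁻¹) * x⁻¹⁻¹ = m := by group
  rwa [h4] at h2

theorem fld_cj (σ : F ≃+* F) (g : GL (Fin n) F) (t : Matrix.SpecialLinearGroup (Fin n) F) :
    fld σ (cj g t) = cj (mapGL σ g) (fld σ t) := by
  apply Subtype.ext
  change ((g : Matrix (Fin n) (Fin n) F) * t.1 * ((g⁻¹ : GL (Fin n) F) : Matrix (Fin n) (Fin n) F)).map σ =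
    (mapGL σ g : Matrix (Fin n) (Fin n) F) * t.1.map σ * (((mapGL σ g)⁻¹ : GL (Fin n) F) : Matrix (Fin n) (Fin n) F)
  rw [← map_inv, coe_mapGL, coe_mapGL]
  change ((g : Matrix (Fin n) (Fin n) F) * t.1 * ((g⁻¹ : GL (Fin n) F) : Matrix (Fin n) (Fin n) F)).map
    (σ : F →+* F) = (g : Matrix (Fin n) (Fin n) F).map (σ : F →+* F) * t.1.map (σ : F →+* F) *
      ((g⁻¹ : GL (Fin n) F) : Matrix (Fin n) (Fin n) F).map (σ : F →+* F)
  rw [Matrix.map_mul, Matrix.map_mul]

/-- transvections `1 + c E_ij` -/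
theorem fix_of_comm {i j : Fin n} (hij : i ≠ j) {c d : F}
    (h : (pr (Matrix.SpecialLinearGroup.transvection hij c) : Matrix.ProjectiveSpecialLinearGroup (Fin n) F) =
      pr (Matrix.SpecialLinearGroup.transvection hij d)) : c = d := by
  rw [transvection_eq_tr, transvection_eq_tr] at h
  have h1 := tr_eq_iff.1 (tr_eq_of_pr_eq h)
  have h2 := congrFun (congrFun h1 i) j
  simpa [Matrix.vecMulVec_apply] using h2

/-- normal form of the automorphisms commuting with `phi σ` -/
theorem exists_form' [Finite F] (hn : 2 ≤ n) {σ : F ≃+* F} {g : GL (Fin n) F} {τ : F ≃+* F}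
    (h : (Psi n F g * phi n F τ) * phi n F σ = phi n F σ * (Psi n F g * phi n F τ)) :
    ∃ g' : GL (Fin n) F, Psi n F g' = Psi n F g ∧ mapGL σ g' = g' := by
  have : Fintype F := Fintype.ofFinite F
  obtain ⟨K, hK, -⟩ := card_fix σ
  have hστ : phi n F σ * phi n F τ = phi n F τ * phi n F σ := by
    rw [← map_mul, ← map_mul, Lib.AutSL2Out.ringEquiv_comm]
  have h1 : Psi n F g ∈ Subgroup.centralizer {phi n F σ} := by
    rw [Subgroup.mem_centralizer_singleton_iff]
    rw [mul_assoc, ← hστ, ← mul_assoc, ← mul_assoc] at h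
    exact mul_right_cancel h
  have hK' : ∀ a, σ a = a ↔ ∃ b, K.subtype b = a := by
    intro a
    rw [← hK]
    constructor
    · intro ha
      exact ⟨⟨a, ha⟩, rfl⟩
    · rintro ⟨b, rfl⟩
      exact b.2
  obtain ⟨u, k, rfl⟩ := (comm_phi_iff hn hK' g).1 h1
  refine ⟨Matrix.GeneralLinearGroup.map K.subtype k, ?_, ?_⟩
  · rw [map_mul, Psi_scal, one_mul]
  · apply Units.ext
    rw [coe_mapGL]
    ext a b
    exact (hK _).1 (k.1 a b).2

/-- the M-rule situation of a standard field automorphism: `M` = image of `SL_n(F_0)` -/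
theorem mrule_field_gen {Ω ι : Type} [Finite F] [Nonempty Ω] [MulAction G Ω] [Finite ι] (hn : 3 ≤ n)
    (hE : Env G Ω N) (e : N ≃* Matrix.ProjectiveSpecialLinearGroup (Fin n) F) {x : ι → G} {r : ι → ℕ}
    (hx : PF x r) (hcov : Cov Ω x)
    (hlin : ∀ i, ∃ (g : GL (Fin n) F) (σ : F ≃+* F), cS hE.norm e (x i) = Psi n F g * phi n F σ)
    {i₀ : ι} {σ : F ≃+* F} (hσ : cS hE.norm e (x i₀) = phi n F σ)
    (hRC : (∀ K : Subfield F, (∀ a, a ∈ K ↔ σ a = a) → RC (Matrix.ProjectiveSpecialLinearGroup (Fin n) K)) ∨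
      ∃ i₁, ∀ i, i ≠ i₁ → i = i₀) (ω : Ω) :
    (∀ t ∈ fixSL n σ, toN e t • ω = ω) ∨ x i₀ • ω = ω := by
  have : Fintype F := Fintype.ofFinite F
  have hN := hE.norm
  have hn2 : 2 ≤ n := by omega
  obtain ⟨K, hK, -⟩ := card_fix σ
  -- the subgroup `M`
  let μ : Matrix.SpecialLinearGroup (Fin n) K →* G := (toN e).comp (Matrix.SpecialLinearGroup.map K.subtype)
  have hμr : μ.range = (fixSL n σ).map (toN e) := by
    rw [fixSL_eq hK, ← MonoidHom.range_comp]
  have hker : μ.ker = Subgroup.center (Matrix.SpecialLinearGroup (Fin n) K) := by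
    ext s
    rw [MonoidHom.mem_ker]
    change toN e (Matrix.SpecialLinearGroup.map K.subtype s) = 1 ↔ _
    rw [toN_eq_one_iff, pr_eq_one_iff, Matrix.SpecialLinearGroup.mem_center_iff,
      Matrix.SpecialLinearGroup.mem_center_iff]
    have hcoe : ∀ r : K, (Matrix.scalar (Fin n) (r : F)) = (Matrix.scalar (Fin n) r).map K.subtype := by
      intro r
      ext a b
      rw [Matrix.map_apply, Matrix.scalar_apply, Matrix.scalar_apply, Matrix.diagonal_apply, Matrix.diagonal_apply]
      split_ifs <;> simp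
    constructor
    · rintro ⟨r, hr, h⟩
      have h0 : Nonempty (Fin n) := ⟨⟨0, by omega⟩⟩
      obtain ⟨a⟩ := h0
      have h1 : r = ((s.1 a a : K) : F) := by
        have := congrFun (congrFun h a) a
        rw [Matrix.scalar_apply, Matrix.diagonal_apply_eq] at this
        exact this
      refine ⟨s.1 a a, ?_, ?_⟩
      · apply Subtype.ext
        rw [SubmonoidClass.coe_pow, ← h1]
        exact hr
      · have h2 : (Matrix.scalar (Fin n) (s.1 a a)).map K.subtype = s.1.map K.subtype := by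
          rw [← hcoe, ← h1]
          exact h
        ext b c
        have := congrFun (congrFun h2 b) c
        exact this
    · rintro ⟨r, hr, h⟩
      refine ⟨r, ?_, ?_⟩
      · rw [← SubmonoidClass.coe_pow, hr]
        rfl
      · rw [hcoe, h]
        rfl
  let M : Subgroup G := μ.range
  let π : M ≃* Matrix.ProjectiveSpecialLinearGroup (Fin n) K :=
    (QuotientGroup.quotientKerEquivRange μ).symm.trans (QuotientGroup.quotientMulEquivOfEq hker)
  have hperf0 : commutator (Matrix.SpecialLinearGroup (Fin n) K) = ⊤ :=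
    LieClassical.SLGen.commutator_eq_top (by rw [Fintype.card_fin]; exact hn)
  have hperf : ⁅M, M⁆ = M := by
    change ⁅μ.range, μ.range⁆ = μ.range
    rw [MonoidHom.range_eq_map, ← Subgroup.map_commutator]
    congr 1
  have hS : IsSimpleGroup (Matrix.ProjectiveSpecialLinearGroup (Fin n) K) :=
    LieClassical.SLGen.psl_isSimpleGroup (by rw [Fintype.card_fin]; exact hn)
  have hSn : ¬ IsMulCommutative (Matrix.ProjectiveSpecialLinearGroup (Fin n) K) := by
    intro hcomm
    have hc : ∀ a b : Matrix.ProjectiveSpecialLinearGroup (Fin n) K, a * b = b * a := fun a b => hcomm.is_comm.comm a b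
    have h1 : Group.IsPerfect (Matrix.SpecialLinearGroup (Fin n) K) := ⟨hperf0⟩
    have h2 : Group.IsPerfect (Matrix.ProjectiveSpecialLinearGroup (Fin n) K) := inferInstance
    have h3 := h2.commutator_eq_top
    rw [commutator_def, Subgroup.commutator_eq_bot_iff_le_centralizer.2] at h3
    · obtain ⟨a, b, hab⟩ := hS.exists_pair_ne
      apply hab
      have h4 : ∀ c : Matrix.ProjectiveSpecialLinearGroup (Fin n) K, c = 1 := by
        intro c
        have : c ∈ (⊤ : Subgroup (Matrix.ProjectiveSpecialLinearGroup (Fin n) K)) := trivial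
        rw [← h3] at this
        exact Subgroup.mem_bot.1 this
      rw [h4 a, h4 b]
    · intro a _ b _
      exact hc b a
  -- normal form of the `x i`
  have hform : ∀ i, ∃ (g : GL (Fin n) F) (τ : F ≃+* F), cS hN e (x i) = lift (cj g * fld τ) ∧ mapGL σ g = g := by
    intro i
    obtain ⟨g, τ, hg⟩ := hlin i
    obtain ⟨g', h1, h2⟩ := exists_form' hn2 (σ := σ) (g := g) (τ := τ) (by
      rw [← hg, ← hσ, ← map_mul, ← map_mul, hx.comm])
    refine ⟨g', τ, ?_, h2⟩
    rw [hg, ← h1, map_mul]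
    rfl
  have hconj : ∀ i, ∃ (g : GL (Fin n) F) (τ : F ≃+* F), mapGL σ g = g ∧ cS hN e (x i) = lift (cj g * fld τ) ∧
      ∀ t, x i * toN e t * (x i)⁻¹ = toN e (cj g (fld τ t)) := by
    intro i
    obtain ⟨g, τ, h1, h2⟩ := hform i
    exact ⟨g, τ, h2, h1, fun t => conj_toN hN e h1 t⟩
  have hfld : ∀ (τ : F ≃+* F) (t : Matrix.SpecialLinearGroup (Fin n) F), fld σ (fld τ t) = fld τ (fld σ t) := by
    intro τ t
    rw [← MulAut.mul_apply, ← MulAut.mul_apply, ← map_mul, ← map_mul, Lib.AutSL2Out.ringEquiv_comm]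
  have hnorm : ∀ i, x i ∈ Subgroup.normalizer (M : Set G) := by
    intro i
    refine mem_normalizer_of_pow (hx.prime i).pos (hx.pow i) ?_
    obtain ⟨g, τ, hg, -, hc⟩ := hconj i
    intro m hm
    change m ∈ μ.range at hm
    change _ ∈ μ.range
    rw [hμr] at hm ⊢
    obtain ⟨t, ht, rfl⟩ := hm
    rw [hc]
    refine ⟨_, ?_, rfl⟩
    change fld σ (cj g (fld τ t)) = cj g (fld τ t)
    rw [fld_cj, hg, hfld]
    congr 2
  have hcen : ∀ i, (∀ m ∈ M, x i * m = m * x i) → i = i₀ := by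
    intro i hi
    obtain ⟨g, τ, hg, hcs, hc⟩ := hconj i
    have h1 : ∀ t ∈ fixSL n σ, pr (cj g (fld τ t)) = pr t := by
      intro t ht
      rw [← toN_eq_iff e, ← hc, hi _ (show toN e t ∈ μ.range by rw [hμr]; exact ⟨t, ht, rfl⟩), mul_inv_cancel_right]
    have h2 : Psi n F g = 1 := by
      apply scalar_of_comm hn2
      intro a b hab
      have h3 := h1 (Matrix.SpecialLinearGroup.transvection hab 1) (by
        rw [mem_fixSL, fld_transvection, map_one])
      rw [fld_transvection, map_one] at h3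
      exact h3
    have h3 : cS hN e (x i) = phi n F τ := by
      rw [hcs, map_mul]
      change Psi n F g * phi n F τ = _
      rw [h2, one_mul]
    have h4 : τ ∈ Subgroup.zpowers σ := by
      apply mem_zpowers_of_fix
      intro a ha
      have hab : (⟨0, by omega⟩ : Fin n) ≠ ⟨1, by omega⟩ := by simp
      have h5 : pr (Matrix.SpecialLinearGroup.transvection hab a) =
          (pr (fld τ (Matrix.SpecialLinearGroup.transvection hab a)) :
            Matrix.ProjectiveSpecialLinearGroup (Fin n) F) := by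
        have h6 := h1 (Matrix.SpecialLinearGroup.transvection hab a) (by
          rw [mem_fixSL, fld_transvection, ha])
        have h7 : pr (cj g (fld τ (Matrix.SpecialLinearGroup.transvection hab a))) =
            Psi n F g (pr (fld τ (Matrix.SpecialLinearGroup.transvection hab a))) := rfl
        rw [h7, h2, MulAut.one_apply] at h6
        exact h6.symm
      rw [fld_transvection] at h5
      exact (fix_of_comm hab h5).symm
    obtain ⟨k, rfl⟩ := Subgroup.mem_zpowers_iff.1 h4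
    have h5 : x i = x i₀ ^ k := by
      apply cS_inj hN e hE.cent
      rw [h3, map_zpow, map_zpow, hσ]
    by_contra hne
    have h6 : x i ^ r i₀ = 1 := by
      rw [h5, ← zpow_natCast, ← zpow_mul, mul_comm, zpow_mul, zpow_natCast, hx.pow, one_zpow]
    have h7 : Nat.Coprime (r i) (r i₀) :=
      (Nat.coprime_primes (hx.prime _) (hx.prime _)).2 fun h => hne (hx.inj h)
    have h8 := Nat.dvd_gcd (orderOf_dvd_of_pow_eq_one (hx.pow i)) (orderOf_dvd_of_pow_eq_one h6)
    rw [h7.gcd_eq_one, Nat.dvd_one, orderOf_eq_one_iff] at h8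
    exact hx.ne i h8
  have hker' : π.toMonoidHom.ker ≤ Subgroup.center M := by
    rw [(MonoidHom.ker_eq_bot_iff _).2 π.injective]
    exact bot_le
  have hcov' : ∀ m ∈ M, ∃ i, x i • m • ω = m • ω := fun m _ => by
    obtain ⟨i, hi⟩ := hcov (m • ω)
    exact ⟨i, hi⟩
  have hfin : M ≤ stabilizer G ω ∨ ∃ j, (∀ m ∈ M, x j * m = m * x j) ∧ x j • ω = ω := by
    rcases hRC with hRC | ⟨i₁, hi₁⟩
    · exact mrule_RC hS hSn x r hx.prime hx.inj hx.pow hx.comm M hperf π.toMonoidHom π.surjective hker' hnorm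
        (hRC K hK) ω hcov'
    · refine mrule_one hS hSn x r hx.prime hx.inj hx.pow hx.comm M hperf π.toMonoidHom π.surjective hker' i₁
        (hnorm i₁) (fun i hi m hm => ?_) ω hcov'
      rw [hi₁ i hi]
      change m ∈ μ.range at hm
      rw [hμr] at hm
      obtain ⟨t, ht, rfl⟩ := hm
      have h1 := conj_toN hN e (a := fld σ) hσ t
      rw [mem_fixSL.1 ht] at h1
      rw [← eq_mul_inv_iff_mul_eq.1 h1.symm]
  rcases hfin with h | ⟨j, hj, hjω⟩
  · left
    intro t ht
    exact h (show toN e t ∈ μ.range by rw [hμr]; exact ⟨t, ht, rfl⟩)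
  · right
    rw [hcen j hj] at hjω
    exact hjω

/-- commutation relation of root elements -/
theorem trans_comm {a b c : Fin n} (hab : a ≠ b) (hbc : b ≠ c) (hac : a ≠ c) (s t : F) :
    Matrix.SpecialLinearGroup.transvection hbc t * Matrix.SpecialLinearGroup.transvection hab s =
      Matrix.SpecialLinearGroup.transvection hac (-(s * t)) * Matrix.SpecialLinearGroup.transvection hab s *
        Matrix.SpecialLinearGroup.transvection hbc t := by
  apply Subtype.ext
  change (1 + Matrix.single b c t) * (1 + Matrix.single a b s) =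
    (1 + Matrix.single a c (-(s * t))) * (1 + Matrix.single a b s) * (1 + Matrix.single b c t)
  have h1 : Matrix.single b c t * Matrix.single a b s = 0 :=
    Matrix.single_mul_single_of_ne _ _ _ _ hac.symm _
  have h2 : Matrix.single a b s * Matrix.single b c t = Matrix.single a c (s * t) := by
    rw [Matrix.single_mul_single_same]
  have h3 : Matrix.single a c (-(s * t)) * Matrix.single a b s = 0 :=
    Matrix.single_mul_single_of_ne _ _ _ _ hac.symm _
  have h4 : Matrix.single a c (-(s * t)) * Matrix.single b c t = 0 :=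
    Matrix.single_mul_single_of_ne _ _ _ _ hbc.symm _
  have h5 : Matrix.single a c (-(s * t)) = -Matrix.single a c (s * t) := by
    ext i j
    simp only [Matrix.single_apply, Matrix.neg_apply]
    split_ifs <;> simp
  simp only [add_mul, mul_add, one_mul, mul_one, h1, h2, h3, h4, zero_mul]
  rw [h5]
  abel

theorem trans_inv_mul {a b : Fin n} (hab : a ≠ b) (s t : F) :
    Matrix.SpecialLinearGroup.transvection hab s * (Matrix.SpecialLinearGroup.transvection hab t)⁻¹ =
      Matrix.SpecialLinearGroup.transvection hab (s - t) := by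
  rw [mul_inv_eq_iff_eq_mul]
  apply Subtype.ext
  change 1 + Matrix.single a b s = (1 + Matrix.single a b (s - t)) * (1 + Matrix.single a b t)
  have h1 : Matrix.single a b (s - t) * Matrix.single a b t = 0 :=
    Matrix.single_mul_single_of_ne _ _ _ _ hab.symm _
  have h2 : Matrix.single a b s = Matrix.single a b (s - t) + Matrix.single a b t := by
    rw [← Matrix.single_add, sub_add_cancel]
  rw [mul_add, add_mul, add_mul, h1, h2]
  simp only [one_mul, mul_one, add_zero]
  abel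

/-- root elements with index pairs `ab`, `ac` commute -/
theorem trans_comm_left {a b c : Fin n} (hab : a ≠ b) (hac : a ≠ c) (s t : F) :
    Matrix.SpecialLinearGroup.transvection hab s * Matrix.SpecialLinearGroup.transvection hac t =
      Matrix.SpecialLinearGroup.transvection hac t * Matrix.SpecialLinearGroup.transvection hab s := by
  apply Subtype.ext
  change (1 + Matrix.single a b s) * (1 + Matrix.single a c t) = (1 + Matrix.single a c t) * (1 + Matrix.single a b s)
  have h1 : Matrix.single a b s * Matrix.single a c t = 0 := Matrix.single_mul_single_of_ne _ _ _ _ hab.symm _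
  have h2 : Matrix.single a c t * Matrix.single a b s = 0 := Matrix.single_mul_single_of_ne _ _ _ _ hac.symm _
  simp only [add_mul, mul_add, one_mul, mul_one, h1, h2]
  abel

theorem trans_comm_right {a b c : Fin n} (hac : a ≠ c) (hbc : b ≠ c) (s t : F) :
    Matrix.SpecialLinearGroup.transvection hbc s * Matrix.SpecialLinearGroup.transvection hac t =
      Matrix.SpecialLinearGroup.transvection hac t * Matrix.SpecialLinearGroup.transvection hbc s := by
  apply Subtype.ext
  change (1 + Matrix.single b c s) * (1 + Matrix.single a c t) = (1 + Matrix.single a c t) * (1 + Matrix.single b c s)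
  have h1 : Matrix.single b c s * Matrix.single a c t = 0 := Matrix.single_mul_single_of_ne _ _ _ _ hac.symm _
  have h2 : Matrix.single a c t * Matrix.single b c s = 0 := Matrix.single_mul_single_of_ne _ _ _ _ hbc.symm _
  simp only [add_mul, mul_add, one_mul, mul_one, h1, h2]
  abel

/-- the final step: a cover by a transvection over the fixed field and a standard field automorphism is impossible -/
theorem field_end {Ω : Type} [Nonempty Ω] [MulAction G Ω] (hn : 3 ≤ n) (hE : Env G Ω N)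
    (e : N ≃* Matrix.ProjectiveSpecialLinearGroup (Fin n) F) {x : G} {σ : F ≃+* F} (hσ1 : σ ≠ 1)
    (hσ : cS hE.norm e x = phi n F σ)
    (hcov : ∀ ω : Ω, (∀ t ∈ fixSL n σ, toN e t • ω = ω) ∨ x • ω = ω) : False := by
  have hN := hE.norm
  let a : Fin n := ⟨0, by omega⟩
  let b : Fin n := ⟨1, by omega⟩
  let c : Fin n := ⟨2, by omega⟩
  have hab : a ≠ b := by simp [a, b]
  have hbc : b ≠ c := by simp [b, c]
  have hac : a ≠ c := by simp [a, c]
  let y : G := toN e (Matrix.SpecialLinearGroup.transvection hac 1)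
  have hy : (Matrix.SpecialLinearGroup.transvection hac 1 : Matrix.SpecialLinearGroup (Fin n) F) ∈ fixSL n σ := by
    rw [mem_fixSL, fld_transvection, map_one]
  have hy1 : y ≠ 1 := by
    intro h
    have h1 := (toN_eq_one_iff e).1 h
    have h2 : (pr (Matrix.SpecialLinearGroup.transvection hac 1) : Matrix.ProjectiveSpecialLinearGroup (Fin n) F) =
        pr (Matrix.SpecialLinearGroup.transvection hac 0) := by
      rw [h1]
      symm
      have h3 : (Matrix.SpecialLinearGroup.transvection hac 0 : Matrix.SpecialLinearGroup (Fin n) F) = 1 := by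
        apply Subtype.ext
        change 1 + Matrix.single a c (0 : F) = 1
        rw [Matrix.single_zero, add_zero]
      rw [h3, map_one]
    exact one_ne_zero (fix_of_comm hac h2)
  let U : Subgroup G := Subgroup.centralizer {y}
  have hUmem : ∀ t : Matrix.SpecialLinearGroup (Fin n) F,
      t * Matrix.SpecialLinearGroup.transvection hac 1 = Matrix.SpecialLinearGroup.transvection hac 1 * t →
      toN e t ∈ U := by
    intro t ht
    rw [Subgroup.mem_centralizer_singleton_iff]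
    change toN e t * toN e _ = toN e _ * toN e t
    rw [← map_mul, ← map_mul, ht]
  obtain ⟨d, hd⟩ : ∃ d, σ d ≠ d := by
    by_contra hno
    push Not at hno
    exact hσ1 (RingEquiv.ext hno)
  have hfd : fld σ (Matrix.SpecialLinearGroup.transvection hab d) =
      Matrix.SpecialLinearGroup.transvection hab (σ d) := fld_transvection σ hab d
  have hz : toN e (Matrix.SpecialLinearGroup.transvection hab (d - σ d)) ∈ cmm U x := by
    have h1 : toN e (Matrix.SpecialLinearGroup.transvection hab d) ∈ U := hUmem _ (trans_comm_left hab hac d 1)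
    have h2 := mem_cmm (x := x) h1
    have h3 : toN e (Matrix.SpecialLinearGroup.transvection hab d) * x *
        (toN e (Matrix.SpecialLinearGroup.transvection hab d))⁻¹ * x⁻¹ =
        toN e (Matrix.SpecialLinearGroup.transvection hab d) *
          (x * toN e (Matrix.SpecialLinearGroup.transvection hab d) * x⁻¹)⁻¹ := by group
    rw [h3, conj_toN hN e (a := fld σ) hσ, hfd, ← map_inv, ← map_mul, trans_inv_mul] at h2
    exact h2
  have hdd : d - σ d ≠ 0 := sub_ne_zero.2 (Ne.symm hd)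
  have hyU : y ∈ cmm U x := by
    have h1 : toN e (Matrix.SpecialLinearGroup.transvection hbc (-(d - σ d)⁻¹)) ∈ U :=
      hUmem _ (trans_comm_right hac hbc _ 1)
    have h2 := cmm_comm h1 hz
    have h3 : Matrix.SpecialLinearGroup.transvection hbc (-(d - σ d)⁻¹) *
        Matrix.SpecialLinearGroup.transvection hab (d - σ d) *
        (Matrix.SpecialLinearGroup.transvection hbc (-(d - σ d)⁻¹))⁻¹ *
        (Matrix.SpecialLinearGroup.transvection hab (d - σ d))⁻¹ = Matrix.SpecialLinearGroup.transvection hac 1 := by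
      rw [trans_comm hab hbc hac]
      have h4 : -((d - σ d) * -(d - σ d)⁻¹) = 1 := by
        rw [mul_neg, neg_neg, mul_inv_cancel₀ hdd]
      rw [h4]
      group
    rw [← map_inv, ← map_inv, ← map_mul, ← map_mul, ← map_mul, h3] at h2
    exact h2
  refine hE.not_all hy1 fun ω => lr_one (x := x) (y := y) (U := U) (fun ω => ?_) (fun u hu => ?_) hyU ω
  · rcases hcov ω with h | h
    · exact Or.inl (h _ hy)
    · exact Or.inr h
  · exact Subgroup.mem_centralizer_singleton_iff.1 hu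

/-- change of the identification `N ≃ PSL_n(F)` such that the field automorphism becomes the standard one -/
theorem exists_std {x : G} [Finite F] (hn : 2 ≤ n) (hN : N.Normal)
    (e : N ≃* Matrix.ProjectiveSpecialLinearGroup (Fin n) F) {g : GL (Fin n) F} {σ : F ≃+* F} (hσ1 : σ ≠ 1)
    (hσ : cS hN e x = Psi n F g * phi n F σ) {r : ℕ} (hr : r.Prime) (hx : x ^ r = 1) :
    ∃ e' : N ≃* Matrix.ProjectiveSpecialLinearGroup (Fin n) F, cS hN e' x = phi n F σ ∧
      ∀ (z : G) (τ : F ≃+* F), (∃ g : GL (Fin n) F, cS hN e z = Psi n F g * phi n F τ) →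
        ∃ g : GL (Fin n) F, cS hN e' z = Psi n F g * phi n F τ := by
  have hpow : (Psi n F g * lift (fld σ)) ^ r = 1 := by
    change (Psi n F g * phi n F σ) ^ r = 1
    rw [← hσ, ← map_pow, hx, map_one]
  obtain ⟨α, hα, hα2⟩ := S2697.std hn (σ := σ) hσ1 hr (Psi_mem g) hpow
  obtain ⟨A, rfl⟩ := mem_inndiag.1 hα
  let e' : N ≃* Matrix.ProjectiveSpecialLinearGroup (Fin n) F := e.trans (Psi n F A)⁻¹
  have hc : ∀ z : G, cS hN e' z = (Psi n F A)⁻¹ * cS hN e z * Psi n F A := by
    intro z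
    have := cS_trans hN e (Psi n F A)⁻¹ z
    rw [inv_inv] at this
    exact this
  refine ⟨e', ?_, ?_⟩
  · rw [hc, hσ]
    change (Psi n F A)⁻¹ * (Psi n F g * lift (fld σ)) * Psi n F A = lift (fld σ)
    rw [hα2]
    group
  · rintro z τ ⟨g, h⟩
    refine ⟨A⁻¹ * g * mapGL τ A, ?_⟩
    rw [hc, h, map_mul, map_mul, map_inv, mul_assoc, mul_assoc, mul_assoc, mul_assoc, phi_mul_Psi]

/-- **Box A5.** No cover with a member of field type, `n ≥ 3`, as soon as `PSL_n` over the fixed field has property `RC`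
or there is only one further member. -/
theorem field_dead_gen {Ω ι : Type} [Finite F] [Nonempty Ω] [MulAction G Ω] [Finite ι] (hn : 3 ≤ n)
    (hE : Env G Ω N) (e : N ≃* Matrix.ProjectiveSpecialLinearGroup (Fin n) F) {x : ι → G} {r : ι → ℕ}
    (hx : PF x r) (hcov : Cov Ω x)
    (hlin : ∀ i, ∃ (g : GL (Fin n) F) (σ : F ≃+* F), cS hE.norm e (x i) = Psi n F g * phi n F σ)
    {i₀ : ι} {g : GL (Fin n) F} {σ : F ≃+* F} (hσ1 : σ ≠ 1) (hσ : cS hE.norm e (x i₀) = Psi n F g * phi n F σ)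
    (hRC : (∀ K : Subfield F, (∀ a, a ∈ K ↔ σ a = a) → RC (Matrix.ProjectiveSpecialLinearGroup (Fin n) K)) ∨
      ∃ i₁, ∀ i, i ≠ i₁ → i = i₀) :
    False := by
  have hn2 : 2 ≤ n := by omega
  obtain ⟨e', hσ', hl⟩ := exists_std hn2 hE.norm e hσ1 hσ (hx.prime i₀) (hx.pow i₀)
  have hlin' : ∀ i, ∃ (g : GL (Fin n) F) (σ : F ≃+* F), cS hE.norm e' (x i) = Psi n F g * phi n F σ := by
    intro i
    obtain ⟨g, τ, h⟩ := hlin i
    obtain ⟨g', h'⟩ := hl _ _ ⟨g, h⟩
    exact ⟨g', τ, h'⟩
  refine field_end hn hE e' hσ1 hσ' fun ω => ?_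
  exact mrule_field_gen hn hE e' hx hcov hlin' hσ' hRC ω

/-- **Box A5.** No cover with a member of field type, `n ≥ 3`, as soon as `PSL_n` over the fixed field has property `RC`. -/
theorem field_dead {Ω ι : Type} [Finite F] [Nonempty Ω] [MulAction G Ω] [Finite ι] (hn : 3 ≤ n)
    (hE : Env G Ω N) (e : N ≃* Matrix.ProjectiveSpecialLinearGroup (Fin n) F) {x : ι → G} {r : ι → ℕ}
    (hx : PF x r) (hcov : Cov Ω x)
    (hlin : ∀ i, ∃ (g : GL (Fin n) F) (σ : F ≃+* F), cS hE.norm e (x i) = Psi n F g * phi n F σ)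
    {i₀ : ι} {g : GL (Fin n) F} {σ : F ≃+* F} (hσ1 : σ ≠ 1) (hσ : cS hE.norm e (x i₀) = Psi n F g * phi n F σ)
    (hRC : ∀ K : Subfield F, (∀ a, a ∈ K ↔ σ a = a) → RC (Matrix.ProjectiveSpecialLinearGroup (Fin n) K)) :
    False :=
  field_dead_gen hn hE e hx hcov hlin hσ1 hσ (Or.inl hRC)

end box

end Cfsg.Agent.H930.RC
end

-- part: H930/RC/GL42
section
/-!
# Commuting elements of prime orders of `GL_4(2)` (helper930)

`V` an elementary abelian group of order 16, `f g : V →+ V` commuting, nontrivial, of prime orders `p ≠ q` dividing 210: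
then `{p, q}` is `{2, 3}` or `{3, 5}`.
-/

set_option autoImplicit false

namespace Cfsg.Agent.H930.RC

section fix

variable {V : Type*} [AddCommGroup V]

/-- fixed vectors of `f` -/
def fx (f : V →+ V) : AddSubgroup V where
  carrier := {v | f v = v}
  zero_mem' := map_zero f
  add_mem' {a b} ha hb := by
    change f (a + b) = a + b
    rw [map_add]
    congr 1
  neg_mem' {a} ha := by
    change f (-a) = -a
    rw [map_neg]
    congr 1

theorem mem_fx {f : V →+ V} {v : V} : v ∈ fx f ↔ f v = v := Iff.rfl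

theorem fx_eq_top {f : V →+ V} : fx f = ⊤ ↔ ∀ v, f v = v := by
  rw [AddSubgroup.eq_top_iff']
  exact Iff.rfl

theorem card_cong [Finite V] {p : ℕ} (hp : p.Prime) {f : V →+ V} (hf : ∀ v, (f^[p]) v = v) (X : AddSubgroup V)
    (hX : ∀ v ∈ X, f v ∈ X) : Nat.card X ≡ Nat.card (X ⊓ fx f : AddSubgroup V) [MOD p] := by
  classical
  have : Fact p.Prime := ⟨hp⟩
  have : Fintype X := Fintype.ofFinite X
  let φ : Function.End X := fun v => ⟨f v, hX v v.2⟩
  have hφ : ∀ (n : ℕ) (v : X), (((φ ^ n) v : X) : V) = (f^[n]) v := by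
    intro n
    induction n with
    | zero => intro v; rfl
    | succ n ih =>
      intro v
      rw [pow_succ, Function.iterate_succ_apply]
      exact ih (φ v)
  have h1 : φ ^ p ^ 1 = 1 := by
    funext v
    apply Subtype.ext
    rw [pow_one, hφ, hf]
    rfl
  have h2 := Equiv.Perm.card_fixedPoints_modEq h1
  rw [← Nat.card_eq_fintype_card, ← Nat.card_eq_fintype_card] at h2
  have h3 : Nat.card φ.fixedPoints = Nat.card (X ⊓ fx f : AddSubgroup V) := by
    refine Nat.card_congr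
      { toFun := fun v => ⟨v.1.1, v.1.2, ?_⟩
        invFun := fun v => ⟨⟨v.1, v.2.1⟩, ?_⟩
        left_inv := fun v => rfl
        right_inv := fun v => rfl }
    · have := v.2
      exact congrArg Subtype.val this
    · exact Subtype.ext v.2.2
  rwa [h3] at h2

theorem card_mem (h16 : Nat.card V = 16) (X : AddSubgroup V) :
    Nat.card X = 1 ∨ Nat.card X = 2 ∨ Nat.card X = 4 ∨ Nat.card X = 8 ∨ Nat.card X = 16 := by
  have h1 : Nat.card X ∣ 16 := h16 ▸ X.card_addSubgroup_dvd_card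
  have h2 : Nat.card X ≤ 16 := Nat.le_of_dvd (by norm_num) h1
  interval_cases h : Nat.card X <;> omega

theorem top_of_card (h16 : Nat.card V = 16) {X : AddSubgroup V} (h : Nat.card X = 16) : X = ⊤ := by
  have : Finite V := Nat.finite_of_card_ne_zero (by rw [h16]; norm_num)
  exact AddSubgroup.eq_top_of_card_eq X (by rw [h, h16])

variable {f g : V →+ V}

theorem fx_stable (hc : ∀ v, f (g v) = g (f v)) : ∀ v ∈ fx g, f v ∈ fx g := by
  intro v hv
  rw [mem_fx] at hv ⊢
  rw [← hc, hv]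

/-- an element of order 5 has no fixed vectors in an invariant subgroup and nothing between -/
theorem five_inv (h16 : Nat.card V = 16) (hf : ∀ v, (f^[5]) v = v) (hf1 : ∃ v, f v ≠ v) (X : AddSubgroup V)
    (hX : ∀ v ∈ X, f v ∈ X) : X = ⊥ ∨ X = ⊤ := by
  have : Finite V := Nat.finite_of_card_ne_zero (by rw [h16]; norm_num)
  have h0 : ∀ Y : AddSubgroup V, (∀ v ∈ Y, f v ∈ Y) → Nat.card Y ≡ Nat.card (Y ⊓ fx f : AddSubgroup V) [MOD 5] :=
    fun Y hY => card_cong Nat.prime_five hf Y hY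
  have h1 : Nat.card (fx f) = 1 := by
    have h2 := h0 ⊤ (fun _ _ => trivial)
    rw [top_inf_eq, AddSubgroup.card_top, h16] at h2
    rcases card_mem h16 (fx f) with h | h | h | h | h
    · exact h
    · rw [h] at h2; exact absurd h2 (by decide)
    · rw [h] at h2; exact absurd h2 (by decide)
    · rw [h] at h2; exact absurd h2 (by decide)
    · obtain ⟨v, hv⟩ := hf1
      exact absurd (fx_eq_top.1 (top_of_card h16 h) v) hv
  have h2 : fx f = ⊥ := AddSubgroup.card_eq_one.1 h1
  have h3 := h0 X hX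
  rw [h2, inf_bot_eq, AddSubgroup.card_bot] at h3
  rcases card_mem h16 X with h | h | h | h | h
  · exact Or.inl (AddSubgroup.card_eq_one.1 h)
  · rw [h] at h3; exact absurd h3 (by decide)
  · rw [h] at h3; exact absurd h3 (by decide)
  · rw [h] at h3; exact absurd h3 (by decide)
  · exact Or.inr (top_of_card h16 h)

theorem five_two (h16 : Nat.card V = 16) (hf : ∀ v, (f^[5]) v = v) (hf1 : ∃ v, f v ≠ v)
    (hc : ∀ v, f (g v) = g (f v)) {q : ℕ} (hq : q = 2 ∨ q = 7) (hg : ∀ v, (g^[q]) v = v) (hg1 : ∃ v, g v ≠ v) :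
    False := by
  have : Finite V := Nat.finite_of_card_ne_zero (by rw [h16]; norm_num)
  have hqp : q.Prime := by rcases hq with rfl | rfl <;> norm_num
  have h2 := card_cong hqp hg ⊤ (fun _ _ => trivial)
  rw [top_inf_eq, AddSubgroup.card_top, h16] at h2
  rcases five_inv h16 hf hf1 (fx g) (fx_stable hc) with h | h
  · rw [h, AddSubgroup.card_bot] at h2
    rcases hq with rfl | rfl
    · exact absurd h2 (by decide)
    · exact absurd h2 (by decide)
  · obtain ⟨v, hv⟩ := hg1
    exact hv (fx_eq_top.1 h v)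

theorem seven (h16 : Nat.card V = 16) (h2V : ∀ v : V, v + v = 0) (hf : ∀ v, (f^[7]) v = v) (hf1 : ∃ v, f v ≠ v)
    (hc : ∀ v, f (g v) = g (f v)) {q : ℕ} (hq : q = 2 ∨ q = 3) (hg : ∀ v, (g^[q]) v = v) (hg1 : ∃ v, g v ≠ v) :
    False := by
  have : Finite V := Nat.finite_of_card_ne_zero (by rw [h16]; norm_num)
  have hp7 : Nat.Prime 7 := by norm_num
  have h1 : Nat.card (fx f) = 2 := by
    have h2 := card_cong hp7 hf ⊤ (fun _ _ => trivial)
    rw [top_inf_eq, AddSubgroup.card_top, h16] at h2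
    rcases card_mem h16 (fx f) with h | h | h | h | h
    · rw [h] at h2; exact absurd h2 (by decide)
    · exact h
    · rw [h] at h2; exact absurd h2 (by decide)
    · rw [h] at h2; exact absurd h2 (by decide)
    · obtain ⟨v, hv⟩ := hf1
      exact absurd (fx_eq_top.1 (top_of_card h16 h) v) hv
  -- `g` is trivial on the fixed vectors of `f`
  have h3 : fx f ≤ fx g := by
    intro v hv
    rw [mem_fx]
    by_cases hv0 : v = 0
    · rw [hv0, map_zero]
    by_contra hne
    have hgv : g v ∈ fx f := by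
      rw [mem_fx, hc, hv]
    have hgv0 : g v ≠ 0 := by
      intro h0
      apply hv0
      have h4 : ∀ n, (g^[n + 1]) v = 0 := by
        intro n
        rw [Function.iterate_succ_apply, h0]
        exact Function.iterate_fixed (map_zero g) n
      rcases hq with rfl | rfl
      · rw [← hg v, h4 1]
      · rw [← hg v, h4 2]
    have h5 : 3 ≤ Nat.card (fx f) := by
      have : Fintype (fx f) := Fintype.ofFinite _
      rw [Nat.card_eq_fintype_card]
      exact Fintype.two_lt_card_iff.2 ⟨⟨0, (fx f).zero_mem⟩, ⟨v, hv⟩, ⟨g v, hgv⟩,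
        fun h => hv0 (congrArg Subtype.val h).symm, fun h => hgv0 (congrArg Subtype.val h).symm,
        fun h => hne (congrArg Subtype.val h).symm⟩
    omega
  have h4 := card_cong hp7 hf (fx g) (fx_stable hc)
  rw [inf_eq_right.2 h3, h1] at h4
  have h5 : Nat.card (fx g) = 2 := by
    rcases card_mem h16 (fx g) with h | h | h | h | h
    · rw [h] at h4; exact absurd h4 (by decide)
    · exact h
    · rw [h] at h4; exact absurd h4 (by decide)
    · rw [h] at h4; exact absurd h4 (by decide)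
    · obtain ⟨v, hv⟩ := hg1
      exact absurd (fx_eq_top.1 (top_of_card h16 h) v) hv
  rcases hq with rfl | rfl
  · -- the involution
    let δ : V →+ V := g + AddMonoidHom.id V
    have hk : δ.ker = fx g := by
      ext v
      rw [AddMonoidHom.mem_ker, mem_fx]
      change g v + v = 0 ↔ g v = v
      constructor
      · intro h
        have : g v = -v := eq_neg_of_add_eq_zero_left h
        rw [this, neg_eq_iff_add_eq_zero]
        exact h2V v
      · intro h
        rw [h]
        exact h2V v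
    have hr : δ.range ≤ fx g := by
      rintro _ ⟨v, rfl⟩
      rw [mem_fx]
      change g (g v + v) = g v + v
      rw [map_add]
      have : g (g v) = v := hg v
      rw [this, add_comm]
    have h6 := AddSubgroup.card_mul_index δ.ker
    rw [AddSubgroup.index_ker, h16, hk, h5] at h6
    have h7 : Nat.card δ.range ≤ 2 := by
      rw [← h5]
      exact AddSubgroup.card_le_of_le hr
    omega
  · have h6 := card_cong Nat.prime_three hg ⊤ (fun _ _ => trivial)
    rw [top_inf_eq, AddSubgroup.card_top, h16, h5] at h6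
    exact absurd h6 (by decide)

/-- **commuting elements of prime orders of `GL_4(2)`** -/
theorem orders (h16 : Nat.card V = 16) (h2V : ∀ v : V, v + v = 0) {p q : ℕ} (hp : p = 2 ∨ p = 3 ∨ p = 5 ∨ p = 7)
    (hq : q = 2 ∨ q = 3 ∨ q = 5 ∨ q = 7) (hpq : p ≠ q) (hf : ∀ v, (f^[p]) v = v) (hf1 : ∃ v, f v ≠ v)
    (hg : ∀ v, (g^[q]) v = v) (hg1 : ∃ v, g v ≠ v) (hc : ∀ v, f (g v) = g (f v)) :
    (p = 3 ∧ (q = 2 ∨ q = 5)) ∨ (q = 3 ∧ (p = 2 ∨ p = 5)) := by
  rcases hp with rfl | rfl | rfl | rfl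
  · rcases hq with rfl | rfl | rfl | rfl
    · exact absurd rfl hpq
    · omega
    · exact (five_two h16 hg hg1 (fun v => (hc v).symm) (Or.inl rfl) hf hf1).elim
    · exact (seven h16 h2V hg hg1 (fun v => (hc v).symm) (Or.inl rfl) hf hf1).elim
  · rcases hq with rfl | rfl | rfl | rfl
    · omega
    · exact absurd rfl hpq
    · omega
    · exact (seven h16 h2V hg hg1 (fun v => (hc v).symm) (Or.inr rfl) hf hf1).elim
  · rcases hq with rfl | rfl | rfl | rfl
    · exact (five_two h16 hf hf1 hc (Or.inl rfl) hg hg1).elim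
    · omega
    · exact absurd rfl hpq
    · exact (five_two h16 hf hf1 hc (Or.inr rfl) hg hg1).elim
  · rcases hq with rfl | rfl | rfl | rfl
    · exact (seven h16 h2V hf hf1 hc (Or.inl rfl) hg hg1).elim
    · exact (seven h16 h2V hf hf1 hc (Or.inr rfl) hg hg1).elim
    · exact (five_two h16 hg hg1 (fun v => (hc v).symm) (Or.inr rfl) hf hf1).elim
    · exact absurd rfl hpq

end fix

end Cfsg.Agent.H930.RC
end

-- part: H930/RC/F42a
section
/-!
# S3510, box A5, `(n, q_0) = (4, 2)`: the members over the prime field (helper930)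
-/

set_option autoImplicit false

namespace Cfsg.Agent.H930.RC

open Cfsg.Agent.H106.RC MulAction
open Cfsg.Agent.ClassicalGeometry.AutPSL.Root Cfsg.Agent.ClassicalGeometry.AutPSL.Auto
open Cfsg.Agent.H199.PslAut Cfsg.Agent.H199.PslField

section two

variable {F : Type} [Field F] {n : ℕ} {G : Type} [Group G] {N : Subgroup G}

theorem eq_zero_or_one {K : Type*} [Field K] (hK2 : Nat.card K = 2) (a : K) : a = 0 ∨ a = 1 := by
  have : Finite K := Nat.finite_of_card_ne_zero (by rw [hK2]; norm_num)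
  have : Fintype K := Fintype.ofFinite K
  by_contra hno
  push Not at hno
  have h1 : 2 < Fintype.card K := Fintype.two_lt_card_iff.2 ⟨0, 1, a, zero_ne_one, hno.1.symm, hno.2.symm⟩
  rw [← Nat.card_eq_fintype_card, hK2] at h1
  omega

/-- the homomorphism `GL_n(2) → Aut(PSL_n(F))` is injective -/
theorem theta_inj {K : Type} [Field K] (hK2 : Nat.card K = 2) (hn : 2 ≤ n) (j : K →+* F) :
    Function.Injective (theta n j) := by
  rw [← MonoidHom.ker_eq_bot_iff, theta_ker hn, Matrix.GeneralLinearGroup.center_eq_range_scalar, eq_bot_iff]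
  rintro _ ⟨u, rfl⟩
  have hu : u = 1 := by
    apply Units.ext
    rcases eq_zero_or_one hK2 (u : K) with h | h
    · exact absurd h u.ne_zero
    · exact h
  rw [hu, map_one]
  exact Subgroup.mem_bot.2 rfl

theorem phi_pow_form (g : GL (Fin n) F) (τ : F ≃+* F) (m : ℕ) :
    ∃ g' : GL (Fin n) F, (Psi n F g * phi n F τ) ^ m = Psi n F g' * phi n F (τ ^ m) := by
  induction m with
  | zero => exact ⟨1, by simp only [_root_.pow_zero, _root_.map_one, _root_.mul_one]⟩
  | succ m ih =>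
    obtain ⟨g', h⟩ := ih
    refine ⟨g' * mapGL (τ ^ m) g, ?_⟩
    rw [pow_succ, h, map_mul, pow_succ, map_mul, mul_assoc, ← mul_assoc (phi n F (τ ^ m)), phi_mul_Psi]
    simp only [mul_assoc]

/-- the members of a cover different from the field automorphism are given by matrices over the prime field -/
theorem exists_mat {Ω ι : Type} [Finite F] [MulAction G Ω] (hn : 3 ≤ n)
    (hE : Env G Ω N) (e : N ≃* Matrix.ProjectiveSpecialLinearGroup (Fin n) F) {x : ι → G} {r : ι → ℕ}
    (hx : PF x r)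
    (hlin : ∀ i, ∃ (g : GL (Fin n) F) (σ : F ≃+* F), cS hE.norm e (x i) = Psi n F g * phi n F σ)
    {i₀ : ι} {σ : F ≃+* F} (hσ : cS hE.norm e (x i₀) = phi n F σ) {K : Subfield F} (hK : ∀ a, a ∈ K ↔ σ a = a)
    (hK2 : Nat.card K = 2) :
    ∃ k : ι → GL (Fin n) K, (∀ i, i ≠ i₀ → cS hE.norm e (x i) = theta n K.subtype (k i)) ∧
      (∀ i j, i ≠ i₀ → j ≠ i₀ → k i * k j = k j * k i) ∧ (∀ i, i ≠ i₀ → k i ^ r i = 1 ∧ k i ≠ 1) := by
  have hN := hE.norm
  have hn2 : 2 ≤ n := by omega
  have hK' : ∀ a, σ a = a ↔ ∃ b, K.subtype b = a := by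
    intro a
    rw [← hK]
    constructor
    · intro ha
      exact ⟨⟨a, ha⟩, rfl⟩
    · rintro ⟨b, rfl⟩
      exact b.2
  have hinj := theta_inj (F := F) hK2 hn2 K.subtype
  have hex : ∀ i, i ≠ i₀ → ∃ k : GL (Fin n) K, cS hN e (x i) = theta n K.subtype k := by
    intro i hi
    obtain ⟨g, τ, hg⟩ := hlin i
    -- `τ = 1`
    have hτσ : τ ∈ Subgroup.zpowers σ := by
      apply mem_zpowers_of_fix
      intro a ha
      have h1 := (hK a).2 ha
      rcases eq_zero_or_one hK2 ⟨a, h1⟩ with h | h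
      · have : a = 0 := congrArg Subtype.val h
        rw [this, map_zero]
      · have : a = 1 := congrArg Subtype.val h
        rw [this, map_one]
    have hσr : σ ^ r i₀ = 1 := by
      apply phi_injective hn2
      rw [map_pow, ← hσ, ← map_pow, hx.pow, map_one, map_one]
    have hτr : τ ^ r i₀ = 1 := by
      obtain ⟨k, rfl⟩ := Subgroup.mem_zpowers_iff.1 hτσ
      rw [← zpow_natCast, ← zpow_mul, mul_comm, zpow_mul, zpow_natCast, hσr, one_zpow]
    have hτi : τ ^ r i = 1 := by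
      obtain ⟨g', h1⟩ := phi_pow_form (n := n) g τ (r i)
      rw [← hg, ← map_pow, hx.pow, map_one] at h1
      exact ((Psi_phi_eq hn2 (σ := τ ^ r i) (τ := 1) (by rw [← h1, map_one])).2)
    have hτ : τ = 1 := by
      have h7 : Nat.Coprime (r i) (r i₀) :=
        (Nat.coprime_primes (hx.prime _) (hx.prime _)).2 fun h => hi (hx.inj h)
      have h8 := Nat.dvd_gcd (orderOf_dvd_of_pow_eq_one hτi) (orderOf_dvd_of_pow_eq_one hτr)
      rw [h7.gcd_eq_one, Nat.dvd_one, orderOf_eq_one_iff] at h8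
      exact h8
    rw [hτ, map_one, mul_one] at hg
    have h1 : Psi n F g ∈ Subgroup.centralizer {phi n F σ} := by
      rw [Subgroup.mem_centralizer_singleton_iff, ← hg, ← hσ, ← map_mul, ← map_mul, hx.comm]
    obtain ⟨u, k, rfl⟩ := (comm_phi_iff hn2 hK' g).1 h1
    refine ⟨k, ?_⟩
    rw [hg, map_mul, Psi_scal, one_mul]
    rfl
  classical
  let k : ι → GL (Fin n) K := fun i => if h : i ≠ i₀ then (hex i h).choose else 1
  have hk : ∀ i, i ≠ i₀ → cS hN e (x i) = theta n K.subtype (k i) := by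
    intro i hi
    change _ = theta n K.subtype (dite _ _ _)
    rw [dif_pos hi]
    exact (hex i hi).choose_spec
  refine ⟨k, hk, fun i j hi hj => ?_, fun i hi => ⟨?_, fun h1 => ?_⟩⟩
  · apply hinj
    rw [map_mul, map_mul, ← hk i hi, ← hk j hj, ← map_mul, ← map_mul, hx.comm]
  · apply hinj
    rw [map_pow, ← hk i hi, ← map_pow, hx.pow, map_one, map_one]
  · apply hx.ne i
    apply cS_inj hN e hE.cent
    rw [hk i hi, h1, map_one, map_one]

/-- the action of `GL_4(2)` on its natural module -/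
def vf {K : Type} [Field K] (k : GL (Fin n) K) : (Fin n → K) →+ (Fin n → K) where
  toFun v := (k : Matrix (Fin n) (Fin n) K).mulVec v
  map_zero' := Matrix.mulVec_zero _
  map_add' a b := Matrix.mulVec_add _ a b

theorem vf_apply {K : Type} [Field K] (k : GL (Fin n) K) (v : Fin n → K) :
    vf k v = (k : Matrix (Fin n) (Fin n) K).mulVec v := rfl

theorem vf_iterate {K : Type} [Field K] (k : GL (Fin n) K) (m : ℕ) (v : Fin n → K) :
    ((vf k)^[m]) v = ((k ^ m : GL (Fin n) K) : Matrix (Fin n) (Fin n) K).mulVec v := by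
  induction m generalizing v with
  | zero => simp
  | succ m ih =>
    rw [Function.iterate_succ_apply, ih, vf_apply, Matrix.mulVec_mulVec, pow_succ, Units.val_mul]

theorem vf_comm {K : Type} [Field K] {k l : GL (Fin n) K} (h : k * l = l * k) (v : Fin n → K) :
    vf k (vf l v) = vf l (vf k v) := by
  rw [vf_apply, vf_apply, vf_apply, vf_apply, Matrix.mulVec_mulVec, Matrix.mulVec_mulVec, ← Units.val_mul, h,
    Units.val_mul]

theorem vf_ne {K : Type} [Field K] {k : GL (Fin n) K} (h : k ≠ 1) : ∃ v, vf k v ≠ v := by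
  by_contra hno
  push Not at hno
  apply h
  apply Units.ext
  apply Matrix.mulVec_injective
  funext v
  rw [Units.val_one, Matrix.one_mulVec]
  exact hno v

/-- prime orders of elements of `GL_4(2)` -/
theorem mat_prime {K : Type} [Field K] (hK2 : Nat.card K = 2) {m : GL (Fin 4) K} {s : ℕ} (hs : s.Prime)
    (hm : m ^ s = 1) (hm1 : m ≠ 1) : s = 2 ∨ s = 3 ∨ s = 5 ∨ s = 7 := by
  have : Finite K := Nat.finite_of_card_ne_zero (by rw [hK2]; norm_num)
  have : Fintype K := Fintype.ofFinite K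
  have hcard : Nat.card (GL (Fin 4) K) = 20160 := by
    have h1 := Matrix.card_GL_field (𝔽 := K) 4
    rw [Nat.card_eq_fintype_card] at hK2
    rw [h1, hK2]
    simp only [Fin.prod_univ_succ, _root_.Nat.reducePow, _root_.Fin.prod_univ_succ, _root_.Fin.isValue, _root_.Fin.coe_ofNat_eq_mod, _root_.Nat.zero_mod, _root_.pow_zero, _root_.Nat.add_one_sub_one, _root_.Fin.val_succ, _root_.zero_add, _root_.pow_one, _root_.Nat.reduceSub, _root_.Nat.reduceAdd, _root_.Finset.univ_unique, _root_.Fin.default_eq_zero, _root_.Fin.val_eq_zero, _root_.Finset.prod_const, _root_.Finset.card_singleton, _root_.Nat.reduceMul]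
  have := Fact.mk hs
  have h1 : orderOf m = s := orderOf_eq_prime hm hm1
  have h2 : s ∣ 20160 := by rw [← h1, ← hcard]; exact orderOf_dvd_natCard m
  have h3 : s ∈ Nat.primeFactors 20160 := Nat.mem_primeFactors.2 ⟨hs, h2, by norm_num⟩
  have h4 : Nat.primeFactors 20160 = {2, 3, 5, 7} := by
    rw [show 20160 = 2 ^ 6 * (3 ^ 2 * (5 * 7)) by norm_num]
    rw [Nat.primeFactors_mul (by norm_num) (by norm_num), Nat.primeFactors_mul (by norm_num) (by norm_num),
      Nat.primeFactors_mul (by norm_num) (by norm_num), Nat.primeFactors_prime_pow (by norm_num) (by norm_num),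
      Nat.primeFactors_prime_pow (by norm_num) (by norm_num), Nat.Prime.primeFactors (by norm_num),
      Nat.Prime.primeFactors (by norm_num)]
    rfl
  rw [h4] at h3
  simpa using h3

theorem two_vec {K : Type} [Field K] (hK2 : Nat.card K = 2) (v : Fin n → K) : v + v = 0 := by
  funext i
  change v i + v i = 0
  have h2 : (1 : K) + 1 = 0 := by
    rcases eq_zero_or_one hK2 ((1 : K) + 1) with h | h
    · exact h
    · exfalso
      exact one_ne_zero (add_left_cancel (h.trans (add_zero 1).symm))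
  rw [← two_mul, ← one_add_one_eq_two, h2, zero_mul]

theorem card_vec {K : Type} [Field K] (hK2 : Nat.card K = 2) : Nat.card (Fin 4 → K) = 16 := by
  rw [Nat.card_fun, hK2, Nat.card_eq_fintype_card, Fintype.card_fin]
  norm_num

/-- orders of commuting elements of `GL_4(2)` -/
theorem mat_orders {K : Type} [Field K] (hK2 : Nat.card K = 2) {k l : GL (Fin 4) K} {p q : ℕ}
    (hp : p.Prime) (hq : q.Prime) (hpq : p ≠ q)
    (hk : k ^ p = 1) (hk1 : k ≠ 1) (hl : l ^ q = 1) (hl1 : l ≠ 1) (hc : k * l = l * k) :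
    (p = 3 ∧ (q = 2 ∨ q = 5)) ∨ (q = 3 ∧ (p = 2 ∨ p = 5)) := by
  refine orders (f := vf k) (g := vf l) (card_vec hK2) (two_vec hK2) (mat_prime hK2 hp hk hk1)
    (mat_prime hK2 hq hl hl1) hpq (fun v => ?_) (vf_ne hk1) (fun v => ?_) (vf_ne hl1) (vf_comm hc)
  · rw [vf_iterate, hk, Units.val_one, Matrix.one_mulVec]
  · rw [vf_iterate, hl, Units.val_one, Matrix.one_mulVec]

end two

end Cfsg.Agent.H930.RC
end

-- part: H457/RC/KGrp
section
/-!
# S3510, row F even, box D4: the image of `E R` (`R` the `K`-form, `E R` perfect) (helper457)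
-/

set_option autoImplicit false
set_option linter.unusedSectionVars false
open Cfsg

namespace Cfsg.Agent.H457.RC

open QuadraticMap MulAction
open Cfsg.Agent.LieClassical.OrthCore Cfsg.Agent.LieClassical.OrthTrans
open Cfsg.Agent.LieClassical.OrthSimple Cfsg.Agent.ClassicalGeometry.OrthSemi
open Cfsg.Agent.ClassicalGeometry.OrthAut1 Cfsg.Agent.H106.RC Cfsg.Agent.H93.RC Cfsg.Agent.H188.RC

variable {F V K : Type*} [Field F] [AddCommGroup V] [Module F V] [Field K] [Algebra F K] [Module K V]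
  [IsScalarTower F K V] {Q : QuadraticForm F V} {R : QuadraticForm K V} {l : K →ₗ[F] F}

/-- restriction of scalars -/
def rst (F : Type*) {V K : Type*} [Field F] [AddCommGroup V] [Module F V] [Field K] [Algebra F K] [Module K V]
    [IsScalarTower F K V] : (V ≃ₗ[K] V) →* (V ≃ₗ[F] V) where
  toFun g := g.restrictScalars F
  map_one' := rfl
  map_mul' _ _ := rfl

theorem rst_apply (g : V ≃ₗ[K] V) (v : V) : rst F g v = g v := rfl

theorem rst_mem_O (hR : KF Q R l) {g : V ≃ₗ[K] V} (hg : g ∈ O R) : rst F g ∈ O Q := by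
  intro v
  rw [rst_apply, ← hR.form, ← hR.form, hg v]

theorem E_perf_of (hp : commutator ↥(E R) = ⊤) : ⁅E R, E R⁆ = E R := by
  have h1 : (commutator ↥(E R)).map (E R).subtype = ⁅E R, E R⁆ := by
    rw [commutator_def, Subgroup.map_commutator, ← MonoidHom.range_eq_map, Subgroup.range_subtype]
  rw [← h1, hp, ← MonoidHom.range_eq_map, Subgroup.range_subtype]

theorem rst_mem_E (hG : Good Q) (hp : commutator ↥(E R) = ⊤) (hR : KF Q R l) {g : V ≃ₗ[K] V}
    (hg : g ∈ E R) : rst F g ∈ E Q := by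
  rw [← E_perf_of hp] at hg
  have h1 : (⁅E R, E R⁆).map (rst F) ≤ ⁅O Q, O Q⁆ := by
    rw [Subgroup.map_commutator]
    refine Subgroup.commutator_mono ?_ ?_ <;>
    · rintro _ ⟨k, hk, rfl⟩
      exact rst_mem_O hR (E_le_O hk)
  rw [hG.commutator_eq_E] at h1
  exact h1 ⟨g, hg, rfl⟩

/-- `E R →* E Q` -/
def psi (hG : Good Q) (hp : commutator ↥(E R) = ⊤) (hR : KF Q R l) : ↥(E R) →* ↥(E Q) where
  toFun g := ⟨rst F g.1, rst_mem_E hG hp hR g.2⟩
  map_one' := rfl
  map_mul' _ _ := rfl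

theorem psi_apply (hG : Good Q) (hp : commutator ↥(E R) = ⊤) (hR : KF Q R l) (g : ↥(E R)) (v : V) :
    (psi hG hp hR g : V ≃ₗ[F] V) v = (g : V ≃ₗ[K] V) v := rfl

theorem psi_injective (hG : Good Q) (hp : commutator ↥(E R) = ⊤) (hR : KF Q R l) :
    Function.Injective (psi hG hp hR) := by
  intro a b hab
  apply Subtype.ext
  apply LinearEquiv.ext
  intro v
  rw [← psi_apply hG hp hR, hab, psi_apply]

section conj

variable {G : Type*} [Group G] {N : Subgroup G} {ρ : ↥(E Q) →* G}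

/-- conjugation by an element which is semilinear over both fields -/
theorem conj_psi (hG : Good Q) (hp : commutator ↥(E R) = ⊤) (hR : KF Q R l) (M : Gam Q) (ML : Gam R)
    (h : M.1 = ML.1) (g : ↥(E R)) : conjE Q M (psi hG hp hR g) = psi hG hp hR (conjE R ML g) := by
  apply Subtype.ext
  apply LinearEquiv.ext
  intro v
  obtain ⟨v, rfl⟩ := M.1.surjective v
  rw [coe_conjE, conjLin_apply', psi_apply, psi_apply, coe_conjE]
  conv_rhs => rw [h]
  rw [conjLin_apply', h]

/-- the homomorphism `E R →* G` -/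
def jj (hG : Good Q) (hp : commutator ↥(E R) = ⊤) (hR : KF Q R l) (ρ : ↥(E Q) →* G) : ↥(E R) →* G :=
  ρ.comp (psi hG hp hR)

theorem jj_apply (hG : Good Q) (hp : commutator ↥(E R) = ⊤) (hR : KF Q R l) (g : ↥(E R)) :
    jj hG hp hR ρ g = ρ (psi hG hp hR g) := rfl

theorem x_conj (hG : Good Q) (hp : commutator ↥(E R) = ⊤) (hR : KF Q R l) {x : G} {M : Gam Q}
    (hl : Lf ρ x M) (ML : Gam R) (h : M.1 = ML.1) (g : ↥(E R)) :
    x * jj hG hp hR ρ g * x⁻¹ = jj hG hp hR ρ (conjE R ML g) := by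
  rw [jj_apply, jj_apply, hl, conj_psi hG hp hR M ML h]

theorem ker_jj (hG : Good Q) (hp : commutator ↥(E R) = ⊤) (hR : KF Q R l) (hρ : _root_.Cfsg.Agent.H93.RC.Rep Q N ρ) :
    (jj hG hp hR ρ).ker ≤ Subgroup.center ↥(E R) := by
  intro g hg
  rw [MonoidHom.mem_ker, jj_apply, ← MonoidHom.mem_ker, hρ.ker, Subgroup.mem_center_iff] at hg
  rw [Subgroup.mem_center_iff]
  intro k
  apply psi_injective hG hp hR
  rw [map_mul, map_mul, hg]

theorem jj_range_le (hG : Good Q) (hp : commutator ↥(E R) = ⊤) (hR : KF Q R l) (hρ : _root_.Cfsg.Agent.H93.RC.Rep Q N ρ) :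
    (jj hG hp hR ρ).range ≤ N := by
  rintro _ ⟨g, rfl⟩
  rw [← hρ.range]
  exact ⟨_, rfl⟩

/-- an element centralising the image of `E R` is a scalar of `K` -/
theorem scal_of_cent (hG : Good Q) (hp : commutator ↥(E R) = ⊤) (hR : KF Q R l)
    (hsc : ∀ M : Gam R, conjE R M = 1 → IsScal M) (hρ : _root_.Cfsg.Agent.H93.RC.Rep Q N ρ)
    {x : G} {M : Gam Q} (hl : Lf ρ x M) (ML : Gam R) (h : M.1 = ML.1)
    (hc : ∀ g, x * jj hG hp hR ρ g = jj hG hp hR ρ g * x) : ∃ a : K, a ≠ 0 ∧ ∀ v, M.1 v = a • v := by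
  have h1 : ∀ g, jj hG hp hR ρ (conjE R ML g) = jj hG hp hR ρ g := by
    intro g
    rw [← x_conj hG hp hR hl ML h, hc, mul_inv_cancel_right]
  have h2 : Psi R ML = 1 := by
    ext t
    obtain ⟨t, rfl⟩ := QuotientGroup.mk_surjective t
    rw [Psi_mk]
    show (QuotientGroup.mk (conjE R ML t) : P R) = QuotientGroup.mk t
    rw [eq_comm, QuotientGroup.eq]
    apply ker_jj hG hp hR hρ
    rw [MonoidHom.mem_ker, map_mul, map_inv, h1]
    group
  have h3 : conjE R ML = 1 := eq_one_of_quotAut hp _ h2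
  obtain ⟨a, ha, h4⟩ := hsc ML h3
  exact ⟨a, ha, fun v => by rw [h]; exact h4 v⟩

/-- the Siegel elements of `K`-singular vectors do not all commute with `K` -/
theorem range_ne (hG : Good Q) (hp : commutator ↥(E R) = ⊤) (hR : KF Q R l) (hρ : _root_.Cfsg.Agent.H93.RC.Rep Q N ρ)
    (hnd : Nondeg R) (h3 : 3 ≤ Module.finrank K V)
    {e f : V} (hef : Hyp R e f) (α : K) (hα : ∀ a : F, α ≠ algebraMap F K a) : (jj hG hp hR ρ).range ≠ N := by
  intro heq
  obtain ⟨w, w', hew, hfw, -, -, hww⟩ := exists_perp2 hnd h3 hef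
  have hw0 : w ≠ 0 := by
    rintro rfl
    rw [polar_zero_left] at hww
    exact zero_ne_one hww
  have hQe : Q e = 0 := by
    have := hR.sing hef.left 1
    rwa [one_smul] at this
  have hQew : polar Q e w = 0 := by
    have := hR.orth hew 1 1
    rwa [one_smul, one_smul] at this
  have h1 : ρ (AutOrth.SemiSim.sg Q e w hQe hQew) ∈ N := by rw [← hρ.range]; exact ⟨_, rfl⟩
  rw [← heq] at h1
  obtain ⟨g, hg⟩ := h1
  have h2 : (psi hG hp hR g)⁻¹ * AutOrth.SemiSim.sg Q e w hQe hQew ∈ Subgroup.center ↥(E Q) := by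
    rw [← hρ.ker, MonoidHom.mem_ker, map_mul, map_inv, ← hg, jj_apply, inv_mul_cancel]
  obtain ⟨a, ha, h3⟩ := scal_of_center hG h2
  have h4 : ∀ v, (AutOrth.SemiSim.sg Q e w hQe hQew : V ≃ₗ[F] V) v = a • (g : V ≃ₗ[K] V) v := by
    intro v
    have h5 := h3 v
    have h6 := congrArg (psi hG hp hR g : V ≃ₗ[F] V) h5
    rw [map_smul] at h6
    have h7 : (psi hG hp hR g : V ≃ₗ[F] V) ((((psi hG hp hR g)⁻¹ *
        AutOrth.SemiSim.sg Q e w hQe hQew : ↥(E Q)) : V ≃ₗ[F] V) v) =
        (AutOrth.SemiSim.sg Q e w hQe hQew : V ≃ₗ[F] V) v :=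
      (psi hG hp hR g : V ≃ₗ[F] V).apply_symm_apply _
    rw [h7] at h6
    exact h6
  have hcomm : ∀ v, (AutOrth.SemiSim.sg Q e w hQe hQew : V ≃ₗ[F] V) (α • v) =
      α • (AutOrth.SemiSim.sg Q e w hQe hQew : V ≃ₗ[F] V) v := by
    intro v
    rw [h4, h4, map_smul, smul_comm]
  -- evaluate at `v` with `B(e, v) = 0`, `B(α e, v) = 1`
  have hae : ∀ c : F, α • e ≠ c • e := by
    intro c hc
    apply hα c
    have h5 : (α - algebraMap F K c) • e = 0 := by
      rw [sub_smul, hc, algebraMap_smul, sub_self]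
    rcases smul_eq_zero.mp h5 with h6 | h6
    · exact sub_eq_zero.mp h6
    · exact (hef.left_ne h6).elim
  obtain ⟨v, hv1, hv2⟩ := exists_sep hG.nondeg hae
  have h5 := hcomm v
  have hs : ∀ v, (AutOrth.SemiSim.sg Q e w hQe hQew : V ≃ₗ[F] V) v =
      v + polar Q e v • w - polar Q w v • e - (Q w * polar Q e v) • e := by
    intro v
    show siegel Q e w hQe hQew v = _
    rw [siegel_apply]
  have hv3 : polar Q e (α • v) = 1 := by
    rw [← hR.polar_self]
    rw [polar_comm]
    first | exact hv2 | (rw [polar_comm]; exact hv2)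
  rw [hs, hs, hv1, hv3] at h5
  -- so `w` is a multiple of `e`
  have h6 : w = (algebraMap F K (polar Q w (α • v)) + algebraMap F K (Q w) - α * algebraMap F K (polar Q w v)) • e := by
    rw [sub_smul, add_smul, algebraMap_smul, algebraMap_smul, mul_smul, algebraMap_smul]
    simp only [one_smul, zero_smul, mul_one, mul_zero, add_zero, sub_zero, smul_sub] at h5
    linear_combination (norm := module) h5
  rw [h6, polar_smul_right] at hfw
  have h7 : polar R f e = 1 := by rw [polar_comm]; exact hef.pair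
  rw [h7, smul_eq_mul, mul_one] at hfw
  rw [hfw, zero_smul] at h6
  exact hw0 h6

end conj

end Cfsg.Agent.H457.RC
end

-- part: H457/RC/BoxD4m
section
/-!
# S3510, row F even, box D4m (helper457)

`n = 8`, all lifts are linear over `K = F[κ]` (`q²` elements, self adjoint), the `K`-form is of minus type.
-/

set_option autoImplicit false
set_option linter.unusedSectionVars false
open Cfsg

namespace Cfsg.Agent.H457.RC

open QuadraticMap MulAction
open Cfsg.Agent.LieClassical.OrthCore Cfsg.Agent.LieClassical.OrthTrans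
open Cfsg.Agent.LieClassical.OrthSimple Cfsg.Agent.ClassicalGeometry.OrthSemi
open Cfsg.Agent.ClassicalGeometry.OrthAut1 Cfsg.Agent.H106.RC Cfsg.Agent.H93.RC Cfsg.Agent.H188.RC
open Cfsg.Agent.H138.RC
open scoped commutatorElement

/-- what is needed of a four-dimensional form of minus type -/
structure M4 {K V : Type} [Field K] [AddCommGroup V] [Module K V] (R : QuadraticForm K V) : Prop where
  perf : commutator ↥(E R) = ⊤
  comm : ⁅O R, O R⁆ ≤ E R
  scal : ∀ M : Gam R, conjE R M = 1 → IsScal M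
  iso : ∃ (L : Type) (_ : Field L) (_ : Fintype L), Nat.card L = Nat.card K ^ 2 ∧
    Nonempty (P R ≃* Matrix.ProjectiveSpecialLinearGroup (Fin 2) L)

section torus

variable {K V : Type*} [Field K] [AddCommGroup V] [Module K V] {R : QuadraticForm K V} {e f : V}

theorem Q_sub_smul (h : Hyp R e f) (c : K) : R (e - c • f) = -c := by
  rw [sub_eq_add_neg, Q_add, QuadraticMap.map_neg, QuadraticMap.map_smul, h.left, h.right, polar_neg_right,
    polar_smul_right, h.pair]
  simp

/-- the element `-1` on the hyperbolic plane, `1` on its orthogonal space is a commutator -/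
theorem exists_torus (h : Hyp R e f) {i : K} (hi : i * i = -1) :
    ∃ m : V ≃ₗ[K] V, m ∈ ⁅O R, O R⁆ ∧ ∀ v, m v = v - (2 * polar R f v) • e - (2 * polar R e v) • f := by
  have hi0 : i ≠ 0 := by
    rintro rfl
    rw [mul_zero] at hi
    exact one_ne_zero (neg_eq_zero.mp hi.symm)
  have ha : R (e - i • f) ≠ 0 := by
    rw [Q_sub_smul h]; exact neg_ne_zero.mpr hi0
  have hb : R (e - (1 : K) • f) ≠ 0 := by
    rw [Q_sub_smul h]; exact neg_ne_zero.mpr one_ne_zero
  refine ⟨⁅refl R _ ha, refl R _ hb⁆, Subgroup.commutator_mem_commutator (refl_mem_O ha) (refl_mem_O hb), ?_⟩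
  have ha' : (refl R _ ha)⁻¹ = refl R _ ha := inv_eq_of_mul_eq_one_left (refl_mul_self ha)
  have hb' : (refl R _ hb)⁻¹ = refl R _ hb := inv_eq_of_mul_eq_one_left (refl_mul_self hb)
  have hee : polar R e e = 0 := h.polar_left
  have hff : polar R f f = 0 := h.polar_right
  have hef : polar R e f = 1 := h.pair
  have hfe : polar R f e = 1 := h.pair'
  have hra : ∀ v, refl R _ ha v = v + (i⁻¹ * polar R e v - polar R f v) • e - (polar R e v - i * polar R f v) • f := by
    intro v
    rw [refl_apply, Q_sub_smul h, sub_eq_add_neg e, polar_add_left, polar_neg_left, polar_smul_left]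
    match_scalars <;> field_simp <;> ring
  have hrb : ∀ v, refl R _ hb v = v + (polar R e v - polar R f v) • e - (polar R e v - polar R f v) • f := by
    intro v
    rw [refl_apply, Q_sub_smul h, sub_eq_add_neg e, polar_add_left, polar_neg_left, polar_smul_left]
    match_scalars <;> field_simp <;> ring
  have hab : ∀ v, refl R _ ha (refl R _ hb v) = v - ((1 + i) * polar R f v) • e + ((i - 1) * polar R e v) • f := by
    intro v
    have hii : i⁻¹ = -i := by
      rw [inv_eq_iff_eq_inv, eq_comm, inv_eq_of_mul_eq_one_left]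
      linear_combination -hi
    rw [hra, hrb, hii]
    simp only [polar_add_right, polar_sub_right, polar_smul_right, hee, hff, hef, hfe, smul_eq_mul]
    match_scalars
    · ring
    · ring
    · ring
  intro v
  rw [commutatorElement_def, ha', hb']
  show refl R _ ha (refl R _ hb (refl R _ ha (refl R _ hb v))) = _
  rw [hab, hab]
  simp only [polar_add_right, polar_sub_right, polar_smul_right, hee, hff, hef, hfe, smul_eq_mul]
  match_scalars
  · ring
  · linear_combination (polar R f v) * hi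
  · linear_combination (polar R e v) * hi

end torus

section main

variable {F V : Type} [Field F] [Finite F] [AddCommGroup V] [Module F V] [FiniteDimensional F V]
  {Q : QuadraticForm F V} {G Ω : Type} [Group G] [Finite G] [MulAction G Ω] [Nonempty Ω]
  {N : Subgroup G} {ρ : ↥(E Q) →* G}

/-- **BOX D4m**, from box F1 (`hLR`) and the facts about four-dimensional forms of minus type (`hM4`). -/
theorem box_D4m_of (hM4 : ∀ (K : Type) [Field K] [Finite K] [Module K V] [FiniteDimensional K V]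
      (R : QuadraticForm K V), Nondeg R → Module.finrank K V = 4 →
      (∀ U : Submodule K V, (∀ v ∈ U, R v = 0) → Module.finrank K U ≤ 1) → M4 R)
    (hG : Good Q) (hE : Env G Ω N) (hρ : _root_.Cfsg.Agent.H93.RC.Rep Q N ρ) (hIH : IH (Nat.card (P Q)))
    {p : ℕ} [CharP F p] (hLR : LR Q Ω ρ p) {ι : Type} [Finite ι] {x : ι → G} {M : ι → Gam Q} {r : ι → ℕ}
    (hl : ∀ i, Lf ρ (x i) (M i)) (hlin : ∀ i, IsLin (M i)) (hx : PF x r) (hcov : Cov Ω x)
    (h8 : Module.finrank F V = 8) (κ : V →ₗ[F] V) (s t : F)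
    (hκ : ∀ v, κ (κ v) = s • κ v - t • v) (hirr : ∀ a : F, a * a - s * a + t ≠ 0)
    (hadj : ∀ v w, polar Q (κ v) w = polar Q v (κ w))
    (hcom : ∀ i v, (M i).1 (κ v) = κ ((M i).1 v))
    (hminus : ∀ U : Submodule F V, (∀ v ∈ U, Q v = 0) → (∀ v ∈ U, κ v ∈ U) →
      Module.finrank F U ≠ 4) : False := by
  classical
  have hfin : Finite V := Module.finite_of_finite F
  obtain ⟨K, _, _, _, _, _, _, α, R, hc, hα, hgen, -, hR, hRnd, hfr, hM⟩ :=
    exists_all hG.nondeg (by omega) κ s t hκ hirr hadj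
  have h4 : Module.finrank K V = 4 := by omega
  have hα' : ∀ a : F, α ≠ algebraMap F K a := hgen.notMem
  -- minus type
  have hm : ∀ U : Submodule K V, (∀ v ∈ U, R v = 0) → Module.finrank K U ≤ 1 := by
    intro U hU
    by_contra hlt
    push Not at hlt
    have : Nontrivial U := Module.nontrivial_of_finrank_pos (R := K) (by omega)
    obtain ⟨u, hu⟩ := exists_ne (0 : U)
    obtain ⟨w, hw⟩ : ∃ w : U, ∀ a : K, w ≠ a • u := by
      by_contra hno
      push Not at hno
      have h1 : (⊤ : Submodule K U) ≤ Submodule.span K {u} := by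
        intro w _
        obtain ⟨a, ha⟩ := hno w
        rw [ha]
        exact Submodule.smul_mem _ _ (Submodule.mem_span_singleton_self u)
      have h2 := Submodule.finrank_mono h1
      rw [finrank_top] at h2
      have h3 := finrank_span_singleton (K := K) hu
      omega
    have hw' : ∀ a : K, (w : V) ≠ a • (u : V) := fun a h => hw a (Subtype.ext h)
    have hu' : (u : V) ≠ 0 := fun h => hu (Subtype.ext h)
    have h5 : Module.finrank K (Submodule.span K {(u : V), (w : V)}) = 2 :=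
      H297.RC.finrank_pair hu' hw'
    have hle : Submodule.span K {(u : V), (w : V)} ≤ U := by
      rw [Submodule.span_le]
      rintro z (rfl | rfl)
      · exact u.2
      · exact w.2
    apply hminus ((Submodule.span K {(u : V), (w : V)}).restrictScalars F)
    · intro v hv
      have := hR.sing (hU v (hle hv)) 1
      rwa [one_smul] at this
    · intro v hv
      rw [← hα]
      exact Submodule.smul_mem _ α hv
    · have h6 := finrank_K (F := F) (K := K) (V := ↥(Submodule.span K {(u : V), (w : V)})) hc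
      rw [h5] at h6
      exact h6
  obtain ⟨hp, hOO, hsc, L, _, _, hL, ⟨e0⟩⟩ := hM4 K R hRnd h4 hm
  have hfP : Finite (P Q) := Cfsg.Agent.H236.RC.finite_P (Q := Q)
  -- singular vectors
  obtain ⟨e, -, he0, he⟩ := Cfsg.Agent.LieClassical.OrthFinite.exists_sing_mem (Q := R) (⊤ : Submodule K V)
    (by rw [finrank_top]; omega)
  obtain ⟨f, hef⟩ := exists_hyp hRnd he he0
  -- the quotient
  have hF2 : 2 ≤ Nat.card F := Finite.one_lt_card
  have hK4 : 4 ≤ Nat.card K := by
    rw [hc]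
    calc 4 = 2 ^ 2 := by norm_num
      _ ≤ _ := Nat.pow_le_pow_left hF2 2
  have hL16 : 16 ≤ Nat.card L := by
    rw [hL]
    calc 16 = 4 ^ 2 := by norm_num
      _ ≤ _ := Nat.pow_le_pow_left hK4 2
  have hs1 : IsSimpleGroup (Matrix.ProjectiveSpecialLinearGroup (Fin 2) L) :=
    Matrix.ProjectiveSpecialLinearGroup.rank_two_simple (by omega)
  have hL16' : 16 ≤ Fintype.card L := by rwa [← Nat.card_eq_fintype_card]
  let g : ↥(E R) →* Matrix.ProjectiveSpecialLinearGroup (Fin 2) L :=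
    e0.toMonoidHom.comp (QuotientGroup.mk' (Subgroup.center ↥(E R)))
  have hg : Function.Surjective g := e0.surjective.comp (QuotientGroup.mk'_surjective _)
  have hgk : g.ker = Subgroup.center ↥(E R) := by
    ext a
    rw [MonoidHom.mem_ker]
    show e0 (QuotientGroup.mk a) = 1 ↔ _
    rw [EmbeddingLike.map_eq_one_iff, QuotientGroup.eq_one_iff]
  have hs2 : ¬ IsMulCommutative (Matrix.ProjectiveSpecialLinearGroup (Fin 2) L) := by
    intro hcm
    have h1 : commutator (Matrix.ProjectiveSpecialLinearGroup (Fin 2) L) = ⊤ := by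
      have h2 : (commutator ↥(E R)).map g = commutator (Matrix.ProjectiveSpecialLinearGroup (Fin 2) L) := by
        rw [commutator_def, commutator_def, Subgroup.map_commutator, ← MonoidHom.range_eq_map,
          MonoidHom.range_eq_top.2 hg]
      rw [← h2, hp, ← MonoidHom.range_eq_map, MonoidHom.range_eq_top.2 hg]
    have h3 : commutator (Matrix.ProjectiveSpecialLinearGroup (Fin 2) L) = ⊥ := by
      rw [commutator_def, Subgroup.commutator_eq_bot_iff_le_centralizer]
      intro a _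
      rw [Subgroup.mem_centralizer_iff]
      intro b _
      exact hcm.is_comm.comm b a
    rw [h1] at h3
    have := hs1.toNontrivial
    exact top_ne_bot h3
  have hs3 : Cl (Matrix.ProjectiveSpecialLinearGroup (Fin 2) L) :=
    Or.inl ⟨L, inferInstance, inferInstance, 2, le_rfl, fun _ => by omega, ⟨MulEquiv.refl _⟩⟩
  have hs4 : ¬ Exc (Matrix.ProjectiveSpecialLinearGroup (Fin 2) L) := by
    intro h
    rcases psl_exc le_rfl h with ⟨-, h⟩ | ⟨h, -⟩
    · omega
    · omega
  -- the lifts over `K`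
  choose ML c hML hMLlin hc0 hMQ hMR using fun i => hM (M i) (hlin i) (hcom i)
  have eN : N ≃* P Q := by
    have h1 : P Q ≃* ρ.range :=
      (QuotientGroup.quotientMulEquivOfEq hρ.ker.symm).trans (QuotientGroup.quotientKerEquivRange ρ)
    exact (h1.trans (MulEquiv.subgroupCongr hρ.range)).symm
  have hrule := Cfsg.Agent.H520.RC.mrule_hom (Ω := Ω) hIH eN (jj hG hp hR ρ) (jj_range_le hG hp hR hρ)
    (range_ne hG hp hR hρ hRnd (by omega) hef α hα') hp g hg hgk (ker_jj hG hp hR hρ) hs1 hs2 hs3 hs4 hx hcov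
    (fun i a => ⟨_, x_conj hG hp hR (hl i) (ML i) (hML i) a⟩)
  -- the members centralising the image
  have hJ : ∀ i, (∀ a, x i * jj hG hp hR ρ a = jj hG hp hR ρ a * x i) →
      (2 : F) ≠ 0 ∧ r i = 2 ∧ ∃ a : K, ∀ v, (M i).1 v = a • v := by
    intro i hi
    obtain ⟨a, ha0, ha⟩ := scal_of_cent hG hp hR hsc hρ (hl i) (ML i) (hML i) hi
    have h1 : R (e + f) = 1 := by
      rw [Q_add, hef.left, hef.right, hef.pair, zero_add, zero_add]
    have h2 : a * a = algebraMap F K (c i) := by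
      have h3 := hMR i (e + f)
      rw [ha, QuadraticMap.map_smul, h1] at h3
      simpa using h3
    have h3 : ∀ b : F, a ≠ algebraMap F K b := by
      rintro b rfl
      apply hx.ne i
      rw [(hl i).eq_one_iff hG hE hρ]
      refine ⟨b, ?_, fun v => ?_⟩
      · rintro rfl
        exact ha0 (map_zero _)
      · rw [ha, algebraMap_smul]
    have h4' : x i ^ 2 = 1 := by
      rw [((hl i).pow 2).eq_one_iff hG hE hρ]
      refine ⟨c i, hc0 i, fun v => ?_⟩
      rw [pow_two]
      show (M i).1 ((M i).1 v) = _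
      rw [ha, ha, smul_smul, h2, algebraMap_smul]
    have h5 : r i = 2 := by
      have h6 : orderOf (x i) = r i := by
        have : Fact (r i).Prime := ⟨hx.prime i⟩
        exact orderOf_eq_prime (hx.pow i) (hx.ne i)
      have h7 : r i ∣ 2 := by
        rw [← h6]
        exact orderOf_dvd_of_pow_eq_one h4'
      exact (Nat.prime_dvd_prime_iff_eq (hx.prime i) Nat.prime_two).mp h7
    refine ⟨?_, h5, a, ha⟩
    intro h2F
    have hch : CharP F 2 := CharTwo.of_one_ne_zero_of_two_eq_zero one_ne_zero h2F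
    obtain ⟨b, hb⟩ := FiniteField.isSquare_of_char_two (F := F) (ringChar.eq F 2 ▸ rfl) (c i)
    apply h3 b
    have h2K : (2 : K) = 0 := by rw [← map_ofNat (algebraMap F K) 2, h2F, map_zero]
    have h6 : (a - algebraMap F K b) ^ 2 = 0 := by
      rw [hb, map_mul] at h2
      linear_combination h2 + (algebraMap F K b * algebraMap F K b - a * algebraMap F K b) * h2K
    exact sub_eq_zero.mp (pow_eq_zero_iff (two_ne_zero) |>.mp h6)
  by_cases hJe : ∃ i, ∀ a, x i * jj hG hp hR ρ a = jj hG hp hR ρ a * x i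
  · obtain ⟨i₀, hi₀⟩ := hJe
    obtain ⟨h2F, hr0, a, ha⟩ := hJ i₀ hi₀
    have h2K : (2 : K) ≠ 0 := by rwa [← map_ofNat (algebraMap F K) 2, Ne, map_eq_zero]
    have hp2 : p ≠ 2 := by
      rintro rfl
      apply h2F
      have := CharP.cast_eq_zero F 2
      exact_mod_cast this
    -- a square root of `-1`
    obtain ⟨i, hi⟩ : ∃ i : K, i * i = -1 := by
      have hft : Fintype K := Fintype.ofFinite K
      have h1 : IsSquare (-1 : K) := by
        rw [FiniteField.isSquare_neg_one_iff, ← Nat.card_eq_fintype_card, hc]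
        intro h
        have h2 := Nat.pow_mod (Nat.card F) 2 4
        have h3 : Nat.card F % 4 < 4 := Nat.mod_lt _ (by norm_num)
        interval_cases h5 : Nat.card F % 4 <;> simp only [_root_.ne_eq, _root_.OfNat.ofNat_ne_zero, _root_.not_false_eq_true, _root_.zero_pow, _root_.Nat.zero_mod, _root_.one_pow, _root_.Nat.one_mod, _root_.Nat.reducePow, _root_.Nat.mod_self, _root_.Nat.reduceMod] at h2 <;> (clear * - h h2; omega)
      obtain ⟨i, hi⟩ := h1
      exact ⟨i, hi.symm⟩
    obtain ⟨m, hm1, hmv⟩ := exists_torus hef hi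
    let mE : ↥(E R) := ⟨m, hOO hm1⟩
    have hee : polar R e e = 0 := hef.polar_left
    have hff : polar R f f = 0 := hef.polar_right
    have hfe : polar R f e = 1 := hef.pair'
    have hef1 : polar R e f = 1 := hef.pair
    have hme : m e = -e := by
      rw [hmv, hee, hfe]
      module
    have hmm : ∀ v, m (m v) = v := by
      intro v
      rw [hmv (m v), hmv v]
      simp only [polar_sub_right, polar_smul_right, hee, hff, hef1, hfe, smul_eq_mul]
      module
    have hy1 : jj hG hp hR ρ mE ≠ 1 := by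
      intro h
      have h1 : psi hG hp hR mE ∈ Subgroup.center ↥(E Q) := by
        rw [← hρ.ker, MonoidHom.mem_ker]
        exact h
      obtain ⟨b, -, hb⟩ := scal_of_center hG h1
      have hb' : ∀ v, m v = b • v := hb
      obtain ⟨w, w', hew, hfw, -, -, hww⟩ := exists_perp2 hRnd (by omega) hef
      have hw0 : w ≠ 0 := by
        rintro rfl
        rw [polar_zero_left] at hww
        exact zero_ne_one hww
      have h2 : m w = w := by
        rw [hmv, hew, hfw]
        module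
      have h3 : b = 1 := by
        have h5 := hb' w
        rw [h2] at h5
        have h6 : (1 - b) • w = 0 := by rw [sub_smul, one_smul, ← h5, sub_self]
        rcases smul_eq_zero.mp h6 with h7 | h7
        · exact (sub_eq_zero.mp h7).symm
        · exact (hw0 h7).elim
      have h5 := hb' e
      rw [hme, h3, one_smul] at h5
      have h6 : (2 : K) • e = 0 := by
        rw [two_smul]
        nth_rewrite 1 [← h5]
        exact neg_add_cancel e
      rcases smul_eq_zero.mp h6 with h7 | h7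
      · exact h2K h7
      · exact he0 h7
    have hy2 : jj hG hp hR ρ mE ^ 2 = 1 := by
      rw [← map_pow]
      have h1 : mE ^ 2 = 1 := by
        apply Subtype.ext
        apply LinearEquiv.ext
        intro v
        rw [pow_two]
        exact hmm v
      rw [h1, map_one]
    -- the plane `K e`
    have hspan : ∀ b : K, b • e ∈ Submodule.span F {e, α • e} := by
      intro b
      obtain ⟨u, w, rfl⟩ := hgen.gen b
      rw [add_smul, mul_smul, algebraMap_smul, algebraMap_smul]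
      exact Submodule.add_mem _ (Submodule.smul_mem _ _ (Submodule.subset_span (by simp)))
        (Submodule.smul_mem _ _ (Submodule.subset_span (by simp)))
    have hspan' : ∀ v ∈ Submodule.span F {e, α • e}, ∃ b : K, v = b • e := by
      intro v hv
      obtain ⟨u, w, rfl⟩ := Submodule.mem_span_pair.mp hv
      exact ⟨algebraMap F K u + algebraMap F K w * α, by
        rw [add_smul, mul_smul, algebraMap_smul, algebraMap_smul]⟩
    have hQe : Q e = 0 := by
      have := hR.sing he 1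
      rwa [one_smul] at this
    have hQαe : Q (α • e) = 0 := hR.sing he α
    have hQee : polar Q e (α • e) = 0 := by
      have := hR.orth hee 1 α
      rwa [one_smul] at this
    refine hLR Bool (y := fun b => cond b (jj hG hp hR ρ mE) (x i₀))
      (L := fun b => cond b (tg Q (psi hG hp hR mE)) (M i₀)) (s := fun _ => 2) ?_ (fun _ => Nat.prime_two)
      (fun _ => hp2.symm) ?_ ?_ ?_ hQe hQαe hQee he0 ?_ ?_ ?_
    · rintro (_ | _)
      · exact hl i₀
      · exact Lf.tg _
    · rintro (_ | _)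
      · have := hx.pow i₀
        rw [hr0] at this
        exact this
      · exact hy2
    · rintro (_ | _)
      · exact hx.ne i₀
      · exact hy1
    · rintro (_ | _) (_ | _)
      · rfl
      · exact hi₀ mE
      · exact (hi₀ mE).symm
      · rfl
    · intro b hb
      apply hα' b
      have h1 : (α - algebraMap F K b) • e = 0 := by
        rw [sub_smul, hb, algebraMap_smul, sub_self]
      rcases smul_eq_zero.mp h1 with h2 | h2
      · exact sub_eq_zero.mp h2
      · exact (he0 h2).elim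
    · rintro (_ | _) v hv
      · obtain ⟨b, rfl⟩ := hspan' v hv
        show (M i₀).1 (b • e) ∈ _
        rw [ha, smul_smul]
        exact hspan _
      · obtain ⟨b, rfl⟩ := hspan' v hv
        show m (b • e) ∈ _
        rw [map_smul, hme, smul_neg, ← neg_smul]
        exact hspan _
    · intro ω
      right
      rcases hrule ω with h | ⟨j, hj, hjω⟩
      · exact ⟨true, h mE⟩
      · obtain ⟨-, hr1, -⟩ := hJ j hj
        have : j = i₀ := hx.inj (hr1.trans hr0.symm)
        subst this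
        exact ⟨false, hjω⟩
  · -- no member centralises the image
    have h1 : ∀ a, jj hG hp hR ρ a = 1 := by
      intro a
      apply hE.single
      intro ω
      rcases hrule ω with h | ⟨j, hj, -⟩
      · exact h a
      · exact (hJe ⟨j, hj⟩).elim
    have := hs1.toNontrivial
    obtain ⟨z, hz⟩ := exists_ne (1 : Matrix.ProjectiveSpecialLinearGroup (Fin 2) L)
    obtain ⟨a, rfl⟩ := hg z
    apply hz
    rw [← MonoidHom.mem_ker, hgk]
    exact ker_jj hG hp hR hρ (h1 a)

end main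

end Cfsg.Agent.H457.RC
end

-- part: H64/RC/Refl
section
/-!
# S3510, row F, even characteristic: a reflection among the members of the cover (helper64)

`a` nonsingular, char `F = 2`. The stabiliser `C` of `a` in `E Q` maps onto the symplectic group of
`a^⊥ / a`, realised on the complement `W0 Q a b` (`b` with `polar Q a b = 1`), with central kernel.
-/

set_option autoImplicit false
open Cfsg

namespace Cfsg.Agent.H64.RC.Refl

open QuadraticMap MulAction
open Cfsg.Agent.LieClassical.OrthCore Cfsg.Agent.LieClassical.OrthTrans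
open Cfsg.Agent.LieClassical.OrthSimple Cfsg.Agent.ClassicalGeometry.OrthSemi
open Cfsg.Agent.ClassicalGeometry.OrthAut1 Cfsg.Agent.H106.RC

section lin

variable {F V : Type*} [Field F] [AddCommGroup V] [Module F V] {Q : QuadraticForm F V} {a b : V}

/-- the stabiliser of `a` in `O Q` -/
def stO (Q : QuadraticForm F V) (a : V) : Subgroup (V ≃ₗ[F] V) where
  carrier := {g | g ∈ O Q ∧ g a = a}
  mul_mem' := by
    rintro g h ⟨hg, hga⟩ ⟨hh, hha⟩
    exact ⟨(O Q).mul_mem hg hh, by show g (h a) = a; rw [hha, hga]⟩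
  one_mem' := ⟨(O Q).one_mem, rfl⟩
  inv_mem' := by
    rintro g ⟨hg, hga⟩
    refine ⟨(O Q).inv_mem hg, ?_⟩
    show g.symm a = a
    rw [LinearEquiv.symm_apply_eq, hga]

/-- a complement of `a` in its orthogonal space -/
def W0 (Q : QuadraticForm F V) (a b : V) : Submodule F V :=
  LinearMap.ker (polarBilin Q a) ⊓ LinearMap.ker (polarBilin Q b)

theorem mem_W0 {v : V} : v ∈ W0 Q a b ↔ polar Q a v = 0 ∧ polar Q b v = 0 := Iff.rfl

/-- the form on `W0` -/
abbrev B0 (Q : QuadraticForm F V) (a b : V) : LinearMap.BilinForm F (W0 Q a b) :=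
  LinearMap.BilinForm.restrict (polarBilin Q) (W0 Q a b)

theorem B0_apply (v w : W0 Q a b) : B0 Q a b v w = polar Q (v : V) w := rfl

/-- the hypotheses -/
structure Pr (Q : QuadraticForm F V) (a b : V) : Prop where
  two : (2 : F) = 0
  nd : Nondeg Q
  qa : Q a ≠ 0
  ab : polar Q a b = 1

/-- the projection -/
def pr (Q : QuadraticForm F V) (a b v : V) : V := v - polar Q b v • a

theorem Pr.self (h : Pr Q a b) (v : V) : polar Q v v = 0 := by rw [polar_self', h.two, zero_mul]

theorem Pr.ba (h : Pr Q a b) : polar Q b a = 1 := by rw [polar_comm]; exact h.ab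

theorem Pr.add_self (h : Pr Q a b) (x : F) : x + x = 0 := by rw [← two_mul, h.two, zero_mul]

theorem pr_mem (h : Pr Q a b) {v : V} (hv : polar Q a v = 0) : pr Q a b v ∈ W0 Q a b := by
  rw [mem_W0, pr, polar_sub_right, polar_smul_right, polar_sub_right, polar_smul_right, h.self, h.ba, hv]
  simp

theorem polar_pr (h : Pr Q a b) {v w : V} (hv : polar Q a v = 0) (hw : polar Q a w = 0) :
    polar Q (pr Q a b v) (pr Q a b w) = polar Q v w := by
  rw [pr, pr, polar_sub_left, polar_sub_right, polar_sub_right, polar_smul_left, polar_smul_right, polar_smul_left,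
    polar_smul_right, h.self, hw, polar_comm Q v a, hv]
  simp

theorem pr_of_mem {v : V} (hv : v ∈ W0 Q a b) : pr Q a b v = v := by
  rw [pr, (mem_W0.1 hv).2, zero_smul, sub_zero]

theorem st_polar {g : V ≃ₗ[F] V} (hg : g ∈ stO Q a) (v : V) : polar Q a (g v) = polar Q a v := by
  conv_lhs => rw [← hg.2]
  exact polar_map hg.1 a v

theorem pr_pr (h : Pr Q a b) {g : V ≃ₗ[F] V} (hg : g ∈ stO Q a) (v : V) :
    pr Q a b (g (pr Q a b v)) = pr Q a b (g v) := by
  rw [pr, pr, pr, map_sub, map_smul, hg.2, polar_sub_right, polar_smul_right, h.ba, smul_eq_mul, mul_one, sub_smul]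
  abel

/-- the action on `W0` -/
def lin (h : Pr Q a b) {g : V ≃ₗ[F] V} (hg : g ∈ stO Q a) : W0 Q a b →ₗ[F] W0 Q a b where
  toFun w := ⟨pr Q a b (g w), pr_mem h (by rw [st_polar hg]; exact (mem_W0.1 w.2).1)⟩
  map_add' v w := by
    apply Subtype.ext
    show pr Q a b (g ((v : V) + w)) = pr Q a b (g v) + pr Q a b (g w)
    rw [pr, pr, pr, map_add, polar_add_right, add_smul]
    abel
  map_smul' c w := by
    apply Subtype.ext
    show pr Q a b (g (c • (w : V))) = c • pr Q a b (g w)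
    rw [pr, pr, map_smul, polar_smul_right, smul_sub, smul_smul, smul_eq_mul]

theorem lin_apply (h : Pr Q a b) {g : V ≃ₗ[F] V} (hg : g ∈ stO Q a) (w : W0 Q a b) :
    ((lin h hg w : W0 Q a b) : V) = pr Q a b (g w) := rfl

theorem lin_lin (h : Pr Q a b) {g k : V ≃ₗ[F] V} (hg : g ∈ stO Q a) (hk : k ∈ stO Q a) (w : W0 Q a b) :
    lin h hg (lin h hk w) = lin h ((stO Q a).mul_mem hg hk) w := by
  apply Subtype.ext
  rw [lin_apply, lin_apply, pr_pr h hg]
  rfl

/-- the homomorphism onto the symplectic group -/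
def phi (h : Pr Q a b) : ↥(stO Q a) →* H520.RC.Sp (B0 Q a b) where
  toFun g := ⟨{ lin h g.2 with
      invFun := fun w => lin h (g⁻¹).2 w
      left_inv := fun w => by
        show lin h (g⁻¹).2 (lin h g.2 w) = w
        apply Subtype.ext
        rw [lin_apply, lin_apply, pr_pr h (g⁻¹).2]
        show pr Q a b (g.1.symm (g.1 w)) = w
        rw [LinearEquiv.symm_apply_apply, pr_of_mem w.2]
      right_inv := fun w => by
        show lin h g.2 (lin h (g⁻¹).2 w) = w
        apply Subtype.ext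
        rw [lin_apply, lin_apply, pr_pr h g.2]
        show pr Q a b (g.1 (g.1.symm w)) = w
        rw [LinearEquiv.apply_symm_apply, pr_of_mem w.2] }, by
    intro v w
    show polar Q (pr Q a b (g.1 v)) (pr Q a b (g.1 w)) = polar Q (v : V) w
    rw [polar_pr h, polar_map g.2.1]
    · rw [st_polar g.2]; exact (mem_W0.1 v.2).1
    · rw [st_polar g.2]; exact (mem_W0.1 w.2).1⟩
  map_one' := by
    apply Subtype.ext
    apply LinearEquiv.ext
    intro w
    apply Subtype.ext
    exact pr_of_mem w.2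
  map_mul' g k := by
    apply Subtype.ext
    apply LinearEquiv.ext
    intro w
    exact (lin_lin h g.2 k.2 w).symm

/-- decomposition of a vector -/
theorem dec_mem (h : Pr Q a b) (v : V) : v - polar Q b v • a - polar Q a v • b ∈ W0 Q a b := by
  rw [mem_W0, polar_sub_right, polar_sub_right, polar_smul_right, polar_smul_right, polar_sub_right, polar_sub_right,
    polar_smul_right, polar_smul_right, h.self, h.self, h.ab, h.ba]
  simp

theorem nalt (h : Pr Q a b) : H520.RC.NAlt (B0 Q a b) where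
  alt x := h.self _
  nd x hx := by
    apply Subtype.ext
    apply h.nd
    intro v
    have h1 : v = (v - polar Q b v • a - polar Q a v • b) + polar Q b v • a + polar Q a v • b := by abel
    have h2 := hx ⟨_, dec_mem h v⟩
    rw [B0_apply] at h2
    rw [h1, polar_add_right, polar_add_right, h2, polar_smul_right, polar_smul_right, polar_comm Q _ a,
      polar_comm Q _ b, (mem_W0.1 x.2).1, (mem_W0.1 x.2).2]
    simp

/-- the kernel of `phi` -/
theorem of_phi_eq_one (h : Pr Q a b) {g : ↥(stO Q a)} (hg : phi h g = 1) :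
    ∃ c : F, (c = 0 ∨ c * Q a = 1) ∧ ∀ v, g.1 v = v + (c * polar Q a v) • a := by
  have h1 : ∀ w ∈ W0 Q a b, g.1 w = w := by
    intro w hw
    have h2 := congrArg (fun t : H520.RC.Sp (B0 Q a b) => ((t.1 ⟨w, hw⟩ : W0 Q a b) : V)) hg
    change pr Q a b (g.1 w) = w at h2
    rw [pr, sub_eq_iff_eq_add] at h2
    have h3 := mem_O.1 g.2.1 w
    rw [h2, Q_add, polar_smul_right, polar_comm Q w a, (mem_W0.1 hw).1, QuadraticMap.map_smul, smul_zero, add_zero,
      add_eq_left, smul_eq_mul, mul_eq_zero, mul_self_eq_zero] at h3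
    rw [h2, h3.resolve_right h.qa, zero_smul, add_zero]
  -- the image of `b`
  have h2 : g.1 b - b = polar Q (g.1 b - b) b • a := by
    rw [← sub_eq_zero]
    apply h.nd
    intro v
    have e1 : v = (v - polar Q b v • a - polar Q a v • b) + polar Q b v • a + polar Q a v • b := by abel
    have e2 : polar Q (g.1 b - b) (v - polar Q b v • a - polar Q a v • b) = 0 := by
      have h3 := h1 _ (dec_mem h v)
      rw [polar_sub_left]
      nth_rewrite 1 [← h3]
      rw [polar_map g.2.1, sub_self]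
    have e3 : polar Q (g.1 b - b) a = 0 := by
      have h4 := polar_map g.2.1 b a
      rw [g.2.2] at h4
      rw [polar_sub_left, h4, sub_self]
    have e4 : polar Q (g.1 b - b) v = polar Q a v * polar Q (g.1 b - b) b := by
      conv_lhs => rw [e1]
      rw [polar_add_right, polar_add_right, e2, polar_smul_right, e3, polar_smul_right]
      simp
    rw [polar_sub_left, e4, polar_smul_left, smul_eq_mul, mul_comm, sub_self]
  set! c := polar Q (g.1 b - b) b with hc; rewrite [← hc] at h2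
  have h3 : g.1 b = b + c • a := by rw [← h2]; abel
  refine ⟨c, ?_, ?_⟩
  · have h4 := mem_O.1 g.2.1 b
    rw [h3, Q_add, QuadraticMap.map_smul, polar_smul_right, h.ba, smul_eq_mul, smul_eq_mul, mul_one, add_assoc,
      add_eq_left] at h4
    have h5 : c * (c * Q a + 1) = 0 := by linear_combination h4
    rcases mul_eq_zero.1 h5 with h6 | h6
    · exact Or.inl h6
    · right
      linear_combination h6 - h.add_self 1
  · intro v
    have e1 : v = (v - polar Q b v • a - polar Q a v • b) + polar Q b v • a + polar Q a v • b := by abel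
    conv_lhs => rw [e1]
    rw [map_add, map_add, h1 _ (dec_mem h v), map_smul, map_smul, g.2.2, h3]
    module

/-- the elements in the kernel of `phi` are central -/
theorem comm_of_form {g k : V ≃ₗ[F] V} {c : F} (hg : ∀ v, g v = v + (c * polar Q a v) • a) (hk : k ∈ stO Q a) :
    g * k = k * g := by
  ext v
  show g (k v) = k (g v)
  rw [hg, hg, map_add, map_smul, hk.2, st_polar hk]

/-- the stabiliser of `a` in `E Q` -/
def fixE (Q : QuadraticForm F V) (a : V) : Subgroup ↥(E Q) := (stO Q a).comap (E Q).subtype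

theorem mem_fixE {t : ↥(E Q)} : t ∈ fixE Q a ↔ (t : V ≃ₗ[F] V) a = a := by
  constructor
  · intro h
    exact h.2
  · intro h
    exact ⟨E_le_O t.2, h⟩

/-- the inclusion -/
def inc (Q : QuadraticForm F V) (a : V) : ↥(fixE Q a) →* ↥(stO Q a) where
  toFun t := ⟨t.1.1, t.2⟩
  map_one' := rfl
  map_mul' _ _ := rfl

/-- the homomorphism of the stabiliser in `E Q` onto the symplectic group -/
def psi (h : Pr Q a b) : ↥(fixE Q a) →* H520.RC.Sp (B0 Q a b) := (phi h).comp (inc Q a)

theorem psi_apply (h : Pr Q a b) (g : ↥(fixE Q a)) (w : W0 Q a b) :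
    (((psi h g).1 w : W0 Q a b) : V) = pr Q a b (g.1.1 w) := rfl

/-- Siegel elements in the stabiliser -/
theorem sg_mem_fixE {u w : V} (hu : Q u = 0) (hw : polar Q u w = 0) (hau : polar Q a u = 0)
    (haw : polar Q a w = 0) : AutOrth.SemiSim.sg Q u w hu hw ∈ fixE Q a := by
  rw [mem_fixE, AutOrth.SemiSim.sg_apply, polar_comm Q u a, polar_comm Q w a, hau, haw]
  simp

theorem exists_sq [Finite F] (h2 : (2 : F) = 0) (x : F) : ∃ y : F, y * y = x := by
  have h3 : CharP F 2 := (CharP.charP_iff_prime_eq_zero Nat.prime_two).2 (by exact_mod_cast h2)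
  obtain ⟨y, hy⟩ := FiniteField.isSquare_of_char_two (ringChar.eq F 2) x
  exact ⟨y, hy.symm⟩

/-- singular vectors in the coset of `a` -/
theorem exists_sing [Finite F] (h : Pr Q a b) {w : V} (hw : polar Q a w = 0) : ∃ m : F, Q (w + m • a) = 0 := by
  obtain ⟨m, hm⟩ := exists_sq h.two (Q w * (Q a)⁻¹)
  refine ⟨m, ?_⟩
  rw [Q_add, QuadraticMap.map_smul, polar_smul_right, polar_comm Q w a, hw, hm, smul_eq_mul, mul_assoc,
    inv_mul_cancel₀ h.qa, mul_one, h.add_self, smul_zero, add_zero]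

/-- `psi` is surjective -/
theorem psi_surjective [Finite F] [FiniteDimensional F V] (h : Pr Q a b) : Function.Surjective (psi h) := by
  rw [← MonoidHom.range_eq_top]
  apply H520.RC.gen_tv (nalt h)
  intro w c
  obtain ⟨m, hm⟩ := exists_sing h (mem_W0.1 w.2).1
  obtain ⟨l, hl⟩ := exists_sq h.two (c * (Q a)⁻¹)
  have h1 : polar Q ((w : V) + m • a) (l • a) = 0 := by
    rw [polar_smul_right, polar_add_left, polar_smul_left, h.self, polar_comm Q _ a, (mem_W0.1 w.2).1]
    simp
  have h2 : polar Q a ((w : V) + m • a) = 0 := by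
    rw [polar_add_right, polar_smul_right, h.self, (mem_W0.1 w.2).1]
    simp
  have h3 : polar Q a (l • a) = 0 := by rw [polar_smul_right, h.self, smul_zero]
  refine ⟨⟨AutOrth.SemiSim.sg Q _ _ hm h1, sg_mem_fixE hm h1 h2 h3⟩, ?_⟩
  apply Subtype.ext
  apply LinearEquiv.ext
  intro v
  apply Subtype.ext
  rw [psi_apply]
  show pr Q a b ((AutOrth.SemiSim.sg Q _ _ hm h1 : V ≃ₗ[F] V) (v : V)) = _
  rw [H520.RC.tv_apply, AutOrth.SemiSim.sg_apply]
  have hv := mem_W0.1 v.2
  have hw := mem_W0.1 w.2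
  have e1 : polar Q ((w : V) + m • a) (v : V) = polar Q (v : V) w := by
    rw [polar_add_left, polar_smul_left, hv.1, smul_zero, add_zero, polar_comm]
  have e2 : polar Q (l • a) (v : V) = 0 := by rw [polar_smul_left, hv.1, smul_zero]
  rw [e1, e2, pr]
  simp only [polar_add_right, polar_sub_right, polar_smul_right, hv.2, hw.2, h.ba, QuadraticMap.map_smul, smul_eq_mul]
  rw [hl]
  show _ = (v : V) + (c * B0 Q a b v w) • (w : V)
  rw [B0_apply]
  have e3 : c * (Q a)⁻¹ * Q a = c := by rw [mul_assoc, inv_mul_cancel₀ h.qa, mul_one]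
  rw [e3]
  have e4 : -(c * polar Q (v : V) w) = c * polar Q (v : V) w := by
    linear_combination -h.add_self (c * polar Q (v : V) w)
  have e5 : (v : V) + (c * polar Q (v : V) w) • (w : V) = (v : V) + (-(c * polar Q (v : V) w)) • (w : V) := by rw [e4]
  rw [e5]
  module

/-- elements of the centre of the symplectic group are trivial -/
theorem eq_one_of_center [FiniteDimensional F V] (h : Pr Q a b) {t : H520.RC.Sp (B0 Q a b)}
    (ht : t ∈ Subgroup.center (H520.RC.Sp (B0 Q a b))) : t = 1 := by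
  obtain ⟨c, hc⟩ := (H520.RC.mem_center_Sp (nalt h)).1 ht
  apply Subtype.ext
  apply LinearEquiv.ext
  intro v
  show t.1 v = v
  by_cases hv : v = 0
  · rw [hv, map_zero]
  obtain ⟨w, hw⟩ := (nalt h).exists_ne hv
  have h1 : B0 Q a b (t.1 v) (t.1 w) = B0 Q a b v w := t.2 v w
  rw [hc, hc, map_smul, map_smul, LinearMap.smul_apply, smul_eq_mul, smul_eq_mul] at h1
  have h2 : (c - 1) * (c - 1) = 0 := by
    have h3 : (c * c - 1) * B0 Q a b v w = 0 := by linear_combination h1
    have h4 := (mul_eq_zero.1 h3).resolve_right hw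
    linear_combination h4 - c * h.two + h.two
  have h3 : c = 1 := sub_eq_zero.1 (mul_self_eq_zero.1 h2)
  rw [hc, h3, one_smul]

theorem psi_center [FiniteDimensional F V] (h : Pr Q a b) {t : ↥(fixE Q a)}
    (ht : psi h t ∈ Subgroup.center (H520.RC.Sp (B0 Q a b))) (s : ↥(fixE Q a)) : s * t = t * s := by
  obtain ⟨c, -, hc⟩ := of_phi_eq_one h (g := inc Q a t) (eq_one_of_center h ht)
  apply Subtype.ext
  apply Subtype.ext
  exact (comm_of_form (g := t.1.1) hc s.2).symm

/-- the dimension of `W0` -/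
theorem finrank_W0 [FiniteDimensional F V] : Module.finrank F V ≤ Module.finrank F (W0 Q a b) + 2 := by
  have h3 : ∀ e : V, Module.finrank F V ≤ Module.finrank F (LinearMap.ker (polarBilin Q e)) + 1 := by
    intro e
    have := LinearMap.finrank_range_add_finrank_ker (polarBilin Q e)
    have h4 : Module.finrank F (LinearMap.range (polarBilin Q e)) ≤ 1 := by
      calc Module.finrank F (LinearMap.range (polarBilin Q e)) ≤ Module.finrank F F := Submodule.finrank_le _
        _ = 1 := Module.finrank_self F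
    omega
  have h6 := Submodule.finrank_sup_add_finrank_inf_eq (LinearMap.ker (polarBilin Q a)) (LinearMap.ker (polarBilin Q b))
  have h7 := Submodule.finrank_le (LinearMap.ker (polarBilin Q a) ⊔ LinearMap.ker (polarBilin Q b))
  have h8 := h3 a
  have h9 := h3 b
  show _ ≤ Module.finrank F ↥(LinearMap.ker (polarBilin Q a) ⊓ LinearMap.ker (polarBilin Q b)) + 2
  omega

/-- the vectors used below -/
theorem exists_vec [Finite F] [FiniteDimensional F V] (h : Pr Q a b) (hd : 7 ≤ Module.finrank F V) :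
    ∃ e g f f' b' : V, Q e = 0 ∧ Q g = 0 ∧ polar Q e g = 0 ∧ e ≠ 0 ∧ (∀ c : F, g ≠ c • e) ∧
      polar Q a e = 0 ∧ polar Q a g = 0 ∧ polar Q a f = 0 ∧ polar Q a f' = 0 ∧
      polar Q e f = 0 ∧ polar Q e f' = 0 ∧ polar Q g f = 0 ∧ polar Q g f' = 0 ∧ polar Q f' f = 1 ∧
      polar Q e b' = 0 ∧ polar Q g b' = 0 ∧ polar Q a b' = 1 := by
  obtain ⟨f, hf0, hf⟩ := exists_perp_ne (Q := Q) ![a, b] (by omega)
  have haf : polar Q a f = 0 := hf 0
  have hbf : polar Q b f = 0 := hf 1
  obtain ⟨f1, hf1⟩ := h.nd.exists_polar_eq hf0 1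
  obtain ⟨e0, he00, he0⟩ := exists_perp_ne (Q := Q) ![a, b, f, f1 - polar Q a f1 • b] (by omega)
  have hae : polar Q a e0 = 0 := he0 0
  have hbe : polar Q b e0 = 0 := he0 1
  have hfe : polar Q f e0 = 0 := he0 2
  have hf'e : polar Q (f1 - polar Q a f1 • b) e0 = 0 := he0 3
  obtain ⟨e1', he1'⟩ := h.nd.exists_polar_eq he00 1
  obtain ⟨g0, hg00, hg0⟩ := exists_perp_ne (Q := Q) ![a, b, f, f1 - polar Q a f1 • b, e0, e1'] (by omega)
  have hag : polar Q a g0 = 0 := hg0 0
  have hbg : polar Q b g0 = 0 := hg0 1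
  have hfg : polar Q f g0 = 0 := hg0 2
  have hf'g : polar Q (f1 - polar Q a f1 • b) g0 = 0 := hg0 3
  have heg : polar Q e0 g0 = 0 := hg0 4
  have he1g : polar Q e1' g0 = 0 := hg0 5
  obtain ⟨g1', hg1'⟩ := h.nd.exists_polar_eq hg00 1
  set f' := f1 - polar Q a f1 • b with hf'
  have haf' : polar Q a f' = 0 := by rw [hf', polar_sub_right, polar_smul_right, h.ab]; simp
  have hf'f : polar Q f' f = 1 := by
    rw [hf', polar_sub_left, polar_smul_left, hbf, polar_comm Q f1 f, hf1]; simp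
  -- dual vectors orthogonal to `a`
  set! e1 := e1' - polar Q a e1' • b with he1
  have hae1 : polar Q a e1 = 0 := by rw [he1, polar_sub_right, polar_smul_right, h.ab]; simp
  have hee1 : polar Q e0 e1 = 1 := by
    rw [he1, polar_sub_right, polar_smul_right, polar_comm Q e0 b, hbe, he1']; simp
  have hge1 : polar Q g0 e1 = 0 := by
    rw [he1, polar_sub_right, polar_smul_right, polar_comm Q g0 b, hbg, polar_comm Q g0 e1', he1g]; simp
  set! g1 := g1' - polar Q a g1' • b - polar Q e0 g1' • e1 with hg1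
  have hag1 : polar Q a g1 = 0 := by
    rw [hg1, polar_sub_right, polar_sub_right, polar_smul_right, polar_smul_right, h.ab, hae1]; simp
  have heg1 : polar Q e0 g1 = 0 := by
    rw [hg1, polar_sub_right, polar_sub_right, polar_smul_right, polar_smul_right, polar_comm Q e0 b, hbe, hee1]
    simp
  have hgg1 : polar Q g0 g1 = 1 := by
    rw [hg1, polar_sub_right, polar_sub_right, polar_smul_right, polar_smul_right, polar_comm Q g0 b, hbg, hge1,
      hg1']
    simp
  obtain ⟨m, hm⟩ := exists_sing h hae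
  obtain ⟨n, hn⟩ := exists_sing h hag
  have hea : polar Q e0 a = 0 := by rw [polar_comm]; exact hae
  have hga : polar Q g0 a = 0 := by rw [polar_comm]; exact hag
  have heb : polar Q e0 b = 0 := by rw [polar_comm]; exact hbe
  have hgb : polar Q g0 b = 0 := by rw [polar_comm]; exact hbg
  have hef : polar Q e0 f = 0 := by rw [polar_comm]; exact hfe
  have hgf : polar Q g0 f = 0 := by rw [polar_comm]; exact hfg
  have hef' : polar Q e0 f' = 0 := by rw [polar_comm]; exact hf'e
  have hgf' : polar Q g0 f' = 0 := by rw [polar_comm]; exact hf'g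
  refine ⟨e0 + m • a, g0 + n • a, f, f', b - m • e1 - n • g1, hm, hn, ?_, ?_, ?_, ?_, ?_, haf, haf', ?_, ?_, ?_, ?_,
    hf'f, ?_, ?_, ?_⟩
  · simp only [polar_add_left, polar_add_right, polar_smul_left, polar_smul_right, heg, hea, hag, h.self, smul_zero,
      add_zero]
  · intro h0
    have h1 : polar Q b (e0 + m • a) = 0 := by rw [h0, polar_zero_right]
    rw [polar_add_right, polar_smul_right, hbe, h.ba, zero_add, smul_eq_mul, mul_one] at h1
    rw [h1, zero_smul, add_zero] at h0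
    exact he00 h0
  · intro c h0
    have h1 : polar Q b (g0 + n • a) = polar Q b (c • (e0 + m • a)) := by rw [h0]
    rw [polar_smul_right, polar_add_right, polar_add_right, polar_smul_right, polar_smul_right, hbe, hbg, h.ba,
      zero_add, zero_add, smul_eq_mul, smul_eq_mul, smul_eq_mul, mul_one, mul_one] at h1
    rw [h1, smul_add, smul_smul] at h0
    have h2 : g0 = c • e0 := add_right_cancel h0
    have h3 : polar Q g0 e1 = polar Q (c • e0) e1 := by rw [← h2]
    rw [hge1, polar_smul_left, hee1, smul_eq_mul, mul_one] at h3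
    rw [← h3, zero_smul] at h2
    exact hg00 h2
  · rw [polar_add_right, polar_smul_right, hae, h.self]; simp
  · rw [polar_add_right, polar_smul_right, hag, h.self]; simp
  · rw [polar_add_left, polar_smul_left, hef, haf]; simp
  · rw [polar_add_left, polar_smul_left, hef', haf']; simp
  · rw [polar_add_left, polar_smul_left, hgf, haf]; simp
  · rw [polar_add_left, polar_smul_left, hgf', haf']; simp
  · simp only [polar_add_left, polar_sub_right, polar_smul_left, polar_smul_right, heb, h.ab, hee1, hae1, heg1, hag1,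
      smul_eq_mul]
    ring
  · simp only [polar_add_left, polar_sub_right, polar_smul_left, polar_smul_right, hgb, h.ab, hge1, hae1, hgg1, hag1,
      smul_eq_mul]
    ring
  · simp only [polar_sub_right, polar_smul_right, h.ab, hae1, hag1, smul_eq_mul]
    ring

end lin

section abs

open scoped commutatorElement

/-- central extensions of perfect groups -/
theorem perf_of {A S : Type*} [Group A] [Group S] {f : A →* S} (hf : Function.Surjective f)
    (hk : ∀ x, f x = 1 → ∀ y, y * x = x * y) (hS : commutator S = ⊤) :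
    (commutator A).map f = ⊤ ∧ ⁅commutator A, commutator A⁆ = commutator A := by
  have h1 : (commutator A).map f = ⊤ := by
    rw [commutator_def, Subgroup.map_commutator, ← MonoidHom.range_eq_map, MonoidHom.range_eq_top.2 hf,
      ← commutator_def, hS]
  refine ⟨h1, le_antisymm (Subgroup.commutator_le_left _ _) ?_⟩
  conv_lhs => rw [commutator_def]
  rw [Subgroup.commutator_le]
  intro x _ y _
  have h2 : ∀ x : A, ∃ d ∈ commutator A, ∀ z, z * (x * d⁻¹) = (x * d⁻¹) * z := by
    intro x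
    have h3 : f x ∈ (commutator A).map f := by rw [h1]; trivial
    obtain ⟨d, hd, hdx⟩ := h3
    refine ⟨d, hd, hk _ ?_⟩
    rw [map_mul, map_inv, hdx, mul_inv_cancel]
  obtain ⟨d, hd, hdc⟩ := h2 x
  obtain ⟨e, he, hec⟩ := h2 y
  have h3 : ⁅x, y⁆ = ⁅d, e⁆ := by
    set z := x * d⁻¹ with hz
    set w := y * e⁻¹ with hw
    have hx : x = z * d := by rw [hz]; group
    have hy : y = w * e := by rw [hw]; group
    have hzc : ∀ u, Commute u z := hdc
    have hwc : ∀ u, Commute u w := hec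
    rw [hx, hy, commutatorElement_def, commutatorElement_def]
    have e1 : z * d * (w * e) * (z * d)⁻¹ * (w * e)⁻¹ = z * (d * w) * e * d⁻¹ * z⁻¹ * e⁻¹ * w⁻¹ := by group
    rw [e1, (hwc d).eq]
    have e2 : z * (w * d) * e * d⁻¹ * z⁻¹ * e⁻¹ * w⁻¹ = z * (w * d * e * d⁻¹) * z⁻¹ * e⁻¹ * w⁻¹ := by group
    rw [e2, ← (hzc _).eq]
    have e3 : w * d * e * d⁻¹ * z * z⁻¹ * e⁻¹ * w⁻¹ = w * (d * e * d⁻¹ * e⁻¹) * w⁻¹ := by group
    rw [e3, ← (hwc _).eq, mul_inv_cancel_right]
  rw [h3]
  exact Subgroup.commutator_mem_commutator hd he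

/-- a subgroup stable under conjugation by an element of finite order is normalised -/
theorem mem_normalizer_of_pow {G : Type*} [Group G] {x : G} {n : ℕ} (hn : 0 < n) (hx : x ^ n = 1) {K : Subgroup G}
    (h : ∀ m ∈ K, x * m * x⁻¹ ∈ K) : x ∈ Subgroup.normalizer (K : Set G) := by
  rw [Subgroup.mem_normalizer_iff]
  intro m
  refine ⟨fun hm => h m hm, fun hm => ?_⟩
  have h4 : ∀ n : ℕ, x ^ n * (x * m * x⁻¹) * (x ^ n)⁻¹ ∈ K := by
    intro n
    induction n with
    | zero => simpa only [_root_.pow_zero, _root_.one_mul, _root_.inv_one, _root_.mul_one] using hm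
    | succ n ih =>
      have h5 := h _ ih
      have h6 : x * (x ^ n * (x * m * x⁻¹) * (x ^ n)⁻¹) * x⁻¹ = x ^ (n + 1) * (x * m * x⁻¹) * (x ^ (n + 1))⁻¹ := by
        rw [pow_succ']
        group
      rwa [h6] at h5
  obtain ⟨k, rfl⟩ : ∃ k, n = k + 1 := ⟨n - 1, by omega⟩
  have h4 := h4 k
  have h5 : x ^ k = x⁻¹ := by
    rw [eq_inv_iff_mul_eq_one, ← pow_succ]
    exact hx
  rw [h5] at h4
  have h6 : x⁻¹ * (x * m * x⁻¹) * x⁻¹⁻¹ = m := by group
  rwa [h6] at h4

/-- the M-rule for the derived subgroup of a group `A` embedded in `G` with a surjection onto `S₀` with central kernel;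
`S₀ / Z(S₀)` classical simple -/
theorem mrule_abs {G A S₀ Ω ι : Type} [Group G] [Finite G] [Group A] [Group S₀] [Finite S₀] [MulAction G Ω] [Finite ι]
    {N : Subgroup G} (hIH : IH (Nat.card N)) {E : A →* G} (hE : Function.Injective E) {f : A →* S₀}
    (hf : Function.Surjective f) (hk : ∀ x, f x ∈ Subgroup.center S₀ → ∀ y, y * x = x * y)
    (hS : commutator S₀ = ⊤) (h1 : IsSimpleGroup (S₀ ⧸ Subgroup.center S₀))
    (h2 : ¬ IsMulCommutative (S₀ ⧸ Subgroup.center S₀)) (h3 : Cl (S₀ ⧸ Subgroup.center S₀))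
    (h4 : ¬ Exc (S₀ ⧸ Subgroup.center S₀)) (hMN : (commutator A).map E ≤ N) (hne : (commutator A).map E ≠ N)
    {x : ι → G} {r : ι → ℕ} (hx : PF x r) (hcov : Cov Ω x)
    (hnorm : ∀ i, ∀ t : A, ∃ t', x i * E t * (x i)⁻¹ = E t') (ω : Ω) :
    (∀ t ∈ commutator A, E t • ω = ω) ∨ ∃ j, (∀ t ∈ commutator A, x j * E t = E t * x j) ∧ x j • ω = ω := by
  obtain ⟨hmap, hperf⟩ := perf_of hf (fun x hx => hk x (by rw [hx]; exact Subgroup.one_mem _)) hS
  set M : Subgroup G := (commutator A).map E with hM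
  have hMp : ⁅M, M⁆ = M := by rw [hM, ← Subgroup.map_commutator, hperf]
  let e : ↥(commutator A) ≃* ↥M := (commutator A).equivMapOfInjective E hE
  let π : ↥M →* S₀ ⧸ Subgroup.center S₀ :=
    ((QuotientGroup.mk' (Subgroup.center S₀)).comp (f.comp (commutator A).subtype)).comp e.symm.toMonoidHom
  have hπ : Function.Surjective π := by
    intro y
    obtain ⟨s, rfl⟩ := QuotientGroup.mk'_surjective _ y
    have h5 : s ∈ (commutator A).map f := by rw [hmap]; trivial
    obtain ⟨d, hd, rfl⟩ := h5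
    refine ⟨e ⟨d, hd⟩, ?_⟩
    show QuotientGroup.mk' (Subgroup.center S₀) (f ((e.symm (e ⟨d, hd⟩) : ↥(commutator A)) : A)) = _
    rw [e.symm_apply_apply]
  have hker : π.ker ≤ Subgroup.center M := by
    intro m hm
    rw [MonoidHom.mem_ker] at hm
    have h5 : f ((e.symm m : ↥(commutator A)) : A) ∈ Subgroup.center S₀ := (QuotientGroup.eq_one_iff _).1 hm
    rw [Subgroup.mem_center_iff]
    intro n
    apply e.symm.injective
    rw [map_mul, map_mul]
    exact Subtype.ext (hk _ h5 _)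
  have hnM : ∀ i, x i ∈ Subgroup.normalizer (M : Set G) := by
    intro i
    apply mem_normalizer_of_pow (hx.prime i).pos (hx.pow i)
    have h5 : M.map (MulAut.conj (x i)).toMonoidHom ≤ M := by
      rw [hM, Subgroup.map_map, commutator_def, Subgroup.map_commutator, Subgroup.map_commutator]
      have h6 : (⊤ : Subgroup A).map ((MulAut.conj (x i)).toMonoidHom.comp E) ≤ (⊤ : Subgroup A).map E := by
        rintro _ ⟨t, -, rfl⟩
        obtain ⟨t', ht'⟩ := hnorm i t
        exact ⟨t', trivial, ht'.symm⟩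
      exact Subgroup.commutator_mono h6 h6
    intro m hm
    exact h5 ⟨m, hm, rfl⟩
  rcases mrule_IH (S := N) hIH (MulEquiv.refl N) hMN hne hMp π hπ hker h1 h2 h3 h4 hx hcov hnM ω with h5 | ⟨j, h5, h6⟩
  · exact Or.inl fun t ht => h5 ⟨t, ht, rfl⟩
  · exact Or.inr ⟨j, fun t ht => h5 _ ⟨t, ht, rfl⟩, h6⟩

end abs

section main

open Cfsg.Agent.H93.RC
open scoped commutatorElement

variable {F V G Ω ι : Type} [Field F] [AddCommGroup V] [Module F V] [Group G] [MulAction G Ω]
  {Q : QuadraticForm F V} {N : Subgroup G} {ρ : ↥(E Q) →* G} {a b : V}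

/-- the embedding of the stabiliser of `a` -/
def emb (ρ : ↥(E Q) →* G) (a : V) : ↥(fixE Q a) →* G := ρ.comp (fixE Q a).subtype

theorem emb_apply (t : ↥(fixE Q a)) : emb ρ a t = ρ t.1 := rfl

theorem emb_injective (hG : Good Q) (hρ : _root_.Cfsg.Agent.H93.RC.Rep Q N ρ) (ha : a ≠ 0) : Function.Injective (emb ρ a) := by
  rw [injective_iff_map_eq_one]
  intro t ht
  have h1 : t.1 ∈ Subgroup.center ↥(E Q) := by rw [← hρ.ker, MonoidHom.mem_ker]; exact ht
  obtain ⟨c, -, h⟩ := H188.RC.scal_of_center hG h1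
  have h2 := h a
  rw [mem_fixE.1 t.2] at h2
  have hc : c = 1 := by
    have h3 : (1 - c) • a = 0 := by rw [sub_smul, one_smul, ← h2, sub_self]
    rcases smul_eq_zero.1 h3 with h4 | h4
    · exact (sub_eq_zero.1 h4).symm
    · exact absurd h4 ha
  apply Subtype.ext
  apply Subtype.ext
  apply LinearEquiv.ext
  intro v
  rw [h v, hc, one_smul]
  rfl

/-- conjugation by a lift fixing the line of `a` -/
theorem conjE_mem {M : Gam Q} (hlin : IsLin M) {c : F} (hc : c ≠ 0) (hM : M.1 a = c • a) {t : ↥(E Q)}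
    (ht : t ∈ fixE Q a) : conjE Q M t ∈ fixE Q a := by
  rw [mem_fixE, coe_conjE]
  have h1 : a = M.1 (c⁻¹ • a) := by rw [hlin, hM, smul_smul, inv_mul_cancel₀ hc, one_smul]
  conv_lhs => rw [h1]
  rw [conjLin_apply', map_smul, mem_fixE.1 ht, ← h1]

/-- a linear semisimilitude preserving the line of `a`: a multiple of an isometry fixing `a` -/
theorem exists_iso {M : Gam Q} (hlin : IsLin M) (ha : Q a ≠ 0) {c : F} (hc : c ≠ 0) (hM : M.1 a = c • a) :
    ∃ X : ↥(stO Q a), ∀ v, M.1 v = c • X.1 v := by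
  have ha0 : a ≠ 0 := by rintro rfl; rw [QuadraticMap.map_zero] at ha; exact ha rfl
  obtain ⟨σ, k, hS⟩ := M.2
  have hσ : ∀ t : F, σ t = t := by
    intro t
    have h1 := hS.smul t a
    rw [hlin] at h1
    have h2 : (σ t - t) • (M.1 a) = 0 := by rw [sub_smul, ← h1, sub_self]
    rcases smul_eq_zero.1 h2 with h3 | h3
    · exact sub_eq_zero.1 h3
    · rw [hM, smul_eq_zero] at h3
      rcases h3 with h3 | h3
      · exact absurd h3 hc
      · exact absurd h3 ha0
  have hk : k = c * c := by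
    have h1 := hS.form a
    rw [hM, QuadraticMap.map_smul, hσ, smul_eq_mul] at h1
    exact (mul_right_cancel₀ ha h1).symm
  let X : V ≃ₗ[F] V := LinearEquiv.ofBijective
    { toFun := fun v => c⁻¹ • M.1 v
      map_add' := fun u v => by rw [hS.add, smul_add]
      map_smul' := fun t v => by rw [hlin, RingHom.id_apply, smul_comm] } (by
      constructor
      · intro u v h
        have h1 : c⁻¹ • M.1 u = c⁻¹ • M.1 v := h
        have h2 := congrArg (fun z => c • z) h1
        simp only [smul_smul, mul_inv_cancel₀ hc, one_smul] at h2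
        exact M.1.injective h2
      · intro v
        obtain ⟨u, hu⟩ := M.1.surjective (c • v)
        refine ⟨u, ?_⟩
        show c⁻¹ • M.1 u = v
        rw [hu, smul_smul, inv_mul_cancel₀ hc, one_smul])
  have hX : ∀ v, X v = c⁻¹ • M.1 v := fun v => rfl
  refine ⟨⟨X, ?_, ?_⟩, ?_⟩
  · intro v
    rw [hX, QuadraticMap.map_smul, hS.form, hσ, hk, smul_eq_mul]
    field_simp
  · rw [hX, hM, smul_smul, inv_mul_cancel₀ hc, one_smul]
  · intro v
    show M.1 v = c • X v
    rw [hX, smul_smul, mul_inv_cancel₀ hc, one_smul]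

section fin

variable [Finite F] [FiniteDimensional F V]

/-- a member centralising the derived subgroup of the stabiliser is trivial or a reflection -/
theorem of_cent (h : Pr Q a b) (hG : Good Q) (hρ : _root_.Cfsg.Agent.H93.RC.Rep Q N ρ) (hd : 8 ≤ Module.finrank F V) {x : G} {M : Gam Q}
    (hl : Lf ρ x M) (hlin : IsLin M) {c : F} (hc : c ≠ 0) (hM : M.1 a = c • a)
    (hcent : ∀ t ∈ commutator ↥(fixE Q a), x * emb ρ a t = emb ρ a t * x) :
    ∃ d : F, (d = 0 ∨ d * Q a = 1) ∧ ∀ v, M.1 v = c • (v + (d * polar Q a v) • a) := by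
  have ha0 : a ≠ 0 := by rintro rfl; exact h.qa (QuadraticMap.map_zero Q)
  obtain ⟨X, hX⟩ := exists_iso hlin h.qa hc hM
  have h6 : 6 ≤ Module.finrank F (W0 Q a b) := by
    have := finrank_W0 (Q := Q) (a := a) (b := b)
    omega
  have hcomm : ∀ t ∈ commutator ↥(fixE Q a), X * inc Q a t = inc Q a t * X := by
    intro t ht
    have h1 : conjE Q M t.1 = t.1 := by
      have h2 : (⟨conjE Q M t.1, conjE_mem hlin hc hM t.2⟩ : ↥(fixE Q a)) = t := by
        apply emb_injective hG hρ ha0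
        rw [emb_apply, emb_apply, ← hl, mul_inv_eq_iff_eq_mul]
        exact hcent t ht
      exact congrArg Subtype.val h2
    apply Subtype.ext
    apply LinearEquiv.ext
    intro v
    have h3 : (t.1.1 : V ≃ₗ[F] V) (M.1 v) = M.1 (t.1.1 v) := by
      have h4 := conjLin_apply' M t.1.1 v
      rw [← coe_conjE, h1] at h4
      exact h4
    rw [hX, hX, map_smul] at h3
    exact (smul_right_injective V hc h3).symm
  have h1 := (perf_of (psi_surjective h) (fun x hx => psi_center h (by rw [hx]; exact Subgroup.one_mem _))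
    (H520.RC.perfect_Sp (nalt h) (Or.inl h6))).1
  have h2 : phi h X ∈ Subgroup.center (H520.RC.Sp (B0 Q a b)) := by
    rw [Subgroup.mem_center_iff]
    intro s
    have h3 : s ∈ (commutator ↥(fixE Q a)).map (psi h) := by rw [h1]; trivial
    obtain ⟨t, ht, rfl⟩ := h3
    show phi h (inc Q a t) * phi h X = phi h X * phi h (inc Q a t)
    rw [← map_mul, ← map_mul, hcomm t ht]
  obtain ⟨d, hd, hd'⟩ := of_phi_eq_one h (eq_one_of_center h h2)
  exact ⟨d, hd, fun v => by rw [hX, hd']⟩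

/-- the image of the stabiliser is proper -/
theorem range_ne (h : Pr Q a b) (hG : Good Q) (hρ : _root_.Cfsg.Agent.H93.RC.Rep Q N ρ) (hd : 7 ≤ Module.finrank F V) :
    (commutator ↥(fixE Q a)).map (emb ρ a) ≠ N := by
  intro hN
  have ha0 : a ≠ 0 := by rintro rfl; exact h.qa (QuadraticMap.map_zero Q)
  obtain ⟨e, -, -, -, -, he, -, -, he0, -, hae, -⟩ := exists_vec h hd
  have h1 : Q a = Q (a + e) := by rw [Q_add, he, hae, add_zero, add_zero]
  have h2 : a + e ≠ 0 := by
    intro h3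
    rw [h3, QuadraticMap.map_zero] at h1
    exact h.qa h1
  obtain ⟨g, hg, hga⟩ := hG.trans_norm ha0 h2 h1
  have h3 : ρ ⟨g, hg⟩ ∈ (commutator ↥(fixE Q a)).map (emb ρ a) := by
    rw [hN, ← hρ.range]
    exact ⟨_, rfl⟩
  obtain ⟨t, -, ht⟩ := h3
  have h4 : (⟨g, hg⟩ : ↥(E Q)) * t.1⁻¹ ∈ Subgroup.center ↥(E Q) := by
    rw [← hρ.ker, MonoidHom.mem_ker, map_mul, map_inv, ← ht, emb_apply, mul_inv_cancel]
  obtain ⟨c, -, hc⟩ := H188.RC.scal_of_center hG h4
  have h5 := hc a
  have h6 : (((⟨g, hg⟩ : ↥(E Q)) * t.1⁻¹ : ↥(E Q)) : V ≃ₗ[F] V) a = a + e := by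
    show g ((t.1.1 : V ≃ₗ[F] V).symm a) = a + e
    have h7 : (t.1.1 : V ≃ₗ[F] V).symm a = a := by rw [LinearEquiv.symm_apply_eq, mem_fixE.1 t.2]
    rw [h7, hga]
  rw [h6] at h5
  have h7 : e = (c - 1) • a := by rw [sub_smul, one_smul, ← h5]; abel
  rw [h7, QuadraticMap.map_smul, smul_eq_mul] at he
  rcases mul_eq_zero.1 he with h8 | h8
  · rw [mul_self_eq_zero] at h8
    rw [h7, h8, zero_smul] at he0
    exact he0 rfl
  · exact h.qa h8

omit [Finite F] [FiniteDimensional F V] in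
/-- a product of siegel elements lying in the derived subgroup -/
theorem sg_mem_commutator (h : Pr Q a b) {e g f f' : V} (he : Q e = 0) (hg : Q g = 0) (heg : polar Q e g = 0)
    (hae : polar Q a e = 0) (hag : polar Q a g = 0) (haf : polar Q a f = 0) (haf' : polar Q a f' = 0)
    (hef : polar Q e f = 0) (hef' : polar Q e f' = 0) (hgf : polar Q g f = 0) (hgf' : polar Q g f' = 0)
    (hff : polar Q f' f = 1) :
    (⟨AutOrth.SemiSim.sg Q e g he heg, sg_mem_fixE he heg hae hag⟩ : ↥(fixE Q a)) ∈ commutator ↥(fixE Q a) := by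
  have hneg : ∀ v : V, -v = v := by
    intro v
    rw [neg_eq_iff_add_eq_zero, ← two_smul F, h.two, zero_smul]
  set! H : ↥(fixE Q a) := ⟨AutOrth.SemiSim.sg Q g f' hg hgf', sg_mem_fixE hg hgf' hag haf'⟩ with hH
  set! K : ↥(fixE Q a) := ⟨AutOrth.SemiSim.sg Q e f he hef, sg_mem_fixE he hef hae haf⟩ with hK
  have h1 : (AutOrth.SemiSim.sg Q g f' hg hgf' : V ≃ₗ[F] V) e = e := by
    rw [AutOrth.SemiSim.sg_apply, polar_comm Q g e, polar_comm Q f' e, heg, hef']
    simp
  have h2 : (AutOrth.SemiSim.sg Q g f' hg hgf' : V ≃ₗ[F] V) f = f + g := by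
    rw [AutOrth.SemiSim.sg_apply, hgf, hff, zero_smul, one_smul, mul_zero, zero_smul, add_zero, sub_zero,
      sub_eq_add_neg, hneg]
  have h3 : (⟨AutOrth.SemiSim.sg Q e g he heg, sg_mem_fixE he heg hae hag⟩ : ↥(fixE Q a)) = ⁅H, K⁆ := by
    apply Subtype.ext
    show AutOrth.SemiSim.sg Q e g he heg = AutOrth.SemiSim.sg Q g f' hg hgf' * AutOrth.SemiSim.sg Q e f he hef *
      (AutOrth.SemiSim.sg Q g f' hg hgf')⁻¹ * (AutOrth.SemiSim.sg Q e f he hef)⁻¹
    have h4 : polar Q e (f + g) = 0 := by rw [polar_add_right, hef, heg, add_zero]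
    have h5 : polar Q e (-f) = 0 := by rw [hneg]; exact hef
    have h6 : polar Q e (f + g + -f) = 0 := by rw [polar_add_right, h4, h5, add_zero]
    rw [AutOrth.SemiSim.conj_sg _ he hef (by rw [h1]; exact he) (by rw [h1, h2]; exact h4),
      AutOrth.SemiSim.sg_inv he hef h5,
      AutOrth.SemiSim.sg_congr _ _ he h4 h1 h2, AutOrth.SemiSim.sg_mul he h4 h5 h6]
    exact AutOrth.SemiSim.sg_congr _ _ _ _ rfl (by abel)
  rw [h3]
  exact Subgroup.commutator_mem_commutator (Subgroup.mem_top _) (Subgroup.mem_top _)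

omit [Finite F] [FiniteDimensional F V] in
/-- the last step: `{t, x}`, `t` a long root element, `x` the reflection, is not a cover -/
theorem not_cov_two [Nonempty Ω] (h : Pr Q a b) (hG : Good Q) (hE : Env G Ω N) (hρ : _root_.Cfsg.Agent.H93.RC.Rep Q N ρ) {x : G} {M : Gam Q}
    (hl : Lf ρ x M) {c : F} (hM : ∀ v, M.1 v = c • refl Q a h.qa v)
    {e g b' : V} (he : Q e = 0) (hg : Q g = 0) (heg : polar Q e g = 0) (he0 : e ≠ 0) (hind : ∀ k : F, g ≠ k • e)
    (hae : polar Q a e = 0) (hag : polar Q a g = 0) (heb : polar Q e b' = 0) (hgb : polar Q g b' = 0)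
    (hab : polar Q a b' = 1)
    (hcov : ∀ ω : Ω, ρ (AutOrth.SemiSim.sg Q e g he heg) • ω = ω ∨ x • ω = ω) : False := by
  have hneg : ∀ v : V, -v = v := by
    intro v
    rw [neg_eq_iff_add_eq_zero, ← two_smul F, h.two, zero_smul]
  -- conjugation by `x`
  have hxc : ∀ t : ↥(E Q), ∀ (t' : ↥(E Q)), (t' : V ≃ₗ[F] V) = refl Q a h.qa * t.1 * (refl Q a h.qa)⁻¹ →
      x * ρ t * x⁻¹ = ρ t' := by
    intro t t' ht'
    rw [hl t]
    congr 1
    apply Subtype.ext
    rw [ht', coe_conjE]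
    apply LinearEquiv.ext
    intro v
    obtain ⟨v, rfl⟩ := M.1.surjective v
    rw [conjLin_apply', hM, hM, map_smul]
    show c • refl Q a h.qa (t.1 v) = c • refl Q a h.qa (t.1 ((refl Q a h.qa).symm (refl Q a h.qa v)))
    rw [LinearEquiv.symm_apply_apply]
  let U : Subgroup G := Subgroup.closure {z : G | ∃ w, ∃ h1 : polar Q e w = 0, ∃ h2 : polar Q g w = 0,
    z = ρ (AutOrth.SemiSim.sg Q e w he h1) ∨ z = ρ (AutOrth.SemiSim.sg Q g w hg h2)}
  refine H380.RC.not_cov_one (U := U) hE hcov ?_ ?_ ?_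
  · intro u hu
    have h1 : U ≤ Subgroup.centralizer {ρ (AutOrth.SemiSim.sg Q e g he heg)} := by
      rw [Subgroup.closure_le]
      rintro _ ⟨w, hew, hgw, rfl | rfl⟩
      · rw [SetLike.mem_coe, Subgroup.mem_centralizer_singleton_iff, ← map_mul, ← map_mul]
        congr 1
        rw [AutOrth.SemiSim.sg_mul he hew heg (by rw [polar_add_right, hew, heg, add_zero]),
          AutOrth.SemiSim.sg_mul he heg hew (by rw [polar_add_right, hew, heg, add_zero])]
        exact AutOrth.SemiSim.sg_congr _ _ _ _ rfl (add_comm _ _)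
      · rw [SetLike.mem_coe, Subgroup.mem_centralizer_singleton_iff, ← map_mul, ← map_mul]
        congr 1
        have h3 : (AutOrth.SemiSim.sg Q g w hg hgw : V ≃ₗ[F] V) e = e := by
          rw [AutOrth.SemiSim.sg_apply, polar_comm Q g e, polar_comm Q w e, heg, hew]
          simp
        have h4 : (AutOrth.SemiSim.sg Q g w hg hgw : V ≃ₗ[F] V) g = g := AutOrth.SemiSim.sg_self hg hgw
        have h5 := AutOrth.SemiSim.conj_sg (AutOrth.SemiSim.sg Q g w hg hgw) he heg (by rw [h3]; exact he)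
          (by rw [h3, h4]; exact heg)
        rw [AutOrth.SemiSim.sg_congr _ _ he heg h3 h4, mul_inv_eq_iff_eq_mul] at h5
        exact h5
    exact Subgroup.mem_centralizer_singleton_iff.1 (h1 hu)
  · intro h1
    have h2 : AutOrth.SemiSim.sg Q e g he heg ∈ Subgroup.center ↥(E Q) := by
      rw [← hρ.ker, MonoidHom.mem_ker]; exact h1
    obtain ⟨k, -, hk⟩ := H188.RC.scal_of_center hG h2
    -- a vector not orthogonal to `e`
    obtain ⟨y, hy⟩ := hG.nondeg.exists_polar_ne he0
    have h3 := hk e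
    rw [AutOrth.SemiSim.sg_self] at h3
    have hk1 : k = 1 := by
      have h4 : (1 - k) • e = 0 := by rw [sub_smul, one_smul, ← h3, sub_self]
      rcases smul_eq_zero.1 h4 with h5 | h5
      · exact (sub_eq_zero.1 h5).symm
      · exact absurd h5 he0
    have h5 := hk y
    rw [hk1, one_smul, AutOrth.SemiSim.sg_apply, hg, zero_mul, zero_smul, sub_zero] at h5
    have h6 : polar Q e y • g = polar Q g y • e := by
      rw [← sub_eq_zero]
      have h7 : y + polar Q e y • g - polar Q g y • e - y = 0 := by rw [h5, sub_self]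
      rw [← h7]
      abel
    apply hind ((polar Q e y)⁻¹ * polar Q g y)
    rw [mul_smul, ← h6, smul_smul, inv_mul_cancel₀ hy, one_smul]
  · -- `sg e (κ a) ∈ [U, x]`
    have hraw : ∀ w, refl Q a h.qa w = w - ((Q a)⁻¹ * polar Q a w) • a := fun w => refl_apply h.qa w
    have hb1 : polar Q e (-b') = 0 := by rw [hneg]; exact heb
    have hea : polar Q e a = 0 := by rw [polar_comm]; exact hae
    have hka : polar Q e ((Q a)⁻¹ • a) = 0 := by rw [polar_smul_right, hea, smul_zero]
    have hre : refl Q a h.qa e = e := by rw [hraw, hae, mul_zero, zero_smul, sub_zero]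
    have hrb : refl Q a h.qa (-b') = -b' + (Q a)⁻¹ • a := by
      rw [hraw, polar_neg_right, hab]
      simp
    have hrb0 : polar Q e (-b' + (Q a)⁻¹ • a) = 0 := by rw [polar_add_right, hb1, hka, add_zero]
    have h1 : ρ (AutOrth.SemiSim.sg Q e ((Q a)⁻¹ • a) he hka) ∈ H380.RC.cmm U x := by
      have h2 := H380.RC.mem_cmm (U := U) (x := x) (u := ρ (AutOrth.SemiSim.sg Q e b' he heb))
        (Subgroup.subset_closure ⟨b', heb, hgb, Or.inl rfl⟩)
      have h3 : x * (ρ (AutOrth.SemiSim.sg Q e b' he heb))⁻¹ * x⁻¹ =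
          ρ (AutOrth.SemiSim.sg Q e (-b' + (Q a)⁻¹ • a) he hrb0) := by
        rw [← map_inv ρ, AutOrth.SemiSim.sg_inv he heb hb1]
        apply hxc
        refine ((siegel_conj (refl_mem_O h.qa) he hb1 (by rw [hre]; exact he) (by rw [hre, hrb]; exact hrb0)).trans
          ?_).symm
        exact siegel_congr _ _ he hrb0 hre hrb
      have h4 : ρ (AutOrth.SemiSim.sg Q e b' he heb) * x * (ρ (AutOrth.SemiSim.sg Q e b' he heb))⁻¹ * x⁻¹ =
          ρ (AutOrth.SemiSim.sg Q e ((Q a)⁻¹ • a) he hka) := by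
        rw [mul_assoc, mul_assoc, ← mul_assoc x, h3, ← map_mul ρ, AutOrth.SemiSim.sg_mul he heb hrb0
          (by rw [polar_add_right, heb, hrb0, add_zero])]
        congr 1
        exact AutOrth.SemiSim.sg_congr _ _ _ _ rfl (by abel)
      rw [h4] at h2
      exact h2
    -- commutator with `sg g b''`
    have hgb2 : polar Q g (Q a • b') = 0 := by rw [polar_smul_right, hgb, smul_zero]
    have heb2 : polar Q e (Q a • b') = 0 := by rw [polar_smul_right, heb, smul_zero]
    have h2 := H380.RC.cmm_comm (U := U) (x := x) (v := ρ (AutOrth.SemiSim.sg Q g (Q a • b') hg hgb2))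
      (Subgroup.subset_closure ⟨Q a • b', heb2, hgb2, Or.inr rfl⟩) h1
    have h3 : (AutOrth.SemiSim.sg Q g (Q a • b') hg hgb2 : V ≃ₗ[F] V) e = e := by
      rw [AutOrth.SemiSim.sg_apply, polar_comm Q g e, polar_comm Q _ e, heg, heb2]
      simp only [_root_.zero_smul, _root_.add_zero, _root_.sub_zero, _root_.MulZeroClass.mul_zero]
    have h4 : (AutOrth.SemiSim.sg Q g (Q a • b') hg hgb2 : V ≃ₗ[F] V) ((Q a)⁻¹ • a) = (Q a)⁻¹ • a + g := by
      rw [AutOrth.SemiSim.sg_apply, polar_smul_right, polar_comm Q g a, hag, smul_zero, zero_smul, mul_zero,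
        zero_smul, add_zero, sub_zero, polar_smul_left, polar_smul_right, polar_comm Q b' a, hab, smul_eq_mul,
        smul_eq_mul, mul_one, mul_inv_cancel₀ h.qa, one_smul, sub_eq_add_neg, hneg]
    have h5 : polar Q e ((Q a)⁻¹ • a + g) = 0 := by rw [polar_add_right, hka, heg, add_zero]
    have h6 : polar Q e (-((Q a)⁻¹ • a)) = 0 := by rw [hneg]; exact hka
    have h7 : ρ (AutOrth.SemiSim.sg Q g (Q a • b') hg hgb2) * ρ (AutOrth.SemiSim.sg Q e ((Q a)⁻¹ • a) he hka) *
        (ρ (AutOrth.SemiSim.sg Q g (Q a • b') hg hgb2))⁻¹ * (ρ (AutOrth.SemiSim.sg Q e ((Q a)⁻¹ • a) he hka))⁻¹ =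
        ρ (AutOrth.SemiSim.sg Q e g he heg) := by
      rw [← map_inv ρ, ← map_inv ρ, ← map_mul ρ, ← map_mul ρ, ← map_mul ρ]
      congr 1
      rw [AutOrth.SemiSim.conj_sg _ he hka (by rw [h3]; exact he) (by rw [h3, h4]; exact h5),
        AutOrth.SemiSim.sg_inv he hka h6, AutOrth.SemiSim.sg_congr _ _ he h5 h3 h4,
        AutOrth.SemiSim.sg_mul he h5 h6 (by rw [polar_add_right, h5, h6, add_zero])]
      exact AutOrth.SemiSim.sg_congr _ _ _ _ rfl (by abel)
    rw [h7] at h2
    exact h2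

/-- **Box REFL**, general form: a member of the cover is a multiple of the reflection `r_a`, all the others are linear
and preserve the line of `a`. -/
theorem box_refl' [Finite G] [Nonempty Ω] [Finite ι] (h2 : (2 : F) = 0) (hG : Good Q)
    (h8 : 8 ≤ Module.finrank F V) (hE : Env G Ω N) (hρ : _root_.Cfsg.Agent.H93.RC.Rep Q N ρ) (hIH : IH (Nat.card N))
    {x : ι → G} {M : ι → Gam Q} {r : ι → ℕ} (hx : PF x r) (hcov : Cov Ω x)
    (hl : ∀ i, Lf ρ (x i) (M i)) (hlin : ∀ i, IsLin (M i)) (ha : Q a ≠ 0) {k : ι → F} (hk : ∀ i, k i ≠ 0)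
    (hfix : ∀ i, (M i).1 a = k i • a) (i₀ : ι) (hu : ∀ v, (M i₀).1 v = k i₀ • refl Q a ha v) : False := by
  have ha0 : a ≠ 0 := by rintro rfl; exact ha (QuadraticMap.map_zero Q)
  obtain ⟨b, hb⟩ := hG.nondeg.exists_polar_eq ha0 1
  have h : Pr Q a b := ⟨h2, hG.nondeg, ha, hb⟩
  have h6 : 6 ≤ Module.finrank F (W0 Q a b) := by
    have := finrank_W0 (Q := Q) (a := a) (b := b)
    omega
  obtain ⟨e, g, f, f', b', he, hg, heg, he0, hind, hae, hag, haf, haf', hef, hef', hgf, hgf', hff, heb, hgb, hab⟩ :=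
    exists_vec h (by omega)
  -- elements whose lift has square a scalar
  have hr2 : ∀ i, (∀ v, (M i).1 ((M i).1 v) = (k i * k i) • v) → r i = 2 := by
    intro i hi
    have h3 : x i ^ 2 = 1 := by
      rw [((hl i).pow 2).eq_one_iff hG hE hρ]
      refine ⟨k i * k i, mul_ne_zero (hk i) (hk i), fun v => ?_⟩
      rw [← hi v]
      rfl
    have h4 : orderOf (x i) = r i := by
      have := Fact.mk (hx.prime i)
      exact orderOf_eq_prime (hx.pow i) (hx.ne i)
    have h5 : r i ∣ 2 := by rw [← h4]; exact orderOf_dvd_of_pow_eq_one h3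
    exact (Nat.prime_dvd_prime_iff_eq (hx.prime i) Nat.prime_two).1 h5
  have hdd : ∀ i, ∀ d : F, (d * Q a = 1) → (∀ v, (M i).1 v = k i • (v + (d * polar Q a v) • a)) → r i = 2 := by
    intro i d hd hi
    apply hr2
    intro v
    rw [hi v, hlin, hi, smul_smul, polar_add_right, polar_smul_right, h.self, smul_zero, add_zero, add_assoc,
      ← add_smul, h.add_self, zero_smul, add_zero]
  have hi₀ : r i₀ = 2 := by
    refine hdd i₀ (Q a)⁻¹ (inv_mul_cancel₀ ha) fun v => ?_
    rw [hu v, refl_apply, sub_eq_add_neg, ← neg_smul]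
    congr 4
    linear_combination -h.add_self ((Q a)⁻¹ * polar Q a v)
  have hfV : Finite V := Module.finite_of_finite F
  have hfS : Finite (H520.RC.Sp (B0 Q a b)) :=
    Finite.of_injective (fun t : H520.RC.Sp (B0 Q a b) => fun v => t.1 v) fun s t hst =>
      Subtype.ext (LinearEquiv.ext fun v => congrFun hst v)
  have hmr := fun ω => mrule_abs (Ω := Ω) (S₀ := H520.RC.Sp (B0 Q a b)) hIH (emb_injective hG hρ ha0)
    (psi_surjective h)
    (fun x hx => psi_center h hx) (H520.RC.perfect_Sp (nalt h) (Or.inl h6)) (H520.RC.simple_Sp (nalt h) (Or.inl h6))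
    (H520.RC.ncomm_Sp (nalt h) (Or.inl h6)) (H520.RC.cl_Sp (nalt h) (Or.inl h6))
    (H520.RC.not_exc_Sp (nalt h) (Or.inl h6))
    (by
      rintro _ ⟨t, -, rfl⟩
      rw [← hρ.range]
      exact ⟨_, rfl⟩) (range_ne h hG hρ (by omega)) hx hcov
    (fun i t => ⟨⟨conjE Q (M i) t.1, conjE_mem (hlin i) (hk i) (hfix i) t.2⟩, hl i t.1⟩) ω
  refine not_cov_two h hG hE hρ (hl i₀) hu he hg heg he0 hind hae hag heb hgb hab fun ω => ?_
  rcases hmr ω with h3 | ⟨j, h3, h4⟩
  · left
    exact h3 _ (sg_mem_commutator h he hg heg hae hag haf haf' hef hef' hgf hgf' hff)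
  · right
    obtain ⟨d, hd, hd'⟩ := of_cent h hG hρ h8 (hl j) (hlin j) (hk j) (hfix j) h3
    rcases hd with hd | hd
    · exfalso
      apply hx.ne j
      rw [(hl j).eq_one_iff hG hE hρ]
      exact ⟨k j, hk j, fun v => by rw [hd' v, hd, zero_mul, zero_smul, add_zero]⟩
    · have h5 : j = i₀ := hx.inj (by rw [hdd j d hd hd', hi₀])
      rw [← h5]
      exact h4

omit [Finite F] [FiniteDimensional F V] in
/-- `N` has the order of `P Q` -/
theorem card_N (hρ : _root_.Cfsg.Agent.H93.RC.Rep Q N ρ) : Nat.card (P Q) = Nat.card N := by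
  have h1 : Nonempty (P Q ≃* N) := by
    rw [← hρ.range]
    exact ⟨(QuotientGroup.quotientMulEquivOfEq hρ.ker.symm).trans (QuotientGroup.quotientKerEquivRange ρ)⟩
  obtain ⟨e⟩ := h1
  exact Nat.card_congr e.toEquiv

end fin

end main

end Cfsg.Agent.H64.RC.Refl

namespace Cfsg.Agent.H64.RC

open QuadraticMap MulAction
open Cfsg.Agent.LieClassical.OrthCore Cfsg.Agent.LieClassical.OrthTrans
open Cfsg.Agent.LieClassical.OrthSimple Cfsg.Agent.ClassicalGeometry.OrthSemi
open Cfsg.Agent.ClassicalGeometry.OrthAut1 Cfsg.Agent.H106.RC Cfsg.Agent.H93.RC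

variable {F V : Type} [Field F] [Finite F] [AddCommGroup V] [Module F V] [FiniteDimensional F V]
    {Q : QuadraticForm F V} {G Ω : Type} [Group G] [Finite G] [MulAction G Ω] [Nonempty Ω]
    {N : Subgroup G} {ρ : ↥(E Q) →* G}

/-- BOX REFL (char 2, all n >= 8, all q): the involution is a reflection, all the others fix its centre.
(statement of helper578) -/
theorem box_refl_fix (hG : Good Q) (h8 : 8 ≤ Module.finrank F V) [CharP F 2]
    (hE : Env G Ω N) (hρ : _root_.Cfsg.Agent.H93.RC.Rep Q N ρ) (hIH : IH (Nat.card (P Q)))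
    {ι : Type} [Finite ι] {x : ι → G} {M : ι → Gam Q} {r : ι → ℕ} (hx : PF x r) (hcov : Cov Ω x)
    (hl : ∀ i, Lf ρ (x i) (M i)) (hlin : ∀ i, IsLin (M i)) (_hO : ∀ i v, Q ((M i).1 v) = Q v)
    (i₀ : ι) (a : V) (ha : Q a ≠ 0) (hu : ∀ v, (M i₀).1 v = v - ((Q a)⁻¹ * polar Q a v) • a)
    (hfix : ∀ i, (M i).1 a = a) : False := by
  rw [Refl.card_N hρ] at hIH
  refine Refl.box_refl' (CharTwo.two_eq_zero) hG h8 hE hρ hIH hx hcov hl hlin ha (k := fun _ => 1)
    (fun _ => one_ne_zero) (fun i => by rw [hfix, one_smul]) i₀ (fun v => ?_)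
  rw [hu, one_smul, refl_apply]

end Cfsg.Agent.H64.RC
end

-- part: H578/RC/E7
section
/-!
# S3510, row F, box E7 (helper578)
-/

set_option autoImplicit false
open Cfsg

namespace Cfsg.Agent.H578.RC

open QuadraticMap MulAction
open Cfsg.Agent.LieClassical Cfsg.Agent.LieClassical.OrthCore Cfsg.Agent.LieClassical.OrthTrans
open Cfsg.Agent.LieClassical.OrthSimple Cfsg.Agent.ClassicalGeometry.OrthSemi
open Cfsg.Agent.ClassicalGeometry.OrthAut1 Cfsg.Agent.H106.RC Cfsg.Agent.H93.RC Cfsg.Agent.H138.RC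

variable {F V G Ω : Type} [Field F] [Finite F] [AddCommGroup V] [Module F V] [FiniteDimensional F V]
  [Group G] [Finite G] [MulAction G Ω] [Nonempty Ω]
  {Q : QuadraticForm F V} {N : Subgroup G} {ρ : ↥(E Q) →* G}

/-- **box E7**, with an invariant nondegenerate subspace `D` -/
theorem E7_aux [CharP F 2] (hLR : LR Q Ω ρ 2) (hG : Good Q) (hE : Env G Ω N) (hρ : _root_.Cfsg.Agent.H93.RC.Rep Q N ρ)
    (hIH : IH (Nat.card (P Q))) {ι : Type} [Finite ι] {x : ι → G} {M : ι → Gam Q} {r : ι → ℕ}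
    (hl : ∀ i, Lf ρ (x i) (M i)) (hx : PF x r) (hcov : Cov Ω x)
    (h8 : 8 ≤ Module.finrank F V)
    (T : ι → V ≃ₗ[F] V) (hTO : ∀ i, T i ∈ O Q) (hTM : ∀ i v, (M i).1 v = T i v)
    (hTc : ∀ i j, T i * T j = T j * T i)
    (D : Submodule F V) (hD0 : D ≠ ⊥) (hD1 : D ≠ ⊤) (hDn : Nondeg (Q.comp D.subtype))
    (hDi : ∀ i, ∀ v ∈ D, T i v ∈ D)
    (i₀ : ι) (hi₀ : r i₀ = 2) : False := by
  classical
  have hIH' : IH (Nat.card N) := by
    rw [Cfsg.Agent.H64.RC.Refl.card_N hρ] at hIH
    exact hIH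
  have h : FC Q Ω N ρ x M T r := ⟨⟨hG, hE, hρ, hLR, hIH', hx.prime, hx.pow, hx.ne, hx.comm, hcov, hl, hTM,
    fun i v => by rw [one_mul]; exact hTO i v, hTc⟩, hTO⟩
  have hinj := hx.inj
  have hQ := h.nondeg
  have hodd : ∀ i, i ≠ i₀ → r i ≠ 2 := fun i hi h3 => hi (hinj (h3.trans hi₀.symm))
  have hrefl : ∀ (a : V) (ha : Q a ≠ 0), T i₀ = refl Q a ha → False := by
    intro a ha hu
    refine Cfsg.Agent.H64.RC.box_refl_fix hG h8 hE hρ hIH hx hcov hl ?_ ?_ i₀ a ha ?_ ?_
    · intro i b v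
      rw [hTM, hTM, map_smul]
    · intro i v
      rw [hTM]; exact hTO i v
    · intro v
      rw [hTM, hu, refl_apply]
    · intro i
      rw [hTM]
      -- `T i a = a`
      have ha0 : a ≠ 0 := by rintro rfl; exact ha (QuadraticMap.map_zero Q)
      obtain ⟨b, hb⟩ := hQ.exists_polar_eq ha0 (Q a)
      have e1 : refl Q a ha b = b - a := by rw [refl_apply, hb, inv_mul_cancel₀ ha, one_smul]
      have e2 : T i (T i₀ b) = T i₀ (T i b) := h.cm i i₀ b
      rw [hu, e1, map_sub, refl_apply] at e2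
      have e3 : T i a = ((Q a)⁻¹ * polar Q a (T i b)) • a := by
        have := congrArg (fun t => T i b - t) e2
        simpa using this
      obtain ⟨s, hs⟩ : ∃ s, s = (Q a)⁻¹ * polar Q a (T i b) := ⟨_, rfl⟩
      rw [← hs] at e3
      have e4 := hTO i a
      rw [e3, QuadraticMap.map_smul, smul_eq_mul] at e4
      have e5 : (s * s - 1) * Q a = 0 := by rw [sub_mul, e4, one_mul, sub_self]
      have e6 : s * s - 1 = 0 := (mul_eq_zero.1 e5).resolve_right ha
      have e7 : (s - 1) * (s - 1) = 0 := by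
        have two : (2 : F) = 0 := two0
        linear_combination e6 + (1 - s) * two
      have e8 : s = 1 := sub_eq_zero.1 (mul_self_eq_zero.1 e7)
      rw [e3, e8, one_smul]
  by_cases hI : ∃ j, j ≠ i₀ ∧ Nt (T i₀) (Cm (T j))
  · obtain ⟨j, hj, hnt⟩ := hI
    have hoj := h.odd (hodd j hj)
    have hfC : Fpf (T j) (Cm (T j)) := by
      intro v hv hv1
      have h1 : v ∈ Cf (T j) ⊓ Cm (T j) := ⟨mem_Cf.2 hv1, hv⟩
      rw [Cf_inf_Cm hoj (h.pow_one j)] at h1
      exact h1
    by_cases htop : Cm (T j) = ⊤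
    · have hfV : ∀ W : Submodule F V, Fpf (T j) W := fun W v _ hv1 => hfC v (htop ▸ Submodule.mem_top) hv1
      by_cases hDnt : Nt (T i₀) D
      · exact h.caseI hinj i₀ hi₀ h8 hDn hD1 hDi hj (hfV _) hDnt (Or.inr (hfV _))
      · refine h.caseI hinj i₀ hi₀ h8 (nondeg_pp hQ hDn) ?_ (fun i => inv_pp (h.iso i) (hDi i)) hj (hfV _)
          (h.nt_pp hDn hDnt) (Or.inr (hfV _))
        intro h0
        apply hD0
        rw [← pp_pp hQ D, h0, eq_bot_iff]
        intro v hv
        exact (Submodule.mem_bot F).2 (hQ v fun y => by rw [polar_comm]; exact hv y Submodule.mem_top)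
    · refine h.caseI hinj i₀ hi₀ h8 (nondeg_Cm hQ (h.iso j) hoj (h.pow_one j)) htop (fun i => Cm_inv (h.cm i j)) hj
        hfC hnt (Or.inl ?_)
      intro v hv
      rw [Cm_eq hQ (h.iso j), mem_Cf] at hv
      exact hv
  · push Not at hI
    exact h.caseII hinj i₀ hi₀ h8 hI hrefl

/-- `D` is preserved by everything commuting with the `T i` (copy of the definition of the stub file) -/
def BicInv {ι : Type} (T : ι → V ≃ₗ[F] V) (D : Submodule F V) : Prop :=
  ∀ f : V →ₗ[F] V, (∀ i v, f (T i v) = T i (f v)) → ∀ v ∈ D, f v ∈ D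

/-- **BOX E7** (`p = 2`, `x i₀` an involution), stub form. -/
theorem box_E7_of [CharP F 2] (hLR : LR Q Ω ρ 2) (hG : Good Q) (hE : Env G Ω N) (hρ : _root_.Cfsg.Agent.H93.RC.Rep Q N ρ)
    (hIH : IH (Nat.card (P Q))) {ι : Type} [Finite ι] {x : ι → G} {M : ι → Gam Q} {r : ι → ℕ}
    (hl : ∀ i, Lf ρ (x i) (M i)) (hx : PF x r) (hcov : Cov Ω x)
    (h8 : 8 ≤ Module.finrank F V) (_heven : Even (Module.finrank F V))
    (T : ι → V ≃ₗ[F] V) (hTO : ∀ i, T i ∈ O Q) (hTM : ∀ i v, (M i).1 v = T i v)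
    (_hTr : ∀ i, T i ^ r i = 1) (hTc : ∀ i j, T i * T j = T j * T i)
    (hD : ∃ D : Submodule F V, D ≠ ⊥ ∧ D ≠ ⊤ ∧ Nondeg (Q.comp D.subtype) ∧
      BicInv (fun i : {i : ι // r i ≠ 2} => T i) D)
    (i₀ : ι) (hi₀ : r i₀ = 2) : False := by
  obtain ⟨D, hD0, hD1, hDn, hDi⟩ := hD
  exact E7_aux hLR hG hE hρ hIH hl hx hcov h8 T hTO hTM hTc D hD0 hD1 hDn
    (fun i v hv => hDi (T i : V →ₗ[F] V) (fun j w => LinearEquiv.congr_fun (hTc i j) w) v hv) i₀ hi₀

/-- the long root rule (box F1) -/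
theorem lr_two [CharP F 2] (hG : Good Q) (hE : Env G Ω N) (hρ : _root_.Cfsg.Agent.H93.RC.Rep Q N ρ) : LR Q Ω ρ 2 := by
  intro κ _ y L s h1 h2 h3 h4 h5 h6 u w hu hw huw hu0 hind hL hcov
  exact Cfsg.Agent.H297.RC.box_LR hG hE hρ h1 h2 h3 h4 h5 h6 hu hw huw hu0 hind hL hcov

/-- **BOX E7** (`p = 2`, `x i₀` an involution), stub form, no further input. -/
theorem box_E7 [CharP F 2] (hG : Good Q) (hE : Env G Ω N) (hρ : _root_.Cfsg.Agent.H93.RC.Rep Q N ρ)
    (hIH : IH (Nat.card (P Q))) {ι : Type} [Finite ι] {x : ι → G} {M : ι → Gam Q} {r : ι → ℕ}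
    (hl : ∀ i, Lf ρ (x i) (M i)) (hx : PF x r) (hcov : Cov Ω x)
    (h8 : 8 ≤ Module.finrank F V) (heven : Even (Module.finrank F V))
    (T : ι → V ≃ₗ[F] V) (hTO : ∀ i, T i ∈ O Q) (hTM : ∀ i v, (M i).1 v = T i v)
    (hTr : ∀ i, T i ^ r i = 1) (hTc : ∀ i j, T i * T j = T j * T i)
    (hD : ∃ D : Submodule F V, D ≠ ⊥ ∧ D ≠ ⊤ ∧ Nondeg (Q.comp D.subtype) ∧
      BicInv (fun i : {i : ι // r i ≠ 2} => T i) D)
    (i₀ : ι) (hi₀ : r i₀ = 2) : False :=
  box_E7_of (lr_two hG hE hρ) hG hE hρ hIH hl hx hcov h8 heven T hTO hTM hTr hTc hD i₀ hi₀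

end Cfsg.Agent.H578.RC
end

-- part: H721/RC/RowsFinal
section
/-!
# S3510, row F, even dimension: the engine `NoCovEven` and the rows `PΩ⁻`, `PΩ⁺` (helper721)
-/

set_option autoImplicit false
open Cfsg

namespace Cfsg.Agent.H721.RC

open QuadraticMap MulAction
open Cfsg.Agent.LieClassical.OrthCore Cfsg.Agent.LieClassical.OrthTrans
open Cfsg.Agent.LieClassical.OrthSimple Cfsg.Agent.ClassicalGeometry.OrthSemi
open Cfsg.Agent.ClassicalGeometry.OrthAut1 Cfsg.Agent.H106.RC Cfsg.Agent.H93.RC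

theorem boxD4m : BoxD4m := by
  intro F V _ _ _ _ _ Q G Ω _ _ _ _ N ρ hG hE hρ hIH p _ ι _ x M r hl hlin hx hcov h8 κ s t h1 h2 h3 h4 h5 h6
  refine H457.RC.box_D4m_of (p := p) (fun K _ _ _ _ R hR hR4 hm => ?_) hG hE hρ hIH (H520.RC.lr_of hG hE hρ) hl hlin
    hx hcov h8 κ s t h1 h2 h3 h5 h6
  have h := H170.RC.Minus4.of_le_one hR hR4 hm
  exact ⟨h.commutator_E, h.commutator_eq_E.le, h.scal, h.exists_K⟩

theorem boxH : BoxH := box_H_of boxB boxC boxD5 boxD4m boxD4p

theorem boxE7 : BoxE7 := by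
  intro F V _ _ _ _ _ Q G Ω _ _ _ _ N ρ hG hE hρ hIH _ ι _ x M r hl hx hcov h8 heven T hTO hTM hTr hTc hD i₀ hi₀
  refine H578.RC.box_E7 hG hE hρ hIH hl hx hcov h8 heven T hTO hTM hTr hTc ?_ i₀ hi₀
  obtain ⟨D, h1, h2, h3, h4⟩ := hD
  exact ⟨D, h1, h2, h3, fun f hf => h4 f hf⟩

/-- the engine, from box E5 -/
theorem noCovEven_of (hE5 : BoxE5) : NoCovEven := by
  intro F V _ _ _ _ _ Q G Ω _ _ _ _ N ρ hG hE hρ hIH ι _ x M r hl hx hcov h8 heven
  exact no_cov_even_of boxB boxC boxD5 boxD4m boxD4p boxE0 boxH hE5 boxE6 boxE7 hG hE hρ hIH hl hx hcov h8 heven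

theorem boxE5 : BoxE5 :=
  boxE5_of (fun S h => H551.E5.case3 S h) (fun S h => H551.E5.case4 S h)

/-- **the engine**: no cover by commuting elements of different prime orders with semisimilar lifts, `n ≥ 8` even -/
theorem noCovEven : NoCovEven := noCovEven_of boxE5

theorem row_minus : Row (fun S _ => IsPOmegaMinus S) := row_minus_of noCovEven

end Cfsg.Agent.H721.RC
end

private theorem dce_aaaf8aa4f25f : _root_.True := by
  try have : _root_.True := by simp only [_root_.Cfsg.Agent.H457.RC.jj.congr_simp]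
  try have : _root_.True := by simp only [_root_.Cfsg.Agent.H64.RC.Refl.pr.eq_1]
  exact _root_.True.intro
end
end
end
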